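import Groth.Agent.CurvSt.K898.FamR1
import Groth.Agent.Models.H112.NodalFam
import Groth.Agent.CurvesC.TailMain
import Groth.Agent.CurvesC.GenusOne512
import Groth.Agent.Models.H74.CohSide
import Groth.Prelude.Def_StCurv2

/-!
# Families of connected nodal curves of genus `g` (scheme total space)

`K898.StabFam.GeoGenus g f`: every geometric fibre is connected, of dimension one, at worst nodal, of genus `g`.  It holds
for stable, prestable and smooth (pointed) families of genus `g`.  Consequences: `isNodalFamily`, `isPrestableFam`,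
`hRank_zero` (`h⁰ = 1` on all fibres), `hRank_one` (`h¹ = g` on all fibres), `dim_fiber`.
-/

set_option autoImplicit false
universe u

open CategoryTheory CategoryTheory.Limits AlgebraicGeometry Opposite TopologicalSpace CurvSt

namespace K898.StabFam

open Groth.Agent

/-- Every geometric fibre is connected, of dimension one, at worst nodal and of genus `g`. -/
def GeoGenus (g : ℕ) {C T : Scheme.{u}} (f : C ⟶ T) : Prop :=
  ∀ (Ω : Type u) [Field Ω] [IsAlgClosed Ω] (t : Spec (CommRingCat.of Ω) ⟶ T) (X : Scheme.{u}) (i : X ⟶ C)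
      (q : X ⟶ Spec (CommRingCat.of Ω)), IsPullback i q f t →
    ConnectedSpace X ∧ topologicalKrullDim X = 1 ∧
      (letI : X.Over (Spec (CommRingCat.of Ω)) := ⟨q⟩
       Curv2.AtWorstNodal Ω X ∧ Curv2.genus Ω X = g)

section Of

variable {C T : Scheme.{u}} {f : C ⟶ T} {g n : ℕ}

theorem geoGenus_of_isStableFam {σ : Fin n → (T ⟶ C)} {hσ : ∀ i, σ i ≫ f = 𝟙 T}
    (h : IsStableFam f σ hσ g) : GeoGenus g f := fun Ω _ _ t X i q hP =>
  let ⟨_, h2, h3, h4, _⟩ := h.2.2.2 Ω t X i q hP
  ⟨h2, h3, h4⟩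

theorem geoGenus_of_isPrestablePtdFam {σ : Fin n → (T ⟶ C)} {hσ : ∀ i, σ i ≫ f = 𝟙 T}
    (h : IsPrestablePtdFam f σ hσ g) : GeoGenus g f := fun Ω _ _ t X i q hP =>
  let ⟨_, h2, h3, h4, _⟩ := h.2.2.2 Ω t X i q hP
  ⟨h2, h3, h4⟩

theorem geoGenus_of_isCurveOfGenus (h : ModFun.IsCurveOfGenus g f) : GeoGenus g f := by
  intro Ω _ _ t X i q hP
  obtain ⟨h1, h2, h3, h4⟩ := h
  obtain ⟨h5, h6⟩ := h4 Ω t X i q hP
  have hq : Smooth q := MorphismProperty.of_isPullback hP h1
  have hirr : IrreducibleSpace X :=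
    GeometricallyIrreducible.geometrically_irreducibleSpace (f := f) _ _ _ hP
  refine ⟨inferInstance, h5, ?_, h6⟩
  exact Models.H112.NodalFam.atWorstNodal_of_smooth q

theorem GeoGenus.of_isPullback (h : GeoGenus g f) {C' T' : Scheme.{u}} {a : C' ⟶ C} {f' : C' ⟶ T'}
    {b : T' ⟶ T} (sq : IsPullback a f' f b) : GeoGenus g f' := fun Ω _ _ t X i q hP =>
  h Ω (t ≫ b) X (i ≫ a) q (hP.paste_horiz sq)

end Of

/-- Every point of a scheme is the image of a geometric point. -/
theorem exists_geometric_point (T : Scheme.{u}) (s : T) :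
    ∃ (Ω : Type u) (_ : Field Ω) (_ : IsAlgClosed Ω) (t : Spec (CommRingCat.of Ω) ⟶ T),
      t (IsLocalRing.closedPoint Ω) = s := by
  refine ⟨AlgebraicClosure (T.residueField s), inferInstance, inferInstance,
    Spec.map (CommRingCat.ofHom (algebraMap (T.residueField s) (AlgebraicClosure (T.residueField s)))) ≫
      T.fromSpecResidueField s, ?_⟩
  have h : (Spec.map (CommRingCat.ofHom (algebraMap (T.residueField s) (AlgebraicClosure (T.residueField s)))) ≫
      T.fromSpecResidueField s) (IsLocalRing.closedPoint _) ∈ Set.range (T.fromSpecResidueField s) :=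
    ⟨_, rfl⟩
  rw [Scheme.range_fromSpecResidueField] at h
  exact h

section Facts

variable {C T : Scheme.{u}} (f : C ⟶ T) {g : ℕ} (h : GeoGenus g f)

section GeomFibre

variable {Ω : Type u} [Field Ω] [IsAlgClosed Ω] {X : Scheme.{u}} (q : X ⟶ Spec (CommRingCat.of Ω)) [IsProper q]
  [ConnectedSpace X] (hd : topologicalKrullDim X = 1)

omit [IsAlgClosed Ω] in
include q hd in
theorem pure (Z : Set X) (hZ : Z ∈ irreducibleComponents (X : Type u)) : topologicalKrullDim Z = 1 := by
  have h1 : IsLocallyNoetherian X := LocallyOfFiniteType.isLocallyNoetherian q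
  have h2 : CompactSpace X := QuasiCompact.compactSpace_of_compactSpace q
  have h3 : IsNoetherian X := { }
  exact CurvesC.TailMain.pure_of_connected X hd Z hZ

omit [IsAlgClosed Ω] [ConnectedSpace X] in
theorem isReduced (hn : letI : X.Over (Spec (CommRingCat.of Ω)) := ⟨q⟩; Curv2.AtWorstNodal Ω X) :
    IsReduced X := by
  let i1 : X.Over (Spec (CommRingCat.of Ω)) := ⟨q⟩
  have : IsProper (X ↘ Spec (CommRingCat.of Ω)) := ‹IsProper q›
  exact CurvesC.GenusOne512.isReduced_of_atWorstNodal Ω X hn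

theorem hRank_zero_geometric
    (hn : letI : X.Over (Spec (CommRingCat.of Ω)) := ⟨q⟩; Curv2.AtWorstNodal Ω X) :
    Models.hRank Ω X q (Coh.structureModule X) 0 = 1 := by
  have := isReduced q hn
  let i1 : X.Over (Spec (CommRingCat.of Ω)) := ⟨q⟩
  have : IsProper (X ↘ Spec (CommRingCat.of Ω)) := ‹IsProper q›
  exact Groth.Agent.Models.H74.CohSide.finrank_HH_zero_eq_one Ω

end GeomFibre

variable [IsProper f]

include h

theorem hRank_zero (s : T) : Models.hRank ↥(T.residueField s) (f.fiber s) (f.fiberToSpecResidueField s)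
      (Coh.structureModule (f.fiber s)) 0 = 1 := by
  obtain ⟨Ω, _, _, t, rfl⟩ := exists_geometric_point T s
  obtain ⟨h1, h2, h3, h4⟩ := h Ω t _ _ _ (IsPullback.of_hasPullback f t)
  have hp : IsProper (pullback.snd f t) := inferInstance
  rw [← K898.FamH0.hRank_of_point t (IsPullback.of_hasPullback f t) 0]
  exact hRank_zero_geometric _ h3

theorem hRank_one (s : T) : Models.hRank ↥(T.residueField s) (f.fiber s) (f.fiberToSpecResidueField s)
      (Coh.structureModule (f.fiber s)) 1 = g := by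
  obtain ⟨Ω, _, _, t, rfl⟩ := exists_geometric_point T s
  obtain ⟨h1, h2, h3, h4⟩ := h Ω t _ _ _ (IsPullback.of_hasPullback f t)
  rw [← K898.FamH0.hRank_of_point t (IsPullback.of_hasPullback f t) 1]
  exact h4

theorem dim_fiber (s : T) : topologicalKrullDim (f.fiber s) = 1 := by
  obtain ⟨Ω, _, _, t, rfl⟩ := exists_geometric_point T s
  obtain ⟨h1, h2, h3, h4⟩ := h Ω t _ _ _ (IsPullback.of_hasPullback f t)
  rw [← Flat2G.ProperDim.topologicalKrullDim_field_point f (Field.toIsField Ω) _ _ _
    (IsPullback.of_hasPullback f t) (IsLocalRing.closedPoint Ω)]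
  exact h2

theorem connectedSpace_fiber (s : T) : ConnectedSpace (f.fiber s) :=
  K898.HZeroOne.connectedSpace_of_hRank _ _ _ (hRank_zero f h s)

theorem isNodalFamily [Flat f] [LocallyOfFinitePresentation f] : Curv2.IsNodalFamily f := by
  refine ⟨inferInstance, inferInstance, fun s => ?_⟩
  obtain ⟨Ω, _, _, t, hs⟩ := exists_geometric_point T s
  obtain ⟨h1, h2, h3, h4⟩ := h Ω t _ _ _ (IsPullback.of_hasPullback f t)
  exact Models.H112.NodalFam.isNodalFibre_of_isPullback f Ω t _ _ (IsPullback.of_hasPullback f t)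
    (pure (pullback.snd f t) h2) h3 s ⟨_, hs⟩

theorem isPrestableFam [Flat f] [LocallyOfFinitePresentation f] : IsPrestableFam f :=
  ⟨inferInstance, isNodalFamily f h, fun Ω _ _ t X i q hP => (h Ω t X i q hP).1⟩

theorem isIso_unitToPush_baseChange [Flat f] [LocallyOfFinitePresentation f] {T' : Scheme.{u}} (b : T' ⟶ T) :
    IsIso (ClSub.unitToPush (pullback.snd f b)) :=
  K898.FamH0.isIso_unitToPush_baseChange f (hRank_zero f h) b

end Facts

end K898.StabFam
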