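import Groth.Agent.CurvSt.K898.QCStack
import Groth.Agent.AlgSt.K737.Atlas
import Groth.Agent.AlgSt.K743.Pt
import Groth.Agent.AlgSt.K747.EtAlias

/-!
# Quasi-compactness of stacks in any universe, and for the etale topology

* `isQuasiCompact_of_family` : a stack (any universes) with a smooth atlas and an object over a quasi-compact scheme hitting
  all objects over algebraically closed fields is quasi-compact.
* `isQuasiCompactMor_etale`.
-/

set_option autoImplicit false
set_option backward.isDefEq.respectTransparency false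
set_option backward.isDefEq.respectTransparency.types false

universe v₂ u₂ u

open CategoryTheory CategoryTheory.Limits AlgebraicGeometry Opposite

namespace K898.QCAny

variable {S : Scheme.{u}} {𝒳 : BasedCategory.{v₂, u₂} (Over S)}

/-- A family hitting all objects over algebraically closed fields defines a chart surjective on points. -/
theorem exists_surjective_ofChart (h𝒳 : FibCat.IsFibGrpd 𝒳.p) (A : 𝒳.obj) {U : Over S}
    (hA : 𝒳.p.obj A = U)
    (H : ∀ (Ω : Type u) [Field Ω] [IsAlgClosed Ω] (t : Spec (CommRingCat.of Ω) ⟶ S) (x : 𝒳.obj),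
      𝒳.p.obj x = Over.mk t → Nonempty (x ⟶ A)) :
    ∃ y : FibCat.overCat U ⥤ᵇ 𝒳, Function.Surjective (AlgSt.Points.ofChart y) := by
  obtain ⟨y, hy⟩ := K898.QCStack.exists_isSurjective h𝒳 A hA H
  refine ⟨y, fun z => ?_⟩
  obtain ⟨w, rfl⟩ := hy z
  exact ⟨K743.Pt.toPt w, by rw [K743.Pt.ofChart_eq, K743.Pt.pt_toPt]⟩

theorem isQuasiCompact_of_family (h𝒳 : FibCat.IsFibGrpd 𝒳.p) (hat : AlgSt.HasAtlas (AlgSp.LocP @Smooth) 𝒳) (A : 𝒳.obj)
    (hA : CompactSpace ↥(𝒳.p.obj A).left)
    (H : ∀ (Ω : Type u) [Field Ω] [IsAlgClosed Ω] (t : Spec (CommRingCat.of Ω) ⟶ S) (x : 𝒳.obj),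
      𝒳.p.obj x = Over.mk t → Nonempty (x ⟶ A)) : AlgSt.IsQuasiCompact 𝒳 := by
  obtain ⟨y, hy⟩ := exists_surjective_ofChart h𝒳 A rfl H
  have := K737.Atlas.compactSpace_of_chart (fun T y => K737.Chart.continuous_ofChart h𝒳 hat y) y hy
  exact K737.Atlas.isQuasiCompact_of_compactSpace h𝒳 hat

/-- Quasi-compact morphisms for the fppf topology are so for the etale topology. -/
theorem isQuasiCompactMor_etale {𝒳 𝒴 : AlgSt.Cat S} {f : 𝒳 ⥤ᵇ 𝒴}
    (h : AlgSt.IsQuasiCompactMor Scheme.fppfPrecoverage f) : AlgSt.IsQuasiCompactMor Scheme.etalePrecoverage f :=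
  fun 𝒵 h𝒵 hq g => h 𝒵 ((K747.EtFppf.isAlgStack_iff (K747.EtFppf.boot2 S)).1 h𝒵) hq g

end K898.QCAny
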