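import Groth.Agent.CurvSt.K898.SchStk
import Groth.Agent.CurvSt.K902.SliceFam
import Groth.Agent.CurvSt.K901.OpenSub
import Groth.Agent.AlgSt.K740.Inv

/-!
# `Mbar S g n` and `Mgn S g n` as open substacks of `Curves S n`

* `isCurveFam_of_hom` : families of curves are stable under base change.
* `matchStable`, `matchSmooth` : the conditions `IsStableFam` / `IsSmoothPtdFam` on families of schemes and
  `SpIsStablePtd` / `SpIsSmoothPtd` on families of curves correspond to each other.
* `isAlgStack_mbar`, `isAlgStack_mgn` : algebraicity from the algebraicity of `Curves S n`, openness of the loci,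
  the existence of etale local schemes and of relatively ample modules.
-/

set_option autoImplicit false
set_option backward.isDefEq.respectTransparency false
set_option backward.isDefEq.respectTransparency.types false
universe u
open CategoryTheory CategoryTheory.Limits AlgebraicGeometry Opposite AlgSp CurvSt

namespace K898.MbarEq

open K898.SchStk K901.GeomFibAt

variable {S : Scheme.{u}} {n : ℕ}

/-- Families of curves are stable under base change. -/
theorem isCurveFam_of_hom ⦃A B : SpFamObj S n⦄ (φ : A ⟶ B) (h : IsCurveFam B) : IsCurveFam A := by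
  have hA := IsAlgSpace.yon_obj A.base
  have hB := IsAlgSpace.yon_obj B.base
  have h1 := (K902.Slice.curveMor_of_isCurveFam h).of_isPullback h.1 hB hA φ.cart
  exact ⟨K608.Comp.isAlgSpace_of_isPullback φ.cart h.1 hA hB, h1.flat, h1.proper, h1.fp, h1.dim⟩

theorem geomFib_of_hom {P : FibProp.{u} n} {A B : SpFamObj S n} (φ : A ⟶ B) (h : GeomFib P B) : GeomFib P A :=
  geomFib_iff.2 fun Ω _ _ t => (geomFibAt_iff_of_hom φ t).2 (geomFib_iff.1 h Ω _)

/-- The structure morphism of a family of schemes which is a family of curves. -/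
theorem facts (B : PtFamObj S n) (h : IsCurveFam ((toSpFam S n).obj B)) :
    Flat B.f ∧ IsProper B.f ∧ LocallyOfFinitePresentation B.f ∧
      ∀ x, FlatMor.fibreDimAt B.f x ≤ ((1 : ℕ) : WithBot ℕ∞) := by
  refine K901.SchFib.facts (A := (toSpFam S n).obj B) h (X' := B.totOver) (T' := B.base) (g := 𝟙 _) (q := B.fOver)
    (i := 𝟙 _) ?_
  rw [CategoryTheory.Functor.map_id]
  exact IsPullback.of_horiz_isIso ⟨by
    rw [Category.id_comp, Category.comp_id]
    rfl⟩

/-- Stable pointed families of schemes are families of curves. -/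
theorem isCurveFam_of_stable {g : ℕ} (B : PtFamObj S n) (h : IsStableFam B.f B.sect B.sect_f g) :
    IsCurveFam ((toSpFam S n).obj B) := by
  have h1 : Flat B.f := h.1
  have h2 : IsProper B.f := h.2.1
  have h3 : LocallyOfFinitePresentation B.f := h.2.2.1
  have h4 := K898.StabFam.isNodalFamily B.f (K898.StabFam.geoGenus_of_isStableFam h)
  exact K899.CurveFam.isCurveFam_toSpFam B h1 h2 h3 (K899.NodalFib.fibreDimAt_le B.f fun s => (h4.2.2 s).1)

theorem matchStable (g : ℕ) (hAmp : ∀ B : PtFamObj S n, IsStableFam B.f B.sect B.sect_f g →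
      ∃ L : B.C.Modules, RelAmple.IsRelAmple B.f L) :
    Match (S := S) (n := n) (fun B => IsStableFam B.f B.sect B.sect_f g) (fun A => SpIsStablePtd A.obj g) where
  isCurveFam := isCurveFam_of_stable
  toQ B h := (K903.GeomFib.geomFib_toSpFam_iff _ B).2 h.2.2.2
  ofQ B hc h := by
    obtain ⟨h1, h2, h3, -⟩ := facts B hc
    exact ⟨h1, h2, h3, (K903.GeomFib.geomFib_toSpFam_iff _ B).1 h⟩
  stable A B φ h := geomFib_of_hom φ.hom h
  ample := hAmp

/-- The condition on the geometric fibres of smooth pointed families. -/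
def SmProp (n g : ℕ) : FibProp.{u} n := fun Ω _ _ X q x =>
  IrreducibleSpace X ∧ topologicalKrullDim X = 1 ∧
    (letI : X.Over (Spec (CommRingCat.of Ω)) := ⟨q⟩
     Curv2.genus Ω X = g) ∧ Function.Injective x

/-- Smooth pointed families of genus `g` with algebraic space total space. -/
def SpIsSmoothPtd (A : SpFamObj S n) (g : ℕ) : Prop :=
  AlgSp.LocP @Smooth A.f ∧ GeomFib (SmProp n g) A

theorem isCurveFam_of_smooth {g : ℕ} (B : PtFamObj S n) (h : IsSmoothPtdFam B.f B.sect g) :
    IsCurveFam ((toSpFam S n).obj B) := by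
  obtain ⟨h1, h2, -⟩ := h.1
  have h4 := K898.StabFam.isNodalFamily B.f (K898.StabFam.geoGenus_of_isCurveOfGenus h.1)
  exact K899.CurveFam.isCurveFam_toSpFam B inferInstance h2 inferInstance
    (K899.NodalFib.fibreDimAt_le B.f fun s => (h4.2.2 s).1)

/-- The identity square of a family of schemes. -/
theorem isPullback_id (B : PtFamObj S n) : IsPullback (𝟙 ((yon S).obj B.totOver)) ((yon S).map B.fOver)
    ((toSpFam S n).obj B).f ((yon S).map (𝟙 B.base)) := by
  rw [CategoryTheory.Functor.map_id]
  exact IsPullback.of_horiz_isIso ⟨by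
    rw [Category.id_comp, Category.comp_id]
    rfl⟩

/-- Two sections of a morphism through the same point agree on the residue field. -/
theorem section_eq {C T : Scheme.{u}} {f : C ⟶ T} {a b : T ⟶ C} (ha : a ≫ f = 𝟙 T) (hb : b ≫ f = 𝟙 T) (c : T)
    (hc : a.base c = b.base c) {Ω : Type u} [Field Ω] (t : Spec (CommRingCat.of Ω) ⟶ T)
    (ht : t.base (IsLocalRing.closedPoint Ω) = c) : t ≫ a = t ≫ b := by
  -- reduce to the residue field
  have key : T.fromSpecResidueField c ≫ a = T.fromSpecResidueField c ≫ b := by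
    let K := T.residueField c
    obtain ⟨⟨x, α⟩, hα⟩ := (Scheme.SpecToEquivOfField K C).symm.surjective (T.fromSpecResidueField c ≫ a)
    obtain ⟨⟨x', β⟩, hβ⟩ := (Scheme.SpecToEquivOfField K C).symm.surjective (T.fromSpecResidueField c ≫ b)
    change Spec.map α ≫ C.fromSpecResidueField x = _ at hα
    change Spec.map β ≫ C.fromSpecResidueField x' = _ at hβ
    have hx : x = x' := by
      have h1 := congrArg (fun k : Spec (CommRingCat.of K) ⟶ C => k (IsLocalRing.closedPoint K)) hα
      have h2 := congrArg (fun k : Spec (CommRingCat.of K) ⟶ C => k (IsLocalRing.closedPoint K)) hβ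
      have h3 : (T.fromSpecResidueField c) (IsLocalRing.closedPoint K) = c := by simp
      have h4 : (Spec.map α ≫ C.fromSpecResidueField x) (IsLocalRing.closedPoint K) = x := by simp
      have h5 : (Spec.map β ≫ C.fromSpecResidueField x') (IsLocalRing.closedPoint K) = x' := by simp
      have h6 : (T.fromSpecResidueField c ≫ a) (IsLocalRing.closedPoint K) = a c := by
        rw [Scheme.Hom.comp_apply, h3]
      have h7 : (T.fromSpecResidueField c ≫ b) (IsLocalRing.closedPoint K) = b c := by
        rw [Scheme.Hom.comp_apply, h3]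
      rw [← h4, ← h5]
      refine h1.trans (Eq.trans ?_ h2.symm)
      exact h6.trans (Eq.trans hc h7.symm)
    subst hx
    -- the composite with `f`
    have h8 : (C.fromSpecResidueField x ≫ f) = Spec.map (f.residueFieldMap x) ≫ T.fromSpecResidueField (f x) :=
      (Scheme.Hom.SpecMap_residueFieldMap_fromSpecResidueField f x).symm
    have hcx : f x = c := by
      have h1 : x = a c := by
        have h1 := congrArg (fun k : Spec (CommRingCat.of K) ⟶ C => k (IsLocalRing.closedPoint K)) hα
        have h4 : (Spec.map α ≫ C.fromSpecResidueField x) (IsLocalRing.closedPoint K) = x := by simp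
        have h6 : (T.fromSpecResidueField c ≫ a) (IsLocalRing.closedPoint K) = a c := by
          rw [Scheme.Hom.comp_apply]; simp
        exact h4.symm.trans (h1.trans h6)
      rw [h1, ← Scheme.Hom.comp_apply, ha]
      rfl
    subst hcx
    have e1 : Spec.map α ≫ Spec.map (f.residueFieldMap x) = 𝟙 _ := by
      rw [← cancel_mono (T.fromSpecResidueField (f x)), Category.assoc, ← h8, reassoc_of% hα, ha]
      simp
    have e2 : Spec.map β ≫ Spec.map (f.residueFieldMap x) = 𝟙 _ := by
      rw [← cancel_mono (T.fromSpecResidueField (f x)), Category.assoc, ← h8, reassoc_of% hβ, hb]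
      simp
    rw [← Spec.map_comp, ← Spec.map_id] at e1 e2
    have e1' : f.residueFieldMap x ≫ α = 𝟙 _ := Spec.map_injective e1
    have e2' : f.residueFieldMap x ≫ β = 𝟙 _ := Spec.map_injective e2
    have hαβ : α = β := by
      ext y
      have hi : Function.Injective α.hom := RingHom.injective _
      have h9 : ∀ z, α.hom ((f.residueFieldMap x).hom z) = z := fun z => congrArg (fun k => k.hom z) e1'
      have h10 : ∀ z, β.hom ((f.residueFieldMap x).hom z) = z := fun z => congrArg (fun k => k.hom z) e2'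
      have h11 : (f.residueFieldMap x).hom (α.hom y) = y := hi (h9 _)
      have h12 := h10 (α.hom y)
      rw [h11] at h12
      exact h12.symm
    rw [← hα, ← hβ, hαβ]
  subst ht
  obtain ⟨⟨x, α⟩, rfl⟩ := (Scheme.SpecToEquivOfField Ω T).symm.surjective t
  have hx : ((Scheme.SpecToEquivOfField Ω T).symm ⟨x, α⟩).base (IsLocalRing.closedPoint Ω) = x := by
    change (Spec.map α ≫ T.fromSpecResidueField x) (IsLocalRing.closedPoint Ω) = x
    simp
  rw [hx] at key
  change (Spec.map α ≫ T.fromSpecResidueField x) ≫ a = (Spec.map α ≫ T.fromSpecResidueField x) ≫ b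
  rw [Category.assoc, Category.assoc, key]

theorem markedPt_injective_iff {C T : Scheme.{u}} {f : C ⟶ T} {σ : Fin n → (T ⟶ C)} {hσ : ∀ i, σ i ≫ f = 𝟙 T} :
    (∀ i j, i ≠ j → ∀ c : T, (σ i).base c ≠ (σ j).base c) ↔
      ∀ (Ω : Type u) [Field Ω] [IsAlgClosed Ω] (t : Spec (CommRingCat.of Ω) ⟶ T) (X : Scheme.{u}) (i : X ⟶ C)
        (q : X ⟶ Spec (CommRingCat.of Ω)) (hP : IsPullback i q f t), Function.Injective (markedPt σ hσ hP) := by
  -- the image of a marked point
  have key : ∀ (Ω : Type u) [Field Ω] [IsAlgClosed Ω] (t : Spec (CommRingCat.of Ω) ⟶ T) (X : Scheme.{u}) (i : X ⟶ C)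
        (q : X ⟶ Spec (CommRingCat.of Ω)) (hP : IsPullback i q f t) (k : Fin n),
        i.base (markedPt σ hσ hP k) = (σ k).base (t.base (IsLocalRing.closedPoint Ω)) := by
    intro Ω _ _ t X i q hP k
    have h1 := hP.lift_fst (t ≫ σ k) (𝟙 _) (by rw [Category.assoc, hσ, Category.comp_id, Category.id_comp])
    have h2 := congrArg (fun z : Spec (CommRingCat.of Ω) ⟶ C => z.base (IsLocalRing.closedPoint Ω)) h1
    exact h2
  constructor
  · intro h Ω _ _ t X i q hP a b hab
    by_contra hne
    exact h a b hne (t.base (IsLocalRing.closedPoint Ω)) (by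
      rw [← key Ω t X i q hP, ← key Ω t X i q hP, hab])
  · intro h a b hne c hc
    obtain ⟨Ω, _, _, t, ht⟩ := K898.StabFam.exists_geometric_point T c
    have h1 := section_eq (hσ a) (hσ b) c hc t ht
    refine hne (h Ω t _ _ _ (IsPullback.of_hasPullback f t) ?_)
    have h2 : (IsPullback.of_hasPullback f t).lift (t ≫ σ a) (𝟙 _)
        (by rw [Category.assoc, hσ, Category.comp_id, Category.id_comp]) =
        (IsPullback.of_hasPullback f t).lift (t ≫ σ b) (𝟙 _)
        (by rw [Category.assoc, hσ, Category.comp_id, Category.id_comp]) := by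
      apply (IsPullback.of_hasPullback f t).hom_ext
      · rw [IsPullback.lift_fst, IsPullback.lift_fst, h1]
      · rw [IsPullback.lift_snd, IsPullback.lift_snd]
    exact congrArg (fun k => k.base (IsLocalRing.closedPoint Ω)) h2

/-- Geometric irreducibility is tested on algebraically closed fields. -/
theorem geometricallyIrreducible_of {C T : Scheme.{u}} (f : C ⟶ T)
    (h : ∀ (Ω : Type u) [Field Ω] [IsAlgClosed Ω] (t : Spec (CommRingCat.of Ω) ⟶ T) (X : Scheme.{u}) (i : X ⟶ C)
        (q : X ⟶ Spec (CommRingCat.of Ω)), IsPullback i q f t → IrreducibleSpace X) : GeometricallyIrreducible f := by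
  refine ⟨fun K _ y Z fst snd hZ => ?_⟩
  let Ω := AlgebraicClosure K
  let e : Spec (CommRingCat.of Ω) ⟶ Spec (CommRingCat.of K) := Spec.map (CommRingCat.ofHom (algebraMap K Ω))
  have hs : Surjective e := by
    refine ⟨fun x => ⟨IsLocalRing.closedPoint Ω, ?_⟩⟩
    have : Subsingleton (Spec (CommRingCat.of K)) := inferInstanceAs (Subsingleton (PrimeSpectrum K))
    exact Subsingleton.elim _ _
  have h1 := h Ω (e ≫ y) _ _ _ ((IsPullback.of_hasPullback snd e).paste_horiz hZ)
  have h2 : Surjective (pullback.fst snd e) := inferInstance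
  exact Function.Surjective.irreducibleSpace (f := pullback.fst snd e) (pullback.fst snd e).continuous h2.surj

theorem matchSmooth (g : ℕ) (hAmp : ∀ B : PtFamObj S n, IsSmoothPtdFam B.f B.sect g →
      ∃ L : B.C.Modules, RelAmple.IsRelAmple B.f L) :
    Match (S := S) (n := n) (fun B => IsSmoothPtdFam B.f B.sect g) (fun A => SpIsSmoothPtd A.obj g) where
  isCurveFam := isCurveFam_of_smooth
  toQ B h := by
    refine ⟨K899.CurveFam.locP_smooth B.fOver h.1.1, (K903.GeomFib.geomFib_toSpFam_iff _ B).2 ?_⟩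
    intro Ω _ _ t X' i q hP
    have h3 : GeometricallyIrreducible B.f := h.1.2.2.1
    have hirr : IrreducibleSpace X' :=
      GeometricallyIrreducible.geometrically_irreducibleSpace (f := B.f) _ _ _ hP
    obtain ⟨h4, h5⟩ := h.1.2.2.2 Ω t X' i q hP
    exact ⟨hirr, h4, h5, markedPt_injective_iff.1 h.2 Ω t X' i q hP⟩
  ofQ B hc h := by
    obtain ⟨h1, h2, h3, -⟩ := facts B hc
    have h4 := (K903.GeomFib.geomFib_toSpFam_iff _ B).1 h.2
    have h5 : Smooth B.f := K901.SchFib.locP_of_isPullback (q := B.fOver) K597.etLoc_smooth hc.1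
      (IsAlgSpace.yon_obj _) h.1 (isPullback_id B)
    refine ⟨⟨h5, h2, geometricallyIrreducible_of _ fun Ω _ _ t X i q hP => (h4 Ω t X i q hP).1,
      fun Ω _ _ t X i q hP => ⟨(h4 Ω t X i q hP).2.1, (h4 Ω t X i q hP).2.2.1⟩⟩,
      markedPt_injective_iff.2 fun Ω _ _ t X i q hP => (h4 Ω t X i q hP).2.2.2⟩
  stable A B φ h := ⟨K597.locP_bc K597.etLoc_smooth φ.hom.cart B.property.1.hasAtlas
    (IsAlgSpace.yon_obj B.obj.base).hasAtlas (IsAlgSpace.yon_obj A.obj.base).hasAtlas h.1, geomFib_of_hom φ.hom h.2⟩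
  ample := hAmp

/-! ### algebraicity -/

/-- The stack of stable pointed curves is a full subcategory of the stack of all pointed curves. -/
theorem isEquivOver_mbar (g : ℕ) (hE : ∀ A : (Curves S n).obj, K901.EtSch.EtLocSch A.obj)
    (hAmp : ∀ B : PtFamObj S n, IsStableFam B.f B.sect B.sect_f g → ∃ L : B.C.Modules, RelAmple.IsRelAmple B.f L) :
    FibCat.IsEquivOver (comp (matchStable (S := S) (n := n) g hAmp)) :=
  isEquivOver_comp _ hE isCurveFam_of_hom

theorem isEquivOver_mgn (g : ℕ) (hE : ∀ A : (Curves S n).obj, K901.EtSch.EtLocSch A.obj)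
    (hAmp : ∀ B : PtFamObj S n, IsSmoothPtdFam B.f B.sect g → ∃ L : B.C.Modules, RelAmple.IsRelAmple B.f L) :
    FibCat.IsEquivOver (comp (matchSmooth (S := S) (n := n) g hAmp)) :=
  isEquivOver_comp _ hE isCurveFam_of_hom

theorem isAlgStack_mbar (g : ℕ) (hC : AlgSt.IsAlgStack Scheme.fppfPrecoverage (Curves S n))
    (hE : ∀ A : (Curves S n).obj, K901.EtSch.EtLocSch A.obj)
    (hAmp : ∀ B : PtFamObj S n, IsStableFam B.f B.sect B.sect_f g → ∃ L : B.C.Modules, RelAmple.IsRelAmple B.f L)
    (hO : K901.OpenSub.OpenLocus (Curves S n) (fun A => SpIsStablePtd A.obj g)) :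
    AlgSt.IsAlgStack Scheme.fppfPrecoverage (Mbar S g n) :=
  (K740.Inv.isAlgStack_iff _ (isEquivOver_mbar g hE hAmp)).2 (K901.OpenSub.isOpenSubstack_fppf hC hO).2.1

theorem isAlgStack_mgn (g : ℕ) (hC : AlgSt.IsAlgStack Scheme.fppfPrecoverage (Curves S n))
    (hE : ∀ A : (Curves S n).obj, K901.EtSch.EtLocSch A.obj)
    (hAmp : ∀ B : PtFamObj S n, IsSmoothPtdFam B.f B.sect g → ∃ L : B.C.Modules, RelAmple.IsRelAmple B.f L)
    (hO : K901.OpenSub.OpenLocus (Curves S n) (fun A => SpIsSmoothPtd A.obj g)) :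
    AlgSt.IsAlgStack Scheme.fppfPrecoverage (Mgn S g n) :=
  (K740.Inv.isAlgStack_iff _ (isEquivOver_mgn g hE hAmp)).2 (K901.OpenSub.isOpenSubstack_fppf hC hO).2.1

end K898.MbarEq
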