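import Groth.Agent.CurvSt.K901.LociSub
import Groth.Agent.CurvSt.K901.LociCMGor
import Groth.Agent.CurvSt.K902.LociDim
import Groth.Agent.AlgSp.K616.SmoothDim
import Groth.Agent.Sga4h.BidRed538Geo
import Groth.Agent.S2768

/-!
# Smooth (of relative dimension `n`) as a pointwise property

`K898.SmoothRel.smooth_iff : Smooth f ↔ ∀ x, SmoothAt f x` and
`K898.SmoothRel.smoothOfRelativeDimension_iff : SmoothOfRelativeDimension n f ↔ ∀ x, AndDim SmoothAt n f x`;
the corresponding `LocusProp`s are `K901.Loci.locusProp_smooth` and `K898.SmoothRel.locusProp_smoothDim`.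
-/

set_option autoImplicit false
universe u

open AlgebraicGeometry CategoryTheory CategoryTheory.Limits

namespace K898.SmoothRel

open K901.Loci K902.LociDim Groth.Agent

theorem smooth_iff {X Y : Scheme.{u}} (f : X ⟶ Y) : Smooth f ↔ ∀ x, SmoothAt f x := by
  constructor
  · intro h x
    exact ⟨⊤, trivial, inferInstance⟩
  · intro h
    choose U hU hs using h
    refine (IsZariskiLocalAtSource.iff_of_iSup_eq_top (P := @Smooth) U ?_).2 hs
    exact eq_top_iff.2 fun x _ => TopologicalSpace.Opens.mem_iSup.2 ⟨x, hU x⟩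

theorem smoothOfRelativeDimension_iff (n : ℕ) {X Y : Scheme.{u}} (f : X ⟶ Y) :
    SmoothOfRelativeDimension n f ↔ ∀ x, AndDim SmoothAt (n : WithBot ℕ∞) f x := by
  constructor
  · intro h x
    have : Smooth f := SmoothOfRelativeDimension.smooth n f
    exact ⟨⟨⊤, trivial, inferInstance⟩, S2768.result n f x⟩
  · intro h
    have : Smooth f := (smooth_iff f).2 fun x => (h x).1
    choose m U hU hs using Sga4h.BidRed538Geo.exists_relDim f
    refine (IsZariskiLocalAtSource.iff_of_iSup_eq_top (P := @SmoothOfRelativeDimension n) U ?_).2 fun x => ?_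
    · exact eq_top_iff.2 fun x _ => TopologicalSpace.Opens.mem_iSup.2 ⟨x, hU x⟩
    · have h1 := hs x
      have h2 := @S2768.result (m x) _ _ ((U x).ι ≫ f) h1 ⟨x, hU x⟩
      have h3 := K616.DimInv.fibreDimAt_comp_of_etale (U x).ι f ⟨x, hU x⟩
      have h4 : (m x : WithBot ℕ∞) = (n : WithBot ℕ∞) := by
        rw [← h2, h3]
        exact (h x).2
      have h5 : m x = n := by exact_mod_cast h4
      rw [← h5]
      exact h1

theorem isCMAt_of_smoothAt {X Y : Scheme.{u}} (f : X ⟶ Y) (x : X) (h : SmoothAt f x) : MoreMor.IsCMAt f x := by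
  obtain ⟨U, hx, hU⟩ := h
  let y : (U : Scheme.{u}) := ⟨x, hx⟩
  have h1 := K616.SmoothDim.isCMAt_of_smooth (U.ι ≫ f) y
  rw [Flat2D.FiberStalk.moreMor_isCMAt_iff] at h1 ⊢
  let e : X.presheaf.stalk x ≃+* (U : Scheme.{u}).presheaf.stalk y :=
    (asIso (U.ι.stalkMap y)).commRingCatIsoToRingEquiv
  have h3 : Flat2D.FiberStalk.fibreIdeal (U.ι ≫ f) y = (Flat2D.FiberStalk.fibreIdeal f x).map (e : _ →+* _) := by
    rw [Flat2D.CMConverse.fibreIdeal_comp]
    rfl
  obtain ⟨h4, h5⟩ := h1
  refine ⟨?_, ?_⟩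
  · have h6 : (f.stalkMap x).hom = (e.symm : _ →+* _).comp ((U.ι ≫ f).stalkMap y).hom := by
      rw [Scheme.Hom.stalkMap_comp]
      ext z
      exact (e.symm_apply_apply _).symm
    rw [h6]
    exact RingHom.Flat.comp h4 (RingHom.Flat.of_bijective e.symm.bijective)
  · exact Flat2D.FiberStalk.isCohenMacaulayLocalRing_of_ringEquiv (h := h5) (Ideal.quotientEquiv _ _ e h3).symm

theorem locusProp_smoothDim (n : ℕ) : LocusProp.{u} (AndDim SmoothAt (n : WithBot ℕ∞)) :=
  locusProp_andDim locusProp_smooth (fun _ _ f x h => isCMAt_of_smoothAt f x h) n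

end K898.SmoothRel
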