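import Groth.Agent.CurvSt.K901.SchPre
import Groth.Agent.CurvSt.K899.LociAdapt
import Groth.Agent.CurvSt.K898.SmoothRel
import Groth.Agent.CurvSt.K898.MbarEq
import Groth.Agent.Ega1.GenPts
import Groth.Agent.Sga4B.SmoothNormal

/-!
# The locus of smooth pointed curves of genus `g` is open in the stack of curves

`openLocus_smooth` : `OpenLocus (Curves S n) (SpIsSmoothPtd · g)`, from `EtLocSch`.
-/

set_option autoImplicit false
universe u

open CategoryTheory CategoryTheory.Limits AlgebraicGeometry Opposite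

namespace K898.OpenSm

open CurvSt AlgSp K901.GeomFibAt K901.GeomLoc K901.EtSch K901.Loci K901.SchLoc K901.SchPre K898.MbarEq
open Groth.Agent

variable {n : ℕ}

/-- Smooth and prestable of genus `g`. -/
abbrev SmPre (n g : ℕ) : FibProp.{u} n := fun Ω _ _ X' q m =>
  (∀ x, SmoothAt q x) ∧ StMap.IsPrestablePtd Ω X' q g m

section Sch

variable {C T : Scheme.{u}} (f : C ⟶ T) (σ : Fin n → (T ⟶ C)) (hσ : ∀ i, σ i ≫ f = 𝟙 T)
  [Flat f] [IsProper f] [LocallyOfFinitePresentation f]

theorem smPre_iff (g : ℕ) {Ω : Type u} [Field Ω] [IsAlgClosed Ω] {t : Spec (CommRingCat.of Ω) ⟶ T}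
    {X' : Scheme.{u}} {i : X' ⟶ C} {q : X' ⟶ Spec (CommRingCat.of Ω)} (hP : IsPullback i q f t) :
    SmPre n g Ω X' q (markedPt σ hσ hP) ↔ t.base (IsLocalRing.closedPoint Ω) ∈
      {s : T | ∀ x, f x = s → SmoothAt f x} ∩
      (GenSet f g ∩ {s : T | Function.Injective fun j => σ j s} ∩ {s : T | ∀ j, SmoothAt f (σ j s)}) :=
  and_congr (forall_iff_of_isPullback locusProp_smooth hP) (isPrestablePtd_iff f σ hσ g hP)

theorem isOpen_smPre (g : ℕ) : IsOpen (Loc (SmPre n g) f σ hσ) := by
  have h : Loc (SmPre n g) f σ hσ = {s : T | ∀ x, f x = s → SmoothAt f x} ∩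
      (GenSet f g ∩ {s : T | Function.Injective fun j => σ j s} ∩ {s : T | ∀ j, SmoothAt f (σ j s)}) := by
    ext s
    refine mem_loc_iff_of f σ hσ _ fun Ω _ _ t ht X' i q hP => ?_
    rw [← ht]
    exact smPre_iff f σ hσ g hP
  rw [h]
  exact (isOpen_fib locusProp_smooth f).inter
    (((isOpen_genSet f g).inter (isOpen_injective f σ hσ)).inter (isOpen_smoothAt f σ))

end Sch

theorem extDesc_smPre (n g : ℕ) : ExtDesc (SmPre.{u} n g) :=
  extDesc_of fun _ _ _ _ f σ hσ _ _ _ => ⟨_, fun _ _ _ _ _ _ _ hP => smPre_iff f σ hσ g hP⟩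

/-- The locus of the condition on geometric fibres. -/
theorem hasOpenLocus_smPre {S : Scheme.{u}} (g : ℕ) (hE : ∀ A : (Curves S n).obj, EtLocSch A.obj) :
    K899.OpenCrit.HasOpenLocus (𝒳 := Curves S n) (fun A => GeomFib (SmPre n g) A.obj) :=
  hasOpenLocus (extDesc_smPre n g) hE fun B h1 h2 h3 _ => by
    rw [locus_toSpFam]
    exact isOpen_smPre B.f B.sect B.sect_f g

/-- Comparison of the conditions. -/
theorem spIsSmoothPtd_iff {S : Scheme.{u}} (g : ℕ) (A : (Curves S n).obj) :
    SpIsSmoothPtd A.obj g ↔ LocP @Smooth A.obj.f ∧ GeomFib (SmPre n g) A.obj := by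
  refine and_congr_right fun hs => ?_
  refine forall_congr' fun Ω => forall_congr' fun _ => forall_congr' fun _ => forall_congr' fun t =>
    forall_congr' fun X' => forall_congr' fun q => forall_congr' fun i => forall_congr' fun hP => ?_
  have hsm : Smooth q := K901.SchFib.locP_of_isPullback (q := A.obj.fibHom t q) K597.etLoc_smooth A.property.1
    (IsAlgSpace.yon_obj _) hs hP
  obtain ⟨h1, h2, h3, -⟩ := K901.SchFib.facts A.property hP
  have hq : IsProper q := h2
  have hsm' : ∀ x, SmoothAt q x := (K898.SmoothRel.smooth_iff q).1 hsm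
  constructor
  · rintro ⟨h4, h5, h6, h7⟩
    have hc : ConnectedSpace X' := inferInstance
    refine ⟨hsm', hq, hc, h5, ⟨Models.H112.NodalFam.atWorstNodal_of_smooth q, h6⟩, h7, fun j => ⟨?_, hsm' _⟩⟩
    -- closedness of the marked points
    rw [spMarkedPt_eq_sec]
    let B := schFam A.obj hP
    let x : Spec (CommRingCat.of Ω) ⟶ X' := B.sect j
    have hx : x ≫ q = 𝟙 _ := B.sect_f j
    have hcl : IsClosedImmersion x := by
      have : IsClosedImmersion (x ≫ q) := by rw [hx]; infer_instance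
      exact IsClosedImmersion.of_comp x q
    have h8 : ({x.base (IsLocalRing.closedPoint Ω)} : Set X') = Set.range x := by
      ext y
      constructor
      · rintro rfl
        exact ⟨IsLocalRing.closedPoint Ω, rfl⟩
      · rintro ⟨z, rfl⟩
        have : z = IsLocalRing.closedPoint Ω := Subsingleton.elim _ _
        rw [this]
        rfl
    change IsClosed ({x.base (IsLocalRing.closedPoint Ω)} : Set X')
    rw [h8]
    exact x.isClosedEmbedding.isClosed_range
  · rintro ⟨-, h4, h5, h6, ⟨h7, h8⟩, h9, -⟩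
    have hint : IsIntegral X' := by
      have hl : IsLocallyNoetherian X' := LocallyOfFiniteType.isLocallyNoetherian q
      rw [Ega1.GenPts.isIntegral_iff]
      exact ⟨h5, fun x => (Sga4B.SmoothNormal.isNormalScheme_of_smooth q x).1⟩
    exact ⟨inferInstance, h6, h8, h9⟩

/-- The locus of smooth pointed curves of genus `g` is open. -/
theorem openLocus_smooth {S : Scheme.{u}} (g : ℕ) (hE : ∀ A : (Curves S n).obj, EtLocSch A.obj) :
    K901.OpenSub.OpenLocus (Curves S n) (fun A => SpIsSmoothPtd A.obj g) := by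
  intro A
  obtain ⟨U, hU⟩ := hasOpenLocus_smPre g hE A
  obtain ⟨V, hV⟩ := K899.LocCrit.hasOpenLocus (K899.LociAdapt.openLoc locusProp_smooth) S n A
  refine ⟨U ⊓ V, fun B φ => ?_⟩
  have e : LocP @Smooth B.obj.f ↔ LocP (K899.LociAdapt.PR SmoothAt) B.obj.f := by
    rw [K899.LociAdapt.locP_PR_iff]
    have : (@Smooth : MorphismProperty Scheme.{u}) = fun _ _ f => ∀ x, SmoothAt f x := by
      funext X Y f
      exact propext (K898.SmoothRel.smooth_iff f)
    rw [this]
  refine (spIsSmoothPtd_iff g B).trans ?_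
  refine (and_congr (e.trans (hV B φ)) (hU B φ)).trans ?_
  rw [and_comm]
  exact Set.subset_inter_iff.symm

end K898.OpenSm
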