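import Groth.Agent.Deform.K680.AutGeo

/-!
# Automorphisms of deformations and derivations vanishing along sections

* `exists_der` : an automorphism of a deformation, trivial modulo `J = J' + (t)`, defines a derivation of the structure sheaf of
  the special fibre; if the derivation is zero the automorphism is trivial modulo `J'`.
* `PtNoDer q p` : every derivation of `X` vanishing at the points `p i` is zero.
* `hom_eq_id_of_ptNoDer` : an automorphism over the dual numbers, trivial on the special fibre, preserving sections through the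
  points `p i`, is the identity if `PtNoDer q p`.
-/

set_option autoImplicit false
set_option linter.style.haveILetI false
universe u
open CategoryTheory CategoryTheory.Limits AlgebraicGeometry ArtFun ArtFun.Art TopologicalSpace
open Groth.Agent.Sga7.H331.Sec

namespace K898.AutPt

open K680.AutGeo

section gen

variable {Λ k : Type u} [CommRing Λ] [Field k] [Algebra Λ k] {X : Scheme.{u}} {x : X ⟶ specPt k}
  {A : Art Λ k} {ξ : DefSch X x A} (e : ξ.Iso ξ)

/-- The derivation defined by an automorphism trivial modulo `J = J' + (t)`. -/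
theorem exists_der {J J' : Ideal A} {t : A} (hJm : J ≤ IsLocalRing.maximalIdeal A) (ht : t ∈ J)
    (hJJ' : J ≤ J' ⊔ Ideal.span {t}) (hmJ : IsLocalRing.maximalIdeal A * J ≤ J')
    (hcol : ∀ a, t * a ∈ J' → a ∈ IsLocalRing.maximalIdeal A) (h : Cong e J) :
    ∃ D : OmegaSh.Der x (Coh.structureModule X),
      (∀ (U : ξ.total.affineOpens) (b : Γ(ξ.total, U.1)), ∃ b' : Γ(ξ.total, U.1),
        sg e U.1 b - b - al ξ U.1 t * b' ∈ J'.map (al ξ U.1) ∧
        OmegaSh.fnSect X _ (D.app (ξ.i ⁻¹ᵁ U.1) (ka ξ U.1 b)) = ka ξ U.1 b') ∧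
      ((∀ (U : X.Opens) (s : Γ(X, U)), D.app U s = 0) → Cong e J') := by
  have key : ∀ U : ξ.total.affineOpens, ∃ d : Γ(X, ξ.i ⁻¹ᵁ U.1) →+ Γ(X, ξ.i ⁻¹ᵁ U.1),
      (∀ b b', sg e U.1 b - b - al ξ U.1 t * b' ∈ J'.map (al ξ U.1) → d (ka ξ U.1 b) = ka ξ U.1 b') ∧
      (∀ x y, d (x * y) = x * d y + y * d x) ∧ (∀ a, d (ka ξ U.1 (al ξ U.1 a)) = 0) := by
    intro U
    letI : Algebra A Γ(ξ.total, U.1) := (al ξ U.1).toAlgebra
    haveI : Module.Flat A Γ(ξ.total, U.1) := flat_al ξ U.2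
    exact K680.AutAlg.exists_der (κ := ka ξ U.1) (m := IsLocalRing.maximalIdeal A) (J := J) (J' := J') (t := t)
      (sg e U.1) (surjective_and_ker ξ U.2).1 (surjective_and_ker ξ U.2).2 hcol hmJ hJJ' hJm (sg_al e U.1) (h U)
  choose d hd hdmul hdA using key
  have hrel : ∀ (U : ξ.total.affineOpens) (b : Γ(ξ.total, U.1)),
      ∃ b', sg e U.1 b - b - al ξ U.1 t * b' ∈ J'.map (al ξ U.1) := by
    intro U b
    letI : Algebra A Γ(ξ.total, U.1) := (al ξ U.1).toAlgebra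
    exact K680.AutAlg.exists_rel (sg e U.1) hJJ' (h U) b
  have hle : ∀ {U V : ξ.total.Opens}, ξ.i ⁻¹ᵁ V ≤ ξ.i ⁻¹ᵁ U → V ≤ U := by
    intro U V hUV p hp
    obtain ⟨q, rfl⟩ := ξ.i.surjective p
    exact hUV hp
  have hdres : ∀ (U V : ξ.total.affineOpens) (hUV : ξ.i ⁻¹ᵁ V.1 ≤ ξ.i ⁻¹ᵁ U.1) (s : Γ(X, ξ.i ⁻¹ᵁ U.1)),
      d V (X.presheaf.map (homOfLE hUV).op s) = X.presheaf.map (homOfLE hUV).op (d U s) := by
    intro U V hUV s
    obtain ⟨b, rfl⟩ := (surjective_and_ker ξ U.2).1 s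
    obtain ⟨b', hb'⟩ := hrel U b
    have h1 : V.1 ≤ U.1 := hle hUV
    rw [hd U b b' hb']
    have e1 : X.presheaf.map (homOfLE hUV).op (ka ξ U.1 b) =
      ka ξ V.1 (ξ.total.presheaf.map (homOfLE h1).op b) := (ka_map h1 b).symm
    have e2 : X.presheaf.map (homOfLE hUV).op (ka ξ U.1 b') =
      ka ξ V.1 (ξ.total.presheaf.map (homOfLE h1).op b') := (ka_map h1 b').symm
    rw [e1, e2]
    refine hd V _ _ ?_
    rw [sg_map, ← al_map h1, ← map_mul, ← map_sub, ← map_sub]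
    have h2 : al ξ V.1 = (ξ.total.presheaf.map (homOfLE h1).op).hom.comp (al ξ U.1) :=
      RingHom.ext fun a => (al_map h1 a).symm
    rw [h2, ← Ideal.map_map]
    exact Ideal.mem_map_of_mem _ hb'
  obtain ⟨D, hDmul, hDres, hDB⟩ := K583.DerAffine.exists_of_basis (isBasis_preimage ξ)
    (Coh.structureModule X) (fun U => (OmegaSh.strSect X (ξ.i ⁻¹ᵁ U.1)).comp (d U))
    (fun U V hUV s => hdres U V hUV s) (fun U a b => hdmul U a b)
  have hD0 : ∀ (V : (specPt k).Opens) (c : Γ(specPt k, V)), D (x ⁻¹ᵁ V) (x.app V c) = 0 := by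
    intro V c
    refine K583.DerAffine.eq_of_locally _ fun p hp => ?_
    obtain ⟨_, ⟨U, rfl⟩, hpU, hU⟩ := Opens.isBasis_iff_nbhd.mp (isBasis_preimage ξ) hp
    refine ⟨ξ.i ⁻¹ᵁ U.1, hU, hpU, ?_⟩
    rw [map_zero, ← hDres]
    refine (hDB U _).trans ?_
    have hV : V = ⊤ := by
      refine top_le_iff.1 fun q _ => ?_
      have : Subsingleton (PrimeSpectrum k) := inferInstance
      have e3 : q = x.base p := this.elim _ _
      rw [e3]
      exact hp
    subst hV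
    have e4 : X.presheaf.map (homOfLE hU).op (x.app ⊤ c) =
        c₀ x (ξ.i ⁻¹ᵁ U.1) ((Scheme.ΓSpecIso (CommRingCat.of k)).hom c) := by
      have h5 : x.app ⊤ ≫ X.presheaf.map (homOfLE hU).op = x.appLE ⊤ (ξ.i ⁻¹ᵁ U.1) le_top := by
        rw [Scheme.Hom.app_eq_appLE, Scheme.Hom.appLE_map]
      have h6 : x.appLE ⊤ (ξ.i ⁻¹ᵁ U.1) le_top = (Scheme.ΓSpecIso (CommRingCat.of k)).hom ≫
          co (A := CommRingCat.of k) x (ξ.i ⁻¹ᵁ U.1) := by
        rw [co, Iso.hom_inv_id_assoc]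
      exact congrArg (fun t => t.hom c) (h5.trans h6)
    rw [e4]
    obtain ⟨a, ha⟩ := A.res_surjective ((Scheme.ΓSpecIso (CommRingCat.of k)).hom c)
    rw [← ha]
    have e5 : c₀ x (ξ.i ⁻¹ᵁ U.1) (A.res a) = ka ξ U.1 (al ξ U.1 a) :=
      (RingHom.congr_fun (ka_comp_al ξ U.1) a).symm
    rw [e5]
    exact hdA U a
  let DD := K583.DerAffine.mkDer x (Coh.structureModule X) D hDmul hDres hD0
  refine ⟨DD, ?_, ?_⟩
  · intro U b
    obtain ⟨b', hb'⟩ := hrel U b
    refine ⟨b', hb', ?_⟩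
    have h2 : D (ξ.i ⁻¹ᵁ U.1) (ka ξ U.1 b) = OmegaSh.strSect X _ (d U (ka ξ U.1 b)) := hDB U _
    change OmegaSh.fnSect X _ (D (ξ.i ⁻¹ᵁ U.1) (ka ξ U.1 b)) = _
    rw [h2]
    exact hd U b b' hb'
  · intro hx
    have hzero : ∀ (U : ξ.total.affineOpens) (s : Γ(X, ξ.i ⁻¹ᵁ U.1)), d U s = 0 := by
      intro U s
      have h1 := hx (ξ.i ⁻¹ᵁ U.1) s
      have h2 : D (ξ.i ⁻¹ᵁ U.1) s = 0 := h1
      rw [hDB] at h2
      exact h2
    intro U b
    obtain ⟨b', hb'⟩ := hrel U b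
    have h1 : ka ξ U.1 b' = 0 := by rw [← hd U b b' hb', hzero]
    rw [← RingHom.mem_ker, (surjective_and_ker ξ U.2).2] at h1
    have h2 : al ξ U.1 t * b' ∈ J'.map (al ξ U.1) := by
      have h3 : al ξ U.1 t * b' ∈ (IsLocalRing.maximalIdeal A * J).map (al ξ U.1) := by
        rw [mul_comm (al ξ U.1 t), Ideal.map_mul]
        exact Ideal.mul_mem_mul h1 (Ideal.mem_map_of_mem _ ht)
      exact Ideal.map_mono hmJ h3
    have h4 := Ideal.add_mem _ hb' h2
    rwa [sub_add_cancel] at h4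

end gen

section dual

variable {k : Type u} [Field k] {X : Scheme.{u}} {x : X ⟶ specPt k}

/-- A derivation vanishes at a point. -/
def VanishAt (D : OmegaSh.Der x (Coh.structureModule X)) (p : X) : Prop :=
  ∀ (W : X.Opens) (hp : p ∈ W) (t : Γ(X, W)),
    X.presheaf.germ W p hp t ∈ IsLocalRing.maximalIdeal (X.presheaf.stalk p) →
    X.presheaf.germ W p hp (OmegaSh.fnSect X W (D.app W t)) ∈ IsLocalRing.maximalIdeal (X.presheaf.stalk p)

variable (x) in
/-- Every derivation vanishing at the points `p i` is zero. -/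
def PtNoDer {n : ℕ} (p : Fin n → X) : Prop :=
  ∀ D : OmegaSh.Der x (Coh.structureModule X), (∀ i, VanishAt D (p i)) → ∀ (U : X.Opens) (s : Γ(X, U)), D.app U s = 0

variable {ξ : DefSch X x (Art.dual k k)} (e : ξ.Iso ξ)

/-- Evaluation of functions at a section through the point `p` of the special fibre. -/
theorem vanishAt_of_section {D : OmegaSh.Der x (Coh.structureModule X)}
    (hD : ∀ (U : ξ.total.affineOpens) (b : Γ(ξ.total, U.1)), ∃ b' : Γ(ξ.total, U.1),
        sg e U.1 b - b - al ξ U.1 (DualNumber.eps : DualNumber k) * b' ∈ (⊥ : Ideal (Art.dual k k)).map (al ξ U.1) ∧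
        OmegaSh.fnSect X _ (D.app (ξ.i ⁻¹ᵁ U.1) (ka ξ U.1 b)) = ka ξ U.1 b')
    (σ : Spec (CommRingCat.of (Art.dual k k)) ⟶ ξ.total) (hσ : σ ≫ ξ.f = 𝟙 _) (hσe : σ ≫ e.iso.hom = σ)
    (p₀ : specPt k ⟶ X) (hp₀ : p₀ ≫ ξ.i = Spec.map (CommRingCat.ofHom (Art.dual k k).res.toRingHom) ≫ σ) (z : specPt k) :
    VanishAt D (p₀ z) := by
  intro W hp t _
  obtain ⟨_, ⟨U, rfl⟩, hpU, hU⟩ := Opens.isBasis_iff_nbhd.mp (isBasis_preimage ξ) hp
  obtain ⟨b, hb⟩ := (surjective_and_ker ξ U.2).1 (X.presheaf.map (homOfLE hU).op t)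
  obtain ⟨b', hb', hDb⟩ := hD U b
  -- `Spec` of the dual numbers has one point
  have hsub : Subsingleton (Spec (CommRingCat.of (Art.dual k k))) := by
    refine ⟨fun a c => ?_⟩
    have hm : ∀ y : PrimeSpectrum (Art.dual k k), y.asIdeal = IsLocalRing.maximalIdeal (Art.dual k k) := fun y =>
      IsLocalRing.eq_maximalIdeal (IsArtinianRing.isMaximal_of_isPrime y.asIdeal)
    exact PrimeSpectrum.ext ((hm a).trans (hm c).symm)
  have hσU : ∀ y : Spec (CommRingCat.of (Art.dual k k)), σ.base y ∈ U.1 := by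
    intro y
    have h1 : σ.base y = ξ.i.base (p₀ z) := by
      have h2 : y = (Spec.map (CommRingCat.ofHom (Art.dual k k).res.toRingHom)).base z := Subsingleton.elim _ _
      rw [h2]
      exact (congrArg (fun g : specPt k ⟶ ξ.total => g.base z) hp₀).symm
    rw [h1]
    exact hpU
  have hle : (⊤ : (Spec (CommRingCat.of (Art.dual k k))).Opens) ≤ σ ⁻¹ᵁ U.1 := fun y _ => hσU y
  let ψ := σ.appLE U.1 ⊤ hle
  have hψ1 : ψ.hom (sg e U.1 b) = ψ.hom b := by
    have h1 : e.iso.hom.appLE U.1 U.1 (le_preimage e U.1) ≫ σ.appLE U.1 ⊤ hle = σ.appLE U.1 ⊤ hle := by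
      rw [Scheme.Hom.appLE_comp_appLE]
      have : ∀ (g : Spec (CommRingCat.of (Art.dual k k)) ⟶ ξ.total) (hg : g = σ) (hh : ⊤ ≤ g ⁻¹ᵁ U.1),
          g.appLE U.1 ⊤ hh = σ.appLE U.1 ⊤ hle := by
        rintro g rfl hh
        rfl
      exact this _ hσe _
    exact congrArg (fun w => w.hom b) h1
  have hψ2 : ∀ a, (Scheme.ΓSpecIso (CommRingCat.of (Art.dual k k))).hom.hom (ψ.hom (al ξ U.1 a)) = a := by
    intro a
    have h1 := co_appLE (A := CommRingCat.of (Art.dual k k)) (A' := CommRingCat.of (Art.dual k k)) ξ.f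
      (𝟙 (Spec (CommRingCat.of (Art.dual k k)))) (φ := 𝟙 _) (h := σ)
      (by rw [hσ, Spec.map_id, Category.comp_id]) (V := U.1) (V' := ⊤) hle
    have h2 : co (A := CommRingCat.of (Art.dual k k)) (𝟙 (Spec (CommRingCat.of (Art.dual k k)))) ⊤ =
        (Scheme.ΓSpecIso (CommRingCat.of (Art.dual k k))).inv := by
      simp [co, Scheme.Hom.appLE]
    rw [h2, Category.id_comp] at h1
    have h3 := congrArg (fun w => (Scheme.ΓSpecIso (CommRingCat.of (Art.dual k k))).hom.hom (w.hom a)) h1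
    refine h3.trans ?_
    have h4 := (Scheme.ΓSpecIso (CommRingCat.of (Art.dual k k))).inv_hom_id
    exact congrArg (fun w => w.hom a) h4
  rw [Ideal.map_bot, Ideal.mem_bot, sub_eq_zero] at hb'
  set c : DualNumber k := (Scheme.ΓSpecIso (CommRingCat.of (Art.dual k k))).hom.hom (ψ.hom b') with hc
  have hεc : (DualNumber.eps : DualNumber k) * c = 0 := by
    have h1 := congrArg (fun w => (Scheme.ΓSpecIso (CommRingCat.of (Art.dual k k))).hom.hom (ψ.hom w)) hb'
    simp only [map_sub, map_mul] at h1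
    rw [hψ1, sub_self, hψ2 (DualNumber.eps : DualNumber k)] at h1
    exact h1.symm
  have hc0 : (Art.dual k k).res c = 0 := by
    have h1 := congrArg TrivSqZeroExt.snd hεc
    change TrivSqZeroExt.fst c = 0
    simpa using h1
  -- evaluation at `p₀`
  have hle₀ : (⊤ : (specPt k).Opens) ≤ p₀ ⁻¹ᵁ (ξ.i ⁻¹ᵁ U.1) := by
    intro y _
    have hs : Subsingleton (PrimeSpectrum k) := inferInstance
    have hy : y = z := hs.elim _ _
    rw [hy]
    exact hpU
  have h5 : p₀.appLE (ξ.i ⁻¹ᵁ U.1) ⊤ hle₀ (ka ξ U.1 b') = 0 := by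
    have h6 : ξ.i.appLE U.1 (ξ.i ⁻¹ᵁ U.1) le_rfl ≫ p₀.appLE (ξ.i ⁻¹ᵁ U.1) ⊤ hle₀ =
        σ.appLE U.1 ⊤ hle ≫ (Spec.map (CommRingCat.ofHom (Art.dual k k).res.toRingHom)).appLE ⊤ ⊤ le_top := by
      rw [Scheme.Hom.appLE_comp_appLE, Scheme.Hom.appLE_comp_appLE]
      have : ∀ (g g' : specPt k ⟶ ξ.total) (hg : g = g') (hh : ⊤ ≤ g ⁻¹ᵁ U.1) (hh' : ⊤ ≤ g' ⁻¹ᵁ U.1),
          g.appLE U.1 ⊤ hh = g'.appLE U.1 ⊤ hh' := by
        rintro g _ rfl hh hh'
        rfl
      exact this _ _ hp₀ _ _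
    have h7 : ka ξ U.1 b' = (ξ.i.appLE U.1 (ξ.i ⁻¹ᵁ U.1) le_rfl).hom b' := by
      rw [ka, Scheme.Hom.app_eq_appLE]
    rw [h7]
    refine (congrArg (fun w => w.hom b') h6).trans ?_
    have h8 : (Scheme.ΓSpecIso (CommRingCat.of (Art.dual k k))).inv ≫
        (Spec.map (CommRingCat.ofHom (Art.dual k k).res.toRingHom)).appLE ⊤ ⊤ le_top =
        CommRingCat.ofHom (Art.dual k k).res.toRingHom ≫ (Scheme.ΓSpecIso (CommRingCat.of k)).inv := by
      have h9 := co_appLE (A := CommRingCat.of (Art.dual k k)) (A' := CommRingCat.of k)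
        (𝟙 (Spec (CommRingCat.of (Art.dual k k)))) (𝟙 (Spec (CommRingCat.of k)))
        (φ := CommRingCat.ofHom (Art.dual k k).res.toRingHom)
        (h := Spec.map (CommRingCat.ofHom (Art.dual k k).res.toRingHom)) (by rw [Category.id_comp, Category.comp_id])
        (V := ⊤) (V' := ⊤) le_top
      have h2 : ∀ (R : CommRingCat.{u}), co (A := R) (𝟙 (Spec R)) ⊤ = (Scheme.ΓSpecIso R).inv := by
        intro R
        simp [co, Scheme.Hom.appLE]
      rw [h2, h2] at h9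
      exact h9
    have h9 : (Scheme.ΓSpecIso (CommRingCat.of (Art.dual k k))).inv.hom c = ψ.hom b' := by
      rw [hc]
      exact congrArg (fun w => w.hom (ψ.hom b')) (Scheme.ΓSpecIso (CommRingCat.of (Art.dual k k))).hom_inv_id
    change ((Spec.map (CommRingCat.ofHom (Art.dual k k).res.toRingHom)).appLE ⊤ ⊤ le_top).hom (ψ.hom b') = 0
    rw [← h9]
    refine (congrArg (fun w => w.hom c) h8).trans ?_
    change (Scheme.ΓSpecIso (CommRingCat.of k)).inv.hom ((Art.dual k k).res c) = 0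
    rw [hc0, map_zero]
  -- conclusion
  have h6 : X.presheaf.germ W (p₀ z) hp (OmegaSh.fnSect X W (D.app W t)) =
      X.presheaf.germ (ξ.i ⁻¹ᵁ U.1) (p₀ z) hpU (ka ξ U.1 b') := by
    rw [← hDb, hb, K583.DerAffine.app_map]
    exact (X.presheaf.germ_res_apply (homOfLE hU) (p₀ z) hpU (OmegaSh.fnSect X W (D.app W t))).symm
  rw [h6]
  by_contra hcon
  rw [IsLocalRing.mem_maximalIdeal, mem_nonunits_iff, not_not] at hcon
  have h7 : p₀ z ∈ X.basicOpen (ka ξ U.1 b') := (Scheme.mem_basicOpen _ _ _ hpU).2 hcon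
  have h8 : z ∈ (specPt k).basicOpen (p₀.appLE (ξ.i ⁻¹ᵁ U.1) ⊤ hle₀ (ka ξ U.1 b')) := by
    rw [Scheme.basicOpen_appLE]
    exact ⟨trivial, h7⟩
  rw [h5, Scheme.basicOpen_zero] at h8
  exact h8

theorem fst_zero_eq {a : DualNumber k} (h : TrivSqZeroExt.fst a = 0) :
    a = DualNumber.eps * TrivSqZeroExt.inl (TrivSqZeroExt.snd a) := by
  refine TrivSqZeroExt.ext ?_ ?_
  · rw [TrivSqZeroExt.fst_mul, h, DualNumber.fst_eps, zero_mul]
  · rw [TrivSqZeroExt.snd_mul, DualNumber.fst_eps, DualNumber.snd_eps, TrivSqZeroExt.fst_inl, zero_smul, zero_add]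
    simp

theorem mul_eq_zero_of_fst {a b : DualNumber k} (ha : TrivSqZeroExt.fst a = 0) (hb : TrivSqZeroExt.fst b = 0) :
    a * b = 0 := by
  rw [fst_zero_eq ha, fst_zero_eq hb, mul_mul_mul_comm, DualNumber.eps_mul_eps, zero_mul]

theorem fst_of_eps_mul {a : DualNumber k} (h : DualNumber.eps * a = 0) : TrivSqZeroExt.fst a = 0 := by
  have h1 := congrArg TrivSqZeroExt.snd h
  rw [TrivSqZeroExt.snd_mul, DualNumber.fst_eps, DualNumber.snd_eps, zero_smul, zero_add] at h1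
  simpa using h1

variable (k) in
/-- `ε` as an element of the Artinian ring. -/
def epsA : Art.dual k k := (DualNumber.eps : DualNumber k)

theorem mem_max (a : Art.dual k k) :
    a ∈ IsLocalRing.maximalIdeal (Art.dual k k) ↔ TrivSqZeroExt.fst (show DualNumber k from a) = 0 := by
  rw [← ker_res (A := Art.dual k k)]
  exact Iff.rfl

/-- An automorphism over the dual numbers, trivial on the special fibre and preserving sections, is the identity when every
derivation of the special fibre vanishing at the points of the sections is zero. -/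
theorem hom_eq_id_of_ptNoDer {n : ℕ} (σ : Fin n → (Spec (CommRingCat.of (Art.dual k k)) ⟶ ξ.total))
    (hσ : ∀ i, σ i ≫ ξ.f = 𝟙 _) (hσe : ∀ i, σ i ≫ e.iso.hom = σ i) (p₀ : Fin n → (specPt k ⟶ X))
    (hp₀ : ∀ i, p₀ i ≫ ξ.i = Spec.map (CommRingCat.ofHom (Art.dual k k).res.toRingHom) ≫ σ i) (z : specPt k)
    (hx : PtNoDer x fun i => p₀ i z) : e.iso.hom = 𝟙 ξ.total := by
  have h1 : IsLocalRing.maximalIdeal (Art.dual k k) ≤ ⊥ ⊔ Ideal.span {epsA k} := by
    intro a ha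
    rw [bot_sup_eq, Ideal.mem_span_singleton]
    exact ⟨_, fst_zero_eq ((mem_max a).1 ha)⟩
  have h2 : IsLocalRing.maximalIdeal (Art.dual k k) * IsLocalRing.maximalIdeal (Art.dual k k) ≤ ⊥ := by
    rw [Ideal.mul_le]
    intro a ha b hb
    rw [Ideal.mem_bot]
    exact mul_eq_zero_of_fst ((mem_max a).1 ha) ((mem_max b).1 hb)
  have h3 : ∀ a : Art.dual k k, epsA k * a ∈ (⊥ : Ideal (Art.dual k k)) →
      a ∈ IsLocalRing.maximalIdeal (Art.dual k k) := by
    intro a ha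
    exact (mem_max a).2 (fst_of_eps_mul (Ideal.mem_bot.1 ha))
  obtain ⟨D, hD, hD0⟩ := exists_der e (J := IsLocalRing.maximalIdeal (Art.dual k k)) (J' := ⊥)
    (t := epsA k) le_rfl ((mem_max _).2 rfl) h1 h2 h3 (cong_maximalIdeal e)
  have h0 := hD0 (hx D fun i => vanishAt_of_section e hD (σ i) (hσ i) (hσe i) (p₀ i) (hp₀ i) z)
  refine hom_eq_id e fun U hU b => ?_
  have h4 := h0 ⟨U, hU⟩ b
  rw [Ideal.map_bot, Ideal.mem_bot, sub_eq_zero] at h4
  exact h4

end dual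

end K898.AutPt
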