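import Groth.Agent.CurvSt.K898.Unr
import Groth.Agent.CurvSt.K898.AutPt

/-!
# Families of pointed curves without infinitesimal automorphisms form a stack with unramified diagonal

* `hom_eq_id_pt` : pointed version of `K898.Unr.hom_eq_id`.
* `isDMOver_fullSub_pt` : a full subcategory of `PtFam S n`, algebraic for the fppf topology, whose families are flat and have
  geometric fibres without derivations vanishing at the marked points, is DM over `S`.
-/

set_option autoImplicit false
set_option backward.isDefEq.respectTransparency false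
set_option backward.isDefEq.respectTransparency.types false
universe u
open CategoryTheory CategoryTheory.Limits AlgebraicGeometry Opposite CurvSt

namespace K898.UnrPt

open K750.Unram (incl)
open K898.Unr (ext isPullback_ext incl_ext)
open K898.AutPt (PtNoDer)

variable {n : ℕ}

/-- Pointed version over one field. -/
theorem hom_eq_id_of_ptNoDer {κ : Type u} [Field κ] {C : Scheme.{u}} (f : C ⟶ Spec (CommRingCat.of (DualNumber κ))) [Flat f]
    (σ : Fin n → (Spec (CommRingCat.of (DualNumber κ)) ⟶ C)) (hσ : ∀ i, σ i ≫ f = 𝟙 _)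
    {X : Scheme.{u}} {i : X ⟶ C} {x : X ⟶ Spec (CommRingCat.of κ)} (sq : IsPullback i x f (incl κ))
    (hx : PtNoDer (k := κ) x (markedPt σ hσ sq)) (θ : C ≅ C) (h1 : θ.hom ≫ f = f) (h2 : i ≫ θ.hom = i)
    (h3 : ∀ j, σ j ≫ θ.hom = σ j) : θ.hom = 𝟙 C := by
  let ξ : ArtFun.DefSch X x (ArtFun.Art.dual κ κ) :=
    { total := C
      f := f
      flat := inferInstance
      i := i
      isPullback := sq }
  let e : ξ.Iso ξ := { iso := θ, hom_f := h1, i_hom := h2 }
  exact K898.AutPt.hom_eq_id_of_ptNoDer e σ hσ h3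
    (fun j => sq.lift (incl κ ≫ σ j) (𝟙 _) (by rw [Category.assoc, hσ, Category.comp_id, Category.id_comp]))
    (fun j => sq.lift_fst _ _ _) (IsLocalRing.closedPoint κ) hx

/-- The same, the condition being tested on geometric fibres. -/
theorem hom_eq_id {κ : Type u} [Field κ] {C : Scheme.{u}} (f : C ⟶ Spec (CommRingCat.of (DualNumber κ))) [Flat f]
    (σ : Fin n → (Spec (CommRingCat.of (DualNumber κ)) ⟶ C)) (hσ : ∀ i, σ i ≫ f = 𝟙 _)
    {X : Scheme.{u}} {i : X ⟶ C} {x : X ⟶ Spec (CommRingCat.of κ)} (sq : IsPullback i x f (incl κ))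
    (hx : ∀ (Ω : Type u) [Field Ω] [IsAlgClosed Ω] (t : Spec (CommRingCat.of Ω) ⟶ Spec (CommRingCat.of (DualNumber κ)))
      (Y : Scheme.{u}) (j : Y ⟶ C) (y : Y ⟶ Spec (CommRingCat.of Ω)) (hP : IsPullback j y f t),
      PtNoDer (k := Ω) y (markedPt σ hσ hP))
    (θ : C ≅ C) (h1 : θ.hom ≫ f = f) (h2 : i ≫ θ.hom = i) (h3 : ∀ j, σ j ≫ θ.hom = σ j) : θ.hom = 𝟙 C := by
  let Ω := AlgebraicClosure κ
  let g := ext κ Ω
  let C' := pullback f g
  let p : C' ⟶ C := pullback.fst f g
  let f' : C' ⟶ Spec (CommRingCat.of (DualNumber Ω)) := pullback.snd f g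
  have sqC : IsPullback p f' f g := IsPullback.of_hasPullback f g
  have h1' : θ.inv ≫ f = f := by rw [Iso.inv_comp_eq, h1]
  let θ' : C' ≅ C' :=
    { hom := sqC.lift (p ≫ θ.hom) f' (by rw [Category.assoc, h1, sqC.w])
      inv := sqC.lift (p ≫ θ.inv) f' (by rw [Category.assoc, h1', sqC.w])
      hom_inv_id := by
        apply sqC.hom_ext
        · rw [Category.assoc, sqC.lift_fst, sqC.lift_fst_assoc, Category.assoc, Iso.hom_inv_id, Category.comp_id,
            Category.id_comp]
        · rw [Category.assoc, sqC.lift_snd, sqC.lift_snd, Category.id_comp]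
      inv_hom_id := by
        apply sqC.hom_ext
        · rw [Category.assoc, sqC.lift_fst, sqC.lift_fst_assoc, Category.assoc, Iso.inv_hom_id, Category.comp_id,
            Category.id_comp]
        · rw [Category.assoc, sqC.lift_snd, sqC.lift_snd, Category.id_comp] }
  have hθ1 : θ'.hom ≫ p = p ≫ θ.hom := sqC.lift_fst _ _ _
  have hθ2 : θ'.hom ≫ f' = f' := sqC.lift_snd _ _ _
  let σ' : Fin n → (Spec (CommRingCat.of (DualNumber Ω)) ⟶ C') := fun j =>
    sqC.lift (g ≫ σ j) (𝟙 _) (by rw [Category.assoc, hσ, Category.comp_id, Category.id_comp])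
  have hσ'1 : ∀ j, σ' j ≫ p = g ≫ σ j := fun j => sqC.lift_fst _ _ _
  have hσ' : ∀ j, σ' j ≫ f' = 𝟙 _ := fun j => sqC.lift_snd _ _ _
  have hθσ : ∀ j, σ' j ≫ θ'.hom = σ' j := by
    intro j
    apply sqC.hom_ext
    · rw [Category.assoc, hθ1, reassoc_of% hσ'1, h3, hσ'1]
    · rw [Category.assoc, hθ2]
  let X' := pullback f' (incl Ω)
  let j : X' ⟶ C' := pullback.fst f' (incl Ω)
  let x' : X' ⟶ Spec (CommRingCat.of Ω) := pullback.snd f' (incl Ω)
  have sqX : IsPullback j x' f' (incl Ω) := IsPullback.of_hasPullback _ _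
  have hP : IsPullback (j ≫ p) x' f (incl Ω ≫ g) := sqX.paste_horiz sqC
  have hno := hx Ω (incl Ω ≫ g) X' (j ≫ p) x' hP
  have hmk : markedPt σ hσ hP = markedPt σ' hσ' sqX := by
    funext l
    have h4 : hP.lift ((incl Ω ≫ g) ≫ σ l) (𝟙 _) (by rw [Category.assoc, hσ, Category.comp_id, Category.id_comp]) =
        sqX.lift (incl Ω ≫ σ' l) (𝟙 _) (by rw [Category.assoc, hσ', Category.comp_id, Category.id_comp]) := by
      apply hP.hom_ext
      · rw [hP.lift_fst, ← Category.assoc, sqX.lift_fst, Category.assoc, Category.assoc, hσ'1]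
      · rw [hP.lift_snd, sqX.lift_snd]
    exact congrArg (fun w => w.base (IsLocalRing.closedPoint Ω)) h4
  rw [hmk] at hno
  -- `X' ⟶ C` factors through `X`
  have hw : (j ≫ p) ≫ f = (x' ≫ Spec.map (CommRingCat.ofHom (algebraMap κ Ω))) ≫ incl κ := by
    rw [Category.assoc, sqC.w, ← Category.assoc, sqX.w, Category.assoc, Category.assoc, incl_ext]
  have hfac : sq.lift (j ≫ p) _ hw ≫ i = j ≫ p := sq.lift_fst _ _ _
  have hj : j ≫ θ'.hom = j := by
    apply sqC.hom_ext
    · rw [Category.assoc, hθ1, ← Category.assoc, ← hfac, Category.assoc, h2]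
    · rw [Category.assoc, hθ2]
  have hf' : Flat f' := inferInstance
  have hid := hom_eq_id_of_ptNoDer f' σ' hσ' sqX hno θ' hθ2 hj hθσ
  have hp1 : Flat p := inferInstanceAs (Flat (pullback.fst f g))
  have hp2 : Surjective p := inferInstanceAs (Surjective (pullback.fst f g))
  have hepi : Epi p := Flat.epi_of_flat_of_surjective p
  rw [← cancel_epi p, ← hθ1, hid, Category.id_comp, Category.comp_id]

section stack

variable {S : Scheme.{u}} {𝒬 : PtFamObj S n → Prop}

/-- A full subcategory of the category of pointed families, algebraic for the fppf topology, whose members are flat and have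
geometric fibres without derivations vanishing at the marked points, is DM over `S`. -/
theorem isDMOver_fullSub_pt (h : AlgSt.IsAlgStack Scheme.fppfPrecoverage (AlgSt.fullSub (PtFam S n) 𝒬))
    (hflat : ∀ B, 𝒬 B → Flat B.f)
    (hder : ∀ B, 𝒬 B → ∀ (Ω : Type u) [Field Ω] [IsAlgClosed Ω] (t : Spec (CommRingCat.of Ω) ⟶ B.base.left)
      (Y : Scheme.{u}) (j : Y ⟶ B.C) (y : Y ⟶ Spec (CommRingCat.of Ω)) (hP : IsPullback j y B.f t),
        PtNoDer (k := Ω) y (markedPt B.sect B.sect_f hP)) :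
    AlgSt.IsDMOver (AlgSt.fullSub (PtFam S n) 𝒬) := by
  have hX := h.isStack.1
  refine K750.InfAut.dm_of_aut_trivial hX K735.Fp.isFibGrpd_selfOver (Groth.Agent.S12938.result S _ h) ?_
  intro κ _ s xt Θ hΘ _
  apply K734.Fib.hom_ext_one hX
  let T : Over S := Over.mk s
  let T₀ : Over S := Over.mk (incl κ ≫ s)
  let i₀ : T₀ ⟶ T := Over.homMk (incl κ) rfl
  let B := xt.obj (K734.Fib.one T)
  let z : (FibCat.overCat T).obj := (AlgSt.overMap i₀).obj (Over.mk (𝟙 T₀))
  let B₀ := xt.obj z
  let m : z ⟶ K734.Fib.one T := K734.Fib.toOne _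
  let μ : B₀ ⟶ B := xt.map m
  let θ : B ⟶ B := Θ.hom.toNatTrans.app (K734.Fib.one T)
  let θ' : B ⟶ B := Θ.inv.toNatTrans.app (K734.Fib.one T)
  have hμ : μ ≫ θ = μ := by
    have h1 := Θ.hom.toNatTrans.naturality m
    have h2 : Θ.hom.toNatTrans.app z = 𝟙 _ :=
      congrArg (fun w : (BasedFunctor.comp (AlgSt.overMap i₀) xt) ⟶ (BasedFunctor.comp (AlgSt.overMap i₀) xt) =>
        w.toNatTrans.app (Over.mk (𝟙 T₀))) hΘ
    rw [h2] at h1
    exact h1.trans (Category.id_comp _)
  -- identifications of the bases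
  have eB : B.obj.base = T := xt.w_obj (K734.Fib.one T)
  have eB₀ : B₀.obj.base = T₀ := xt.w_obj z
  have hμb : μ.hom.base = eqToHom eB₀ ≫ i₀ ≫ eqToHom eB.symm := by
    have h1 := K735.Fib.map_map xt m
    have h2 : (FibCat.overCat T).p.map m = i₀ := by
      change (Over.mk (𝟙 T₀)).hom ≫ i₀ = i₀
      exact Category.id_comp _
    rw [h2] at h1
    exact h1
  have hθb : θ.hom.base = 𝟙 _ := (K734.Fib.hom_vert Θ.hom (K734.Fib.one T)).map_eq
  have hc1 : θ ≫ θ' = 𝟙 _ := K901.FibTools.hom_inv_app Θ _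
  have hc2 : θ' ≫ θ = 𝟙 _ := K901.FibTools.inv_hom_app Θ _
  let φ : B.obj.C ≅ B.obj.C :=
    { hom := θ.hom.top
      inv := θ'.hom.top
      hom_inv_id := congrArg (fun w : B ⟶ B => w.hom.top) hc1
      inv_hom_id := congrArg (fun w : B ⟶ B => w.hom.top) hc2 }
  let f' : B.obj.C ⟶ T.left := B.obj.f ≫ (eqToHom eB).left
  let x' : B₀.obj.C ⟶ T₀.left := B₀.obj.f ≫ (eqToHom eB₀).left
  have sq : IsPullback μ.hom.top x' f' (incl κ) := by
    refine IsPullback.of_iso μ.hom.cart (Iso.refl _) (Iso.refl _) ((Over.forget S).mapIso (eqToIso eB₀))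
      ((Over.forget S).mapIso (eqToIso eB)) ?_ ?_ ?_ ?_
    · simp
    · simp [x']
    · simp [f']
    · rw [hμb]
      change (eqToHom eB₀ ≫ i₀ ≫ eqToHom eB.symm).left ≫ (eqToHom eB).left = (eqToHom eB₀).left ≫ i₀.left
      rw [← Over.comp_left, ← Over.comp_left]
      simp
  have hfl : Flat B.obj.f := hflat _ B.property
  have hfl' : Flat f' := inferInstance
  let b : T.left ⟶ B.obj.base.left := (eqToHom eB.symm).left
  have hb : b ≫ (eqToHom eB).left = 𝟙 _ := by
    rw [← Over.comp_left]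
    simp
  have hb' : (eqToHom eB).left ≫ b = 𝟙 _ := by
    rw [← Over.comp_left]
    simp
  let σ : Fin n → (T.left ⟶ B.obj.C) := fun l => b ≫ B.obj.sect l
  have hσ : ∀ l, σ l ≫ f' = 𝟙 _ := fun l => by
    change (b ≫ B.obj.sect l) ≫ B.obj.f ≫ (eqToHom eB).left = 𝟙 _
    rw [Category.assoc, reassoc_of% B.obj.sect_f l, hb]
  have h3 : φ.hom = 𝟙 _ := by
    refine hom_eq_id f' σ hσ sq ?_ φ ?_ ?_ ?_
    · intro Ω _ _ t Y j y hY
      have hP' : IsPullback j y B.obj.f (t ≫ b) := by
        refine IsPullback.of_iso hY (Iso.refl _) (Iso.refl _) (Iso.refl _)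
          ((Over.forget S).mapIso (eqToIso eB.symm)) ?_ ?_ ?_ ?_
        · simp
        · simp
        · change (B.obj.f ≫ (eqToHom eB).left) ≫ (eqToHom eB.symm).left = 𝟙 _ ≫ B.obj.f
          rw [Category.assoc, ← Over.comp_left]
          simp
        · change t ≫ (eqToHom eB.symm).left = 𝟙 _ ≫ t ≫ (eqToHom eB.symm).left
          rw [Category.id_comp]
      have h4 := hder B.obj B.property Ω (t ≫ b) Y j y hP'
      have hmk : markedPt B.obj.sect B.obj.sect_f hP' = markedPt σ hσ hY := by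
        funext l
        have h5 : hP'.lift ((t ≫ b) ≫ B.obj.sect l) (𝟙 _)
            (by rw [Category.assoc, B.obj.sect_f, Category.comp_id, Category.id_comp]) =
            hY.lift (t ≫ σ l) (𝟙 _) (by
              rw [Category.assoc, hσ]
              exact (Category.comp_id t).trans (Category.id_comp t).symm) := by
          apply hP'.hom_ext
          · rw [hP'.lift_fst, hY.lift_fst, Category.assoc]
          · rw [hP'.lift_snd, hY.lift_snd]
        exact congrArg (fun w => w.base (IsLocalRing.closedPoint Ω)) h5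
      rw [hmk] at h4
      exact h4
    · have h5 : θ.hom.top ≫ B.obj.f = B.obj.f := by
        rw [θ.hom.cart.w, hθb]
        exact Category.comp_id _
      change θ.hom.top ≫ B.obj.f ≫ _ = B.obj.f ≫ _
      rw [reassoc_of% h5]
    · exact congrArg (fun w : B₀ ⟶ B => w.hom.top) hμ
    · intro l
      have h5 := θ.hom.w_sect l
      rw [hθb] at h5
      change (b ≫ B.obj.sect l) ≫ θ.hom.top = b ≫ B.obj.sect l
      rw [Category.assoc, h5]
      exact congrArg (fun w => b ≫ w) (Category.id_comp _)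
  apply ObjectProperty.hom_ext
  exact PtFamObj.hom_ext hθb h3

/-- The pointed statement on derivations of stable curves (see `StableNoDer` for curves without marked points). -/
def StablePtNoDer (g n : ℕ) : Prop :=
  ∀ (k : Type u) [Field k] [IsAlgClosed k] (X : Scheme.{u}) (q : X ⟶ Spec (CommRingCat.of k)) (x : Fin n → X),
    IsStablePtd k X q g x → PtNoDer (k := k) q x

/-- `Mbar S g n` is DM over `S` once it is an algebraic stack. -/
theorem isDMOver_mbar (S : Scheme.{u}) {g n : ℕ} (H : StablePtNoDer.{u} g n)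
    (h : AlgSt.IsAlgStack Scheme.fppfPrecoverage (Mbar S g n)) : AlgSt.IsDMOver (Mbar S g n) :=
  isDMOver_fullSub_pt h (fun _ hB => hB.1) fun _ hB Ω _ _ t Y j y hP => H Ω Y y _ (hB.2.2.2 Ω t Y j y hP)

end stack

end K898.UnrPt
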