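import Groth.Agent.CurvSt.K898.RelDesc
import Groth.Agent.CurvSt.K898.StabFam
import Groth.Agent.CurvSt.K901.EtSch
import Groth.Agent.CurvSt.K901.SubStack
import Groth.Agent.CurvSt.K899.EquivOver
import Groth.Agent.CurvSt.K899.CurveFam
import Groth.Agent.CurvSt.K899.NodalFib

/-!
# Families of schemes inside the stack of curves

* `sqFam`, `sqFamHom` : the family of schemes attached to a base change with scheme vertex along `r : T' ⟶ T` over `S`.
* `exists_iso_toSpFam` : a family of sheaves `A`, etale locally on the base a scheme, all of whose scheme base changes carry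
  relatively ample invertible modules is a family of schemes (isomorphism over the identity of the base).
* `comp 𝒬 Q` : the functor `fullSub (PtFam S n) 𝒬 ⥤ᵇ fullSub (Curves S n) Q`; `isEquivOver_comp`.
-/

set_option autoImplicit false
set_option backward.isDefEq.respectTransparency false
set_option backward.isDefEq.respectTransparency.types false
universe u
open CategoryTheory CategoryTheory.Limits AlgebraicGeometry Opposite AlgSp CurvSt

namespace K898.SchStk

variable {S : Scheme.{u}} {n : ℕ}

section sq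

variable {A : SpFamObj S n} {T' V : Over S} {r : T' ⟶ A.base} {v : V ⟶ T'} {j : (yon S).obj V ⟶ A.X}
  (sq : IsPullback j ((yon S).map v) A.f ((yon S).map r))

/-- The induced section. -/
noncomputable def sec (k : Fin n) : T' ⟶ V :=
  (yon S).preimage (sq.lift ((yon S).map r ≫ A.sect k) (𝟙 _)
        (by rw [Category.assoc, A.sect_f, Category.comp_id, Category.id_comp]))

theorem map_sec (k : Fin n) : (yon S).map (sec sq k) = sq.lift ((yon S).map r ≫ A.sect k) (𝟙 _)
        (by rw [Category.assoc, A.sect_f, Category.comp_id, Category.id_comp]) :=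
  (yon S).map_preimage _

theorem sec_comp (k : Fin n) : sec sq k ≫ v = 𝟙 _ := by
  apply (yon S).map_injective
  rw [Functor.map_comp, map_sec, CategoryTheory.Functor.map_id]
  exact sq.lift_snd _ _ _

theorem map_sec_comp (k : Fin n) : (yon S).map (sec sq k) ≫ j = (yon S).map r ≫ A.sect k := by
  rw [map_sec]
  exact sq.lift_fst _ _ _

/-- The scheme family attached to a scheme-vertex base change. -/
noncomputable def sqFam : PtFamObj S n where
  base := T'
  C := V.left
  f := v.left
  sect k := (sec sq k).left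
  sect_f k := congrArg CommaMorphism.left (sec_comp sq k)

/-- Comparison of the two structure morphisms of the total space. -/
noncomputable def totIso : (sqFam sq).totOver ≅ V :=
  Over.isoMk (Iso.refl _) (by
    change 𝟙 V.left ≫ V.hom = v.left ≫ T'.hom
    rw [Category.id_comp, Over.w v])

theorem totIso_hom_comp : (totIso sq).hom ≫ v = (sqFam sq).fOver := by
  apply Over.OverMorphism.ext
  change 𝟙 V.left ≫ v.left = v.left
  rw [Category.id_comp]

theorem map_totIso_hom_comp :
    (yon S).map (totIso sq).hom ≫ (yon S).map v = (yon S).map (sqFam sq).fOver :=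
  ((yon S).map_comp _ _).symm.trans (congrArg (yon S).map (totIso_hom_comp sq))

/-- The section, with source spelled out. -/
noncomputable def sectOver' (k : Fin n) : T' ⟶ (sqFam sq).totOver := (sqFam sq).sectOver k

theorem sectOver_totIso (k : Fin n) : sectOver' sq k ≫ (totIso sq).hom = sec sq k := by
  apply Over.OverMorphism.ext
  exact Category.comp_id _

theorem map_sectOver_totIso (k : Fin n) :
    (yon S).map (sectOver' sq k) ≫ (yon S).map (totIso sq).hom ≫ j = (yon S).map r ≫ A.sect k := by
  rw [← map_sec_comp sq k, ← sectOver_totIso sq k, Functor.map_comp, Category.assoc]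

/-- The morphism from the scheme family to `A`. -/
noncomputable def sqFamHom : (toSpFam S n).obj (sqFam sq) ⟶ A where
  base := r
  top := (yon S).map (totIso sq).hom ≫ j
  cart := K901.EtSch.isPullback_of_iso_left sq ((yon S).mapIso (totIso sq)) ((yon S).map (sqFam sq).fOver)
    (map_totIso_hom_comp sq)
  w_sect k := map_sectOver_totIso sq k

end sq

/-- A morphism of families over an isomorphism with invertible total map is an isomorphism. -/
theorem isIso_of {A B : SpFamObj S n} (φ : A ⟶ B) [IsIso φ.base] : IsIso φ := by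
  have h1 : IsIso ((yon S).map φ.base) := inferInstance
  have h2 : IsIso φ.top := φ.cart.isIso_fst_of_isIso
  refine ⟨⟨inv φ.base, inv φ.top, ?_, fun i => ?_⟩, ?_, ?_⟩
  · have h3 := IsPullback.of_horiz_isIso (show CommSq (inv φ.top) B.f A.f ((yon S).map (inv φ.base)) from ⟨by
      rw [Functor.map_inv, IsIso.inv_comp_eq, ← Category.assoc, φ.cart.w, Category.assoc, IsIso.hom_inv_id,
        Category.comp_id]⟩)
    exact h3
  · rw [IsIso.comp_inv_eq, Category.assoc, φ.w_sect, Functor.map_inv, IsIso.inv_hom_id_assoc]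
  · exact SpFamObj.hom_ext (IsIso.hom_inv_id _) (IsIso.hom_inv_id _)
  · exact SpFamObj.hom_ext (IsIso.inv_hom_id _) (IsIso.inv_hom_id _)

/-- Squares over the chosen objects `A.ptOver` and squares over arbitrary morphisms of `Over S`. -/
theorem exists_sq_ptOver {A : SpFamObj S n} {T' V : Over S} {r : T' ⟶ A.base} {v : V ⟶ T'}
    {j : (yon S).obj V ⟶ A.X} (sq : IsPullback j ((yon S).map v) A.f ((yon S).map r)) :
    ∃ j' : (yon S).obj (A.ptOver (v.left ≫ r.left)) ⟶ A.X,
      IsPullback j' ((yon S).map (A.fibHom r.left v.left)) A.f ((yon S).map (A.ptHom r.left)) := by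
  let e : A.ptOver r.left ≅ T' := Over.isoMk (Iso.refl _) (by
    change 𝟙 _ ≫ T'.hom = r.left ≫ A.base.hom
    rw [Category.id_comp, Over.w r])
  let e' : A.ptOver (v.left ≫ r.left) ≅ V := Over.isoMk (Iso.refl _) (by
    change 𝟙 _ ≫ V.hom = (v.left ≫ r.left) ≫ A.base.hom
    rw [Category.id_comp, Category.assoc, Over.w r, Over.w v])
  refine ⟨(yon S).map e'.hom ≫ j, IsPullback.of_iso sq ((yon S).mapIso e'.symm) (Iso.refl _)
    ((yon S).mapIso e.symm) (Iso.refl _) ?_ ?_ ?_ ?_⟩
  · change j ≫ 𝟙 _ = (yon S).map e'.inv ≫ (yon S).map e'.hom ≫ j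
    rw [← Functor.map_comp_assoc, Iso.inv_hom_id, CategoryTheory.Functor.map_id, Category.id_comp, Category.comp_id]
  · change (yon S).map v ≫ (yon S).map e.inv = (yon S).map e'.inv ≫ (yon S).map (A.fibHom r.left v.left)
    rw [← Functor.map_comp, ← Functor.map_comp]
    refine congrArg (yon S).map ?_
    apply Over.OverMorphism.ext
    change v.left ≫ 𝟙 _ = 𝟙 _ ≫ v.left
    rw [Category.id_comp, Category.comp_id]
  · change A.f ≫ 𝟙 _ = 𝟙 _ ≫ A.f
    rw [Category.id_comp, Category.comp_id]
  · change (yon S).map r ≫ 𝟙 _ = (yon S).map e.inv ≫ (yon S).map (A.ptHom r.left)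
    rw [← Functor.map_comp, Category.comp_id]
    refine congrArg (yon S).map ?_
    apply Over.OverMorphism.ext
    change r.left = 𝟙 _ ≫ r.left
    rw [Category.id_comp]

/-- A family of sheaves which is etale locally on the base a scheme and whose base changes with scheme total space carry
relatively ample invertible modules is a family of schemes. -/
theorem exists_iso_toSpFam (A : SpFamObj S n) (hE : K901.EtSch.EtLocSch A)
    (hL : ∀ (B : PtFamObj S n) (_ : (toSpFam S n).obj B ⟶ A), ∃ L : B.C.Modules, RelAmple.IsRelAmple B.f L) :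
    ∃ (B : PtFamObj S n) (e : (toSpFam S n).obj B ≅ A), (SpFam S n).p.IsHomLift (𝟙 A.base) e.hom := by
  obtain ⟨V, v, e, he⟩ := K898.RelDesc.exists_iso_yon_of_local A.f (by
      intro s
      obtain ⟨T', g, w, X', q, j, hg, hw, sq⟩ := hE s
      refine ⟨A.ptOver g, A.ptHom g, ?_, ?_, w, hw, A.ptOver (q ≫ g), A.fibHom g q, j, sq⟩
      · change Flat g
        infer_instance
      · change LocallyOfFinitePresentation g
        infer_instance) (by
      intro T' V r v j sq
      exact hL (sqFam sq) (sqFamHom sq))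
  have sq : IsPullback e.hom ((yon S).map v) A.f ((yon S).map (𝟙 A.base)) := by
    rw [CategoryTheory.Functor.map_id]
    exact IsPullback.of_horiz_isIso ⟨by rw [he, Category.comp_id]⟩
  have h1 : IsIso (sqFamHom sq).base := by
    change IsIso (𝟙 A.base)
    infer_instance
  have h2 := isIso_of (sqFamHom sq)
  refine ⟨sqFam sq, asIso (sqFamHom sq), ?_⟩
  refine IsHomLift.of_fac _ _ _ rfl rfl ?_
  change 𝟙 A.base = 𝟙 _ ≫ 𝟙 A.base ≫ 𝟙 _
  simp

/-! ### the comparison functor -/

section comp

variable (𝒬 : PtFamObj S n → Prop) (Q : (Curves S n).obj → Prop)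

/-- Hypotheses on a condition `𝒬` on families of schemes and a condition `Q` on families of curves: they correspond to each
other, `Q` is stable under base change, and families with `𝒬` carry relatively ample modules. -/
structure Match : Prop where
  isCurveFam : ∀ B, 𝒬 B → IsCurveFam ((toSpFam S n).obj B)
  toQ : ∀ (B) (h : 𝒬 B), Q ⟨(toSpFam S n).obj B, isCurveFam B h⟩
  ofQ : ∀ (B) (hc : IsCurveFam ((toSpFam S n).obj B)), Q ⟨(toSpFam S n).obj B, hc⟩ → 𝒬 B
  stable : ∀ ⦃A B : (Curves S n).obj⦄ (_ : A ⟶ B), Q B → Q A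
  ample : ∀ B, 𝒬 B → ∃ L : B.C.Modules, RelAmple.IsRelAmple B.f L

variable {𝒬 Q}

/-- The comparison functor. -/
noncomputable def comp (h : Match 𝒬 Q) : AlgSt.fullSub (PtFam S n) 𝒬 ⥤ᵇ AlgSt.fullSub (Curves S n) Q :=
  K901.SubStack.liftFun (K901.SubStack.liftFun
    (BasedFunctor.comp (AlgSt.subIncl (PtFam S n) 𝒬) (toSpFam S n)) (fun B => h.isCurveFam B.obj B.property))
    (fun B => h.toQ B.obj B.property)

instance (h : Match 𝒬 Q) : (comp h).toFunctor.Faithful := by
  refine ⟨fun {A B} f g hfg => ?_⟩
  apply ObjectProperty.hom_ext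
  apply (toSpFam S n).toFunctor.map_injective
  exact congrArg (fun (t : (comp h).obj A ⟶ (comp h).obj B) => t.hom.hom) hfg

instance (h : Match 𝒬 Q) : (comp h).toFunctor.Full := by
  refine ⟨fun {A B} f => ?_⟩
  obtain ⟨g, hg⟩ := (toSpFam S n).toFunctor.map_surjective f.hom.hom
  refine ⟨ObjectProperty.homMk g, ?_⟩
  apply ObjectProperty.hom_ext
  apply ObjectProperty.hom_ext
  exact hg

theorem isEquivOver_comp (h : Match 𝒬 Q) (hE : ∀ A : (Curves S n).obj, K901.EtSch.EtLocSch A.obj)
    (hfib : ∀ ⦃A B : SpFamObj S n⦄ (_ : A ⟶ B), IsCurveFam B → IsCurveFam A) :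
    FibCat.IsEquivOver (comp h) := by
  refine K899.EquivOver.isEquivOver_of_fullyFaithful (comp h) inferInstance inferInstance fun y => ?_
  obtain ⟨B, e, he⟩ := exists_iso_toSpFam y.obj.obj (hE y.obj) (by
    intro B φ
    have hB : IsCurveFam ((toSpFam S n).obj B) := hfib φ y.obj.property
    have hQ : Q ⟨(toSpFam S n).obj B, hB⟩ := h.stable (ObjectProperty.homMk φ) y.property
    exact h.ample B (h.ofQ B hB hQ))
  have hB : IsCurveFam ((toSpFam S n).obj B) := hfib e.hom y.obj.property
  let e' : (⟨(toSpFam S n).obj B, hB⟩ : (Curves S n).obj) ≅ y.obj :=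
    ObjectProperty.isoMk _ e
  have hQ : Q ⟨(toSpFam S n).obj B, hB⟩ := h.stable e'.hom y.property
  have hB' : 𝒬 B := h.ofQ B hB hQ
  refine ⟨⟨B, hB'⟩, ObjectProperty.isoMk _ e', ?_⟩
  have he' : (SpFam S n).p.IsHomLift (𝟙 y.obj.obj.base) e.hom := he
  exact IsHomLift.of_fac _ _ _ (IsHomLift.domain_eq (SpFam S n).p (𝟙 y.obj.obj.base) e.hom) rfl
    (IsHomLift.fac (SpFam S n).p (𝟙 y.obj.obj.base) e.hom)

end comp

end K898.SchStk
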