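import Groth.Agent.CurvSt.K740.CurvAlgFin
import Groth.Agent.CurvSt.K740.DiagFin
import Groth.Agent.CurvSt.K903.IsomQC
import Groth.Agent.AlgSt.K738.Open1

/-!
# The stack of curves: algebraic, quasi-compact and separated diagonal, locally of finite type

`std S n : K738.OSub.Std (Curves S n)`.
-/

set_option autoImplicit false
universe u
open CategoryTheory CategoryTheory.Limits AlgebraicGeometry Opposite

namespace K898.StdCurves

open CurvSt AlgSp

theorem lft (S : Scheme.{u}) (n : ℕ) :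
    AlgSt.LocQ (AlgSp.LocP @LocallyOfFiniteType) (FibCat.toSelf (Curves S n)) := by
  obtain ⟨U, V, x, y, g, α, h₁, h₂, h₃, h₄⟩ := K740.CurvAlg.locQ_lfp_toSelf S n
  exact ⟨U, V, x, y, g, α, h₁, h₂, h₃, K597.locP_mono (fun _ _ f hf => by
    have : LocallyOfFinitePresentation f := hf
    infer_instance) h₄⟩

theorem qcSep (S : Scheme.{u}) (n : ℕ) :
    AlgSt.RepByAlgSpWith (AlgSp.IsQuasiCompactMor ⊓ AlgSp.IsSeparatedMor) (FibCat.diag (FibCat.toSelf (Curves S n))) :=
  K903.IsomQC.main_of K740.CurvAlg.projEtLoc (fun _ hA => K902.EtSchFin.etLocSch hA)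
    (K740.CurvAlg.isSeparatedMor_diag S n)

theorem std (S : Scheme.{u}) (n : ℕ) : K738.OSub.Std (Curves S n) where
  alg := K740.CurvAlg.isAlgStack_curves S n
  sep := K740.CurvAlg.isSeparatedMor_diag S n
  qc := K735.Rep.AlgSt_RepByAlgSpWith_mono (fun _ _ _ h => h.1) (qcSep S n)
  lft := lft S n

end K898.StdCurves
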