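import Groth.Agent.CurvSt.K740.EmbBasic
import Groth.Prelude.Def_StCurv

/-!
# A quasi-compact parameter space for pointed curves with bounded embeddings

* `FamProp n` : properties of pointed families (scheme total spaces); `OpenCond P` : `P` has open loci.
* `Hits` : a pointed family of which every geometric object satisfying `K` is a fibre.
* `hits_succ` : adding a section; `exists_hits`.
* `exists_family` : a family over a scheme quasi-compact over `S`, satisfying `P`, with all objects satisfying `P` over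
  algebraically closed fields as fibres.
-/

set_option autoImplicit false
universe u
open CategoryTheory CategoryTheory.Limits AlgebraicGeometry Opposite

namespace K898.QCParam

open K740.Emb CurvSt

/-- Properties of pointed families. -/
abbrev FamProp (n : ℕ) : Type (u + 1) :=
  ∀ {C T : Scheme.{u}} (f : C ⟶ T) (σ : Fin n → (T ⟶ C)) (_ : ∀ i, σ i ≫ f = 𝟙 T), Prop

/-- The property `P` holds over an open locus of the base. -/
def OpenCond {n : ℕ} (P : FamProp.{u} n) : Prop :=
  ∀ {C T : Scheme.{u}} (f : C ⟶ T) (σ : Fin n → (T ⟶ C)) (_ : ∀ i, σ i ≫ f = 𝟙 T), Flat f → IsProper f →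
    LocallyOfFinitePresentation f → (∀ x, FlatMor.fibreDimAt f x ≤ ((1 : ℕ) : WithBot ℕ∞)) →
    ∃ W : T.Opens, ∀ {C' T' : Scheme.{u}} (f' : C' ⟶ T') (σ' : Fin n → (T' ⟶ C')) (hσ' : ∀ i, σ' i ≫ f' = 𝟙 T')
      (b : T' ⟶ T) (a : C' ⟶ C), IsPullback a f' f b → (∀ i, σ' i ≫ a = b ≫ σ i) →
        (P f' σ' hσ' ↔ Set.range b ⊆ (W : Set T))

/-- Properties of schemes over algebraically closed fields. -/
abbrev GProp : Type (u + 1) := ∀ (Ω : Type u) [Field Ω] [IsAlgClosed Ω] {X : Scheme.{u}} (_ : X ⟶ Spec (CommRingCat.of Ω)), Prop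

/-- Every pointed curve over an algebraically closed field satisfying `K` is a fibre of the family. -/
def Hits (K : GProp.{u}) {n : ℕ} {C T : Scheme.{u}} (f : C ⟶ T) (σ : Fin n → (T ⟶ C)) : Prop :=
  ∀ (Ω : Type u) [Field Ω] [IsAlgClosed Ω] {X : Scheme.{u}} (q : X ⟶ Spec (CommRingCat.of Ω))
    (x : Fin n → (Spec (CommRingCat.of Ω) ⟶ X)), (∀ k, x k ≫ q = 𝟙 _) → K Ω q →
    ∃ (g : Spec (CommRingCat.of Ω) ⟶ T) (i : X ⟶ C), IsPullback i q f g ∧ ∀ k, x k ≫ i = g ≫ σ k

/-- The sections of the universal family after adding a section. -/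
noncomputable def succSect {n : ℕ} {C T : Scheme.{u}} (f : C ⟶ T) (σ : Fin n → (T ⟶ C)) (hσ : ∀ i, σ i ≫ f = 𝟙 T) :
    Fin (n + 1) → (C ⟶ pullback f f) :=
  Fin.cases (pullback.lift (𝟙 C) (𝟙 C) rfl)
    (fun k => pullback.lift (f ≫ σ k) (𝟙 C) (by rw [Category.assoc, hσ, Category.comp_id, Category.id_comp]))

theorem succSect_snd {n : ℕ} {C T : Scheme.{u}} (f : C ⟶ T) (σ : Fin n → (T ⟶ C)) (hσ : ∀ i, σ i ≫ f = 𝟙 T)
    (k : Fin (n + 1)) : succSect f σ hσ k ≫ pullback.snd f f = 𝟙 C := by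
  refine Fin.cases ?_ (fun k => ?_) k
  · exact pullback.lift_snd _ _ _
  · exact pullback.lift_snd _ _ _

theorem hits_succ {K : GProp.{u}} {n : ℕ} {C T : Scheme.{u}} {f : C ⟶ T} {σ : Fin n → (T ⟶ C)}
    (hσ : ∀ i, σ i ≫ f = 𝟙 T) (h : Hits K f σ) : Hits K (pullback.snd f f) (succSect f σ hσ) := by
  intro Ω _ _ X q x hx hK
  obtain ⟨g, i, hP, hi⟩ := h Ω q (fun k => x k.succ) (fun k => hx _) hK
  have hg : (x 0 ≫ i) ≫ f = g := by rw [Category.assoc, hP.w, reassoc_of% hx 0]
  have hw : i ≫ f = (q ≫ x 0 ≫ i) ≫ f := by rw [Category.assoc, hg, hP.w]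
  have sq : IsPullback (pullback.fst f f) (pullback.snd f f) f f := IsPullback.of_hasPullback _ _
  refine ⟨x 0 ≫ i, pullback.lift i (q ≫ x 0 ≫ i) hw, ?_, ?_⟩
  · refine IsPullback.of_right (h₁₂ := pullback.fst f f) (v₁₃ := f) (h₂₂ := f) ?_ (pullback.lift_snd _ _ _) sq
    rw [pullback.lift_fst, hg]
    exact hP
  · intro k
    refine Fin.cases ?_ (fun k => ?_) k
    · apply pullback.hom_ext
      · simp only [succSect, Fin.cases_zero, Category.assoc, pullback.lift_fst, Category.comp_id]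
      · simp only [succSect, Fin.cases_zero, Category.assoc, pullback.lift_snd, Category.comp_id]
        rw [reassoc_of% hx 0]
    · apply pullback.hom_ext
      · simp only [succSect, Fin.cases_succ, Category.assoc, pullback.lift_fst]
        rw [hi k, ← hg, Category.assoc, Category.assoc]
      · simp only [succSect, Fin.cases_succ, Category.assoc, pullback.lift_snd, Category.comp_id]
        rw [reassoc_of% hx k.succ]

/-- A parameter space of finite type over the integers for curves satisfying `K`. -/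
def Bounded (K : GProp.{u}) (n : ℕ) : Prop :=
  ∃ (C T : Scheme.{u}) (f : C ⟶ T) (σ : Fin n → (T ⟶ C)) (_ : ∀ i, σ i ≫ f = 𝟙 T),
    LocallyOfFiniteType (specULiftZIsTerminal.from T) ∧ CompactSpace T ∧ Flat f ∧ IsProper f ∧
    LocallyOfFinitePresentation f ∧ (∀ x, FlatMor.fibreDimAt f x ≤ ((1 : ℕ) : WithBot ℕ∞)) ∧ Hits K f σ

theorem Bounded.succ {K : GProp.{u}} {n : ℕ} (h : Bounded K n) : Bounded K (n + 1) := by
  obtain ⟨C, T, f, σ, hσ, h1, h2, h3, h4, h5, h6, h7⟩ := h
  have sq : IsPullback (pullback.fst f f) (pullback.snd f f) f f := IsPullback.of_hasPullback _ _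
  refine ⟨pullback f f, C, pullback.snd f f, succSect f σ hσ, succSect_snd f σ hσ, ?_, ?_, ?_, ?_, ?_, ?_, hits_succ hσ h7⟩
  · have e : specULiftZIsTerminal.from C = f ≫ specULiftZIsTerminal.from T := specULiftZIsTerminal.hom_ext _ _
    rw [e]
    infer_instance
  · exact QuasiCompact.compactSpace_of_compactSpace f
  · infer_instance
  · infer_instance
  · infer_instance
  · intro x
    rw [Groth.Agent.Ega4fib.H172.FibDimBC.fibreDimAt_of_isPullback sq x]
    exact h6 _

theorem Bounded.all {K : GProp.{u}} (h : Bounded K 0) (n : ℕ) : Bounded K n := by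
  induction n with
  | zero => exact h
  | succ n ih => exact ih.succ

/-- The universal family: a family over a scheme quasi-compact over `S`, satisfying `P`, containing all objects satisfying `P`
over algebraically closed fields. -/
theorem exists_family {n : ℕ} (P : FamProp.{u} n) (hP : OpenCond P) (K : GProp.{u}) (hB : Bounded K 0)
    (hK : ∀ (Ω : Type u) [Field Ω] [IsAlgClosed Ω] {X : Scheme.{u}} (q : X ⟶ Spec (CommRingCat.of Ω))
      (x : Fin n → (Spec (CommRingCat.of Ω) ⟶ X)) (hx : ∀ k, x k ≫ q = 𝟙 _), P q x hx → K Ω q) (S : Scheme.{u}) :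
    ∃ B : PtFamObj S n, P B.f B.sect B.sect_f ∧ QuasiCompact B.base.hom ∧
      ∀ (Ω : Type u) [Field Ω] [IsAlgClosed Ω] (t : Spec (CommRingCat.of Ω) ⟶ S) (A : PtFamObj S n),
        A.base = Over.mk t → P A.f A.sect A.sect_f → Nonempty (A ⟶ B) := by
  obtain ⟨C, T, f, σ, hσ, h1, h2, h3, h4, h5, h6, h7⟩ := hB.all n
  obtain ⟨W, hW⟩ := hP f σ hσ h3 h4 h5 h6
  have hZ : IsNoetherianRing (ULift.{u} ℤ) := isNoetherianRing_of_ringEquiv ℤ ULift.ringEquiv.symm
  have hZ' : IsLocallyNoetherian (Spec (CommRingCat.of (ULift.{u} ℤ))) := inferInstance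
  have hTn : IsLocallyNoetherian T := LocallyOfFiniteType.isLocallyNoetherian (specULiftZIsTerminal.from T)
  have hTn' : IsNoetherian T := { }
  have hWc : CompactSpace W := by
    have := (TopologicalSpace.NoetherianSpace.isCompact (W : Set T))
    exact isCompact_iff_compactSpace.1 this
  -- the base
  let V : Scheme.{u} := W
  let V' : Scheme.{u} := pullback (specULiftZIsTerminal.from V) (specULiftZIsTerminal.from S)
  let v : V' ⟶ V := pullback.fst _ _
  let s : V' ⟶ S := pullback.snd _ _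
  let b : V' ⟶ T := v ≫ W.ι
  let C' : Scheme.{u} := pullback f b
  let a : C' ⟶ C := pullback.fst f b
  let f' : C' ⟶ V' := pullback.snd f b
  have sq : IsPullback a f' f b := IsPullback.of_hasPullback _ _
  let σ' : Fin n → (V' ⟶ C') := fun i => sq.lift (b ≫ σ i) (𝟙 _)
    (by rw [Category.assoc, hσ, Category.comp_id, Category.id_comp])
  have hσ' : ∀ i, σ' i ≫ f' = 𝟙 _ := fun i => sq.lift_snd _ _ _
  have hσ'a : ∀ i, σ' i ≫ a = b ≫ σ i := fun i => sq.lift_fst _ _ _
  let B : PtFamObj S n := { base := Over.mk s, C := C', f := f', sect := σ', sect_f := hσ' }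
  refine ⟨B, ?_, ?_, ?_⟩
  · refine (hW f' σ' hσ' b a sq hσ'a).2 ?_
    rintro _ ⟨y, rfl⟩
    change W.ι (v y) ∈ W
    have : W.ι (v y) ∈ Set.range W.ι := ⟨_, rfl⟩
    rwa [Scheme.Opens.range_ι] at this
  · have hq : QuasiCompact (specULiftZIsTerminal.from V) := by
      rw [quasiCompact_iff_compactSpace]
      exact hWc
    exact (inferInstance : QuasiCompact (pullback.snd (specULiftZIsTerminal.from V) (specULiftZIsTerminal.from S)))
  · intro Ω _ _ t A hA hPA
    obtain ⟨base, X, q, x, hx⟩ := A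
    change base = Over.mk t at hA
    subst hA
    change X ⟶ Spec (CommRingCat.of Ω) at q
    change Fin n → (Spec (CommRingCat.of Ω) ⟶ X) at x
    change ∀ k, x k ≫ q = 𝟙 (Spec (CommRingCat.of Ω)) at hx
    change P q x hx at hPA
    obtain ⟨g, i, hsq, hi⟩ := h7 Ω q x hx (hK Ω q x hx hPA)
    have hg : Set.range g ⊆ (W : Set T) := (hW q x hx g i hsq hi).1 hPA
    let g₁ : Spec (CommRingCat.of Ω) ⟶ V := IsOpenImmersion.lift W.ι g (by rwa [Scheme.Opens.range_ι])
    have hg₁ : g₁ ≫ W.ι = g := IsOpenImmersion.lift_fac _ _ _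
    let g₂ : Spec (CommRingCat.of Ω) ⟶ V' := pullback.lift g₁ t (specULiftZIsTerminal.hom_ext _ _)
    have hg₂v : g₂ ≫ v = g₁ := pullback.lift_fst _ _ _
    have hg₂s : g₂ ≫ s = t := pullback.lift_snd _ _ _
    have hg₂b : g₂ ≫ b = g := by
      change g₂ ≫ v ≫ W.ι = g
      rw [reassoc_of% hg₂v, hg₁]
    have hw : i ≫ f = (q ≫ g₂) ≫ b := by rw [Category.assoc, hg₂b, hsq.w]
    let i' : X ⟶ C' := sq.lift i (q ≫ g₂) hw
    have hi'a : i' ≫ a = i := sq.lift_fst _ _ _
    have hi'f : i' ≫ f' = q ≫ g₂ := sq.lift_snd _ _ _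
    have hsq' : IsPullback i' q f' g₂ := by
      refine IsPullback.of_right (h₁₂ := a) (v₁₃ := f) (h₂₂ := b) ?_ hi'f sq
      rw [hi'a, hg₂b]
      exact hsq
    exact ⟨{ base := Over.homMk g₂ hg₂s
             top := i'
             cart := hsq'
             w_sect := fun k => by
              change x k ≫ i' = g₂ ≫ σ' k
              apply sq.hom_ext
              · rw [Category.assoc, hi'a, hi k, Category.assoc, hσ'a, reassoc_of% hg₂b]
              · rw [Category.assoc, hi'f, Category.assoc, hσ', reassoc_of% hx k]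
                exact (Category.comp_id _).symm }⟩

end K898.QCParam
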