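import Groth.Agent.CurvSt.K898.OpenSm
import Groth.Agent.CurvSt.K898.QCParam

/-!
# Open conditions on families of schemes from open substacks of the stack of curves

* `openCond_of_openLocus`; `openCond_smooth`, `openCond_stable`.
-/

set_option autoImplicit false
universe u
open CategoryTheory CategoryTheory.Limits AlgebraicGeometry Opposite

namespace K898.QCOpen

open CurvSt AlgSp K898.QCParam K898.MbarEq Groth.Agent K901.OpenSub

variable {n : ℕ}

theorem openCond_of_openLocus (P : FamProp.{u} n) (Q : ∀ (S : Scheme.{u}), (Curves S n).obj → Prop)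
    (hQ : ∀ S, OpenLocus (Curves S n) (Q S))
    (hPQ : ∀ (S : Scheme.{u}) (B : PtFamObj S n) (hc : IsCurveFam ((toSpFam S n).obj B)),
      Q S ⟨(toSpFam S n).obj B, hc⟩ ↔ P B.f B.sect B.sect_f) : OpenCond P := by
  intro C T f σ hσ h1 h2 h3 h4
  let B : PtFamObj T n := { base := Over.mk (𝟙 T), C := C, f := f, sect := σ, sect_f := hσ }
  have hB : IsCurveFam ((toSpFam T n).obj B) := K899.CurveFam.isCurveFam_toSpFam B h1 h2 h3 h4
  obtain ⟨W, hW⟩ := hQ T ⟨(toSpFam T n).obj B, hB⟩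
  refine ⟨W, fun {C' T'} f' σ' hσ' b a sq hσa => ?_⟩
  let B' : PtFamObj T n := { base := Over.mk b, C := C', f := f', sect := σ', sect_f := hσ' }
  have h1' : Flat f' := MorphismProperty.of_isPullback (P := @Flat) sq h1
  have h2' : IsProper f' := MorphismProperty.of_isPullback (P := @IsProper) sq h2
  have h3' : LocallyOfFinitePresentation f' := MorphismProperty.of_isPullback (P := @LocallyOfFinitePresentation) sq h3
  have h4' : ∀ x, FlatMor.fibreDimAt f' x ≤ ((1 : ℕ) : WithBot ℕ∞) := fun x => by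
    rw [Groth.Agent.Ega4fib.H172.FibDimBC.fibreDimAt_of_isPullback sq x]
    exact h4 _
  have hB' : IsCurveFam ((toSpFam T n).obj B') := K899.CurveFam.isCurveFam_toSpFam B' h1' h2' h3' h4'
  let φ : B' ⟶ B :=
    { base := Over.homMk b (Category.comp_id _)
      top := a
      cart := sq
      w_sect := hσa }
  let ψ : (⟨(toSpFam T n).obj B', hB'⟩ : (Curves T n).obj) ⟶ ⟨(toSpFam T n).obj B, hB⟩ :=
    ObjectProperty.homMk ((toSpFam T n).toFunctor.map φ)
  exact (hPQ T B' hB').symm.trans (hW _ ψ)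

theorem openCond_stable (g : ℕ) (hO : ∀ S : Scheme.{u}, OpenLocus (Curves S n) (fun A => SpIsStablePtd A.obj g)) :
    OpenCond.{u} (n := n) (fun f σ hσ => IsStableFam f σ hσ g) := by
  refine openCond_of_openLocus _ (fun S A => SpIsStablePtd A.obj g) hO fun S B hc => ⟨fun h => ?_, fun h => ?_⟩
  · obtain ⟨h1, h2, h3, -⟩ := facts B hc
    exact ⟨h1, h2, h3, (K903.GeomFib.geomFib_toSpFam_iff _ B).1 h⟩
  · exact (K903.GeomFib.geomFib_toSpFam_iff _ B).2 h.2.2.2

theorem openCond_smooth (g : ℕ) (hO : ∀ S : Scheme.{u}, OpenLocus (Curves S n) (fun A => SpIsSmoothPtd A.obj g)) :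
    OpenCond.{u} (n := n) (fun f σ _ => IsSmoothPtdFam f σ g) := by
  refine openCond_of_openLocus (fun f σ _ => IsSmoothPtdFam f σ g) (fun S A => SpIsSmoothPtd A.obj g) hO
    fun S B hc => ⟨fun h => ?_, fun h => ?_⟩
  · obtain ⟨h1, h2, h3, -⟩ := facts B hc
    have h4 := (K903.GeomFib.geomFib_toSpFam_iff _ B).1 h.2
    have h5 : Smooth B.f := K901.SchFib.locP_of_isPullback (q := B.fOver) K597.etLoc_smooth hc.1
      (IsAlgSpace.yon_obj _) h.1 (isPullback_id B)
    exact ⟨⟨h5, h2, geometricallyIrreducible_of _ fun Ω _ _ t X i q hP => (h4 Ω t X i q hP).1,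
      fun Ω _ _ t X i q hP => ⟨(h4 Ω t X i q hP).2.1, (h4 Ω t X i q hP).2.2.1⟩⟩,
      markedPt_injective_iff.2 fun Ω _ _ t X i q hP => (h4 Ω t X i q hP).2.2.2⟩
  · refine ⟨K899.CurveFam.locP_smooth B.fOver h.1.1, (K903.GeomFib.geomFib_toSpFam_iff _ B).2 ?_⟩
    intro Ω _ _ t X' i q hP
    have h3 : GeometricallyIrreducible B.f := h.1.2.2.1
    have hirr : IrreducibleSpace X' :=
      GeometricallyIrreducible.geometrically_irreducibleSpace (f := B.f) _ _ _ hP
    obtain ⟨h4, h5⟩ := h.1.2.2.2 Ω t X' i q hP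
    exact ⟨hirr, h4, h5, markedPt_injective_iff.1 h.2 Ω t X' i q hP⟩

end K898.QCOpen
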