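import Groth.Agent.AlgSt.K741.QcqsS

/-!
# Quasi-compactness of an algebraic stack from a family hitting all geometric points

* `isQuasiCompactMor_overCat` : `overCat U ⟶ (Sch/S)` is quasi-compact if `U ⟶ S` is.
* `exists_isSurjective` : if every object over an algebraically closed field maps to the object `A`, the functor
  `overCat (p A) ⥤ᵇ 𝒳` defined by `A` is surjective.
* `isQuasiCompactMor_of_family`.
-/

set_option autoImplicit false
set_option backward.isDefEq.respectTransparency false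
set_option backward.isDefEq.respectTransparency.types false

universe v₂ u₂ u

open CategoryTheory CategoryTheory.Limits AlgebraicGeometry Opposite

namespace K898.QCStack

variable {S : Scheme.{u}}

local notation "Alg" => AlgSt.IsAlgStack Scheme.fppfPrecoverage

theorem isQuasiCompact_prod' (T U : Over S) [CompactSpace ↥T.left] [QuasiCompact U.hom] :
    AlgSt.IsQuasiCompact (FibCat.fp (FibCat.toSelf (FibCat.overCat T)) (FibCat.toSelf (FibCat.overCat U))) := by
  have h2 : QuasiCompact (pullback.fst T.hom U.hom) := inferInstance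
  have hcs : CompactSpace ↥(K736.Spectral.prodOver T U).left :=
    (QuasiCompact.compactSpace_of_compactSpace (pullback.fst T.hom U.hom) : CompactSpace ↥(pullback T.hom U.hom))
  have hc : AlgSt.IsQuasiCompact (FibCat.overCat (K736.Spectral.prodOver T U)) := K742.QC.isQuasiCompact_overCat _
  let F : FibCat.overCat (K736.Spectral.prodOver T U) ⥤ᵇ
    FibCat.fp (FibCat.toSelf (FibCat.overCat T)) (FibCat.toSelf (FibCat.overCat U)) :=
    FibCat.fpLift (AlgSt.overMap (K736.Spectral.pr₁ T U)) (AlgSt.overMap (K736.Spectral.pr₂ T U)) (Iso.refl _)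
  refine K742.QC.isQuasiCompact_of_essSurj (K742.QC.isAlgStack_overCat _)
    (K742.QC.isAlgStack_fp (K742.QC.isAlgStack_overCat _) (K742.QC.isAlgStack_overCat _) (K741.isAlgStack_selfOver S) _ _)
    F ?_ hc
  intro c
  have hl : (FibCat.selfOver (Over S)).p.IsHomLift (𝟙 ((FibCat.overCat T).p.obj c.obj.fst)) c.obj.iso.hom := c.property
  obtain ⟨t, ht₁, ht₂⟩ := K736.Spectral.exists_lift (T := (c.obj.fst : Over T).left) (c.obj.fst : Over T).hom
    (c.obj.iso.hom ≫ (c.obj.snd : Over U).hom)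
  refine ⟨Over.mk t, rfl, ⟨K742.Pt.homFp (Over.homMk (𝟙 _) ?_) (Over.homMk c.obj.iso.hom ?_) ?_⟩⟩
  · change 𝟙 _ ≫ (c.obj.fst : Over T).hom = t ≫ K736.Spectral.pr₁ T U
    rw [ht₁, Category.id_comp]
  · change c.obj.iso.hom ≫ (c.obj.snd : Over U).hom = t ≫ K736.Spectral.pr₂ T U
    rw [ht₂]
  · change 𝟙 _ ≫ c.obj.iso.hom = 𝟙 _ ≫ c.obj.iso.hom
    rfl

/-- `overCat U ⟶ (Sch/S)` is quasi-compact if `U ⟶ S` is. -/
theorem isQuasiCompactMor_overCat (U : Over S) [QuasiCompact U.hom] :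
    AlgSt.IsQuasiCompactMor Scheme.fppfPrecoverage (FibCat.toSelf (FibCat.overCat U)) := by
  refine K742.QC.isQuasiCompactMor_of_affine (K742.QC.isAlgStack_overCat _) (K741.isAlgStack_selfOver S) _ fun T hT y => ?_
  rw [K741.eq_toSelf y]
  exact isQuasiCompact_prod' T U

/-- A family hitting all objects over algebraically closed fields defines a surjective functor. -/
theorem exists_isSurjective {𝒳 : BasedCategory.{v₂, u₂} (Over S)} (h𝒳 : FibCat.IsFibGrpd 𝒳.p) (A : 𝒳.obj) {U : Over S}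
    (hA : 𝒳.p.obj A = U)
    (H : ∀ (Ω : Type u) [Field Ω] [IsAlgClosed Ω] (t : Spec (CommRingCat.of Ω) ⟶ S) (x : 𝒳.obj),
      𝒳.p.obj x = Over.mk t → Nonempty (x ⟶ A)) :
    ∃ y : FibCat.overCat U ⥤ᵇ 𝒳, AlgSt.IsSurjective y := by
  obtain ⟨y, e, he⟩ := K734.Fib.exists_yo h𝒳 A hA
  refine ⟨y, fun z => ?_⟩
  obtain ⟨p, rfl⟩ := AlgSt.Points.mk_surjective z
  let Ω := AlgebraicClosure p.K
  let i : Spec (CommRingCat.of Ω) ⟶ Spec (CommRingCat.of p.K) := Spec.map (CommRingCat.ofHom (algebraMap p.K Ω))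
  let j : (Over.mk (i ≫ p.str) : Over S) ⟶ Over.mk p.str := Over.homMk i rfl
  obtain ⟨x, φ, hφ⟩ := K734.Fib.exists_lift h𝒳 p.lies j
  have hx : 𝒳.p.obj x = Over.mk (i ≫ p.str) := IsHomLift.domain_eq 𝒳.p j φ
  obtain ⟨m⟩ := H Ω (i ≫ p.str) x hx
  -- the classifying morphism
  let g : (Over.mk (i ≫ p.str) : Over S) ⟶ U := eqToHom hx.symm ≫ 𝒳.p.map m ≫ eqToHom hA
  let G : (FibCat.overCat U).obj := Over.mk g
  have hm : 𝒳.p.IsHomLift g m := by
    refine IsHomLift.of_fac 𝒳.p g m hx hA ?_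
    rfl
  have hy : 𝒳.p.IsHomLift g (y.map (K734.Fib.toOne G) ≫ e.hom) := by
    have h1 : (FibCat.overCat U).p.IsHomLift g (K734.Fib.toOne G) := IsHomLift.map (FibCat.overCat U).p (K734.Fib.toOne G)
    have h2 : 𝒳.p.IsHomLift g (y.map (K734.Fib.toOne G)) := inferInstance
    have h3 : 𝒳.p.IsHomLift (𝟙 U) e.hom := by
      refine IsHomLift.of_fac 𝒳.p (𝟙 U) e.hom (y.w_obj _) hA ?_
      rw [he.map_eq]
      simp
    have h4 : 𝒳.p.IsHomLift (g ≫ 𝟙 U) (y.map (K734.Fib.toOne G) ≫ e.hom) := inferInstance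
    rwa [Category.comp_id] at h4
  obtain ⟨χ, -, -⟩ := K734.Fib.exists_fac' h𝒳 (g := 𝟙 _) hy (by rw [Category.id_comp]; exact hm)
  refine ⟨AlgSt.Points.mk { K := Ω, str := i ≫ p.str, obj := G, lies := rfl }, ?_⟩
  exact AlgSt.Points.sound ⟨{ K := Ω, str := i ≫ p.str, obj := x, lies := hx }, χ, φ, trivial⟩

/-- An algebraic stack is quasi-compact over `S` when an object over a quasi-compact scheme over `S` hits all objects over
algebraically closed fields. -/
theorem isQuasiCompactMor_of_family {𝒳 : AlgSt.Cat S} (h𝒳 : Alg 𝒳) (A : 𝒳.obj) (hA : QuasiCompact (𝒳.p.obj A).hom)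
    (H : ∀ (Ω : Type u) [Field Ω] [IsAlgClosed Ω] (t : Spec (CommRingCat.of Ω) ⟶ S) (x : 𝒳.obj),
      𝒳.p.obj x = Over.mk t → Nonempty (x ⟶ A)) :
    AlgSt.IsQuasiCompactMor Scheme.fppfPrecoverage (FibCat.toSelf 𝒳) := by
  obtain ⟨y, hy⟩ := exists_isSurjective h𝒳.isStack.1 A rfl H
  have h1 : BasedFunctor.comp y (FibCat.toSelf 𝒳) = FibCat.toSelf (FibCat.overCat (𝒳.p.obj A)) := K741.eq_toSelf _
  exact K742.QC.isQuasiCompactMor_of_isSurjective_of_triangle (K742.QC.isAlgStack_overCat _) h𝒳 (K741.isAlgStack_selfOver S)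
    y (FibCat.toSelf (FibCat.overCat (𝒳.p.obj A))) (FibCat.toSelf 𝒳) (eqToIso h1) hy (isQuasiCompactMor_overCat _)

end K898.QCStack
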