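import Groth.Agent.CurvSt.K898.QCStable
import Groth.Agent.CurvSt.K898.QCStack
import Groth.Agent.CurvSt.K310.ExistsCurve

/-!
# Quasi-compactness of the stacks of stable and of smooth pointed curves

Given algebraicity and openness of the stable (smooth) locus.
-/

set_option autoImplicit false
universe u
open CategoryTheory CategoryTheory.Limits AlgebraicGeometry Opposite

namespace K898.QCFinal

open K898.QCParam K898.QCStable CurvSt

/-- stable families -/
abbrev PStab (g n : ℕ) : FamProp.{u} n := fun f σ hσ => IsStableFam f σ hσ g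

/-- smooth pointed families -/
abbrev PSm (g n : ℕ) : FamProp.{u} n := fun f σ _ => IsSmoothPtdFam f σ g

theorem kst_of_isStableFam {g n : ℕ} {Ω : Type u} [Field Ω] [IsAlgClosed Ω] {X : Scheme.{u}}
    (q : X ⟶ Spec (CommRingCat.of Ω)) (x : Fin n → (Spec (CommRingCat.of Ω) ⟶ X)) (hx : ∀ k, x k ≫ q = 𝟙 _)
    (h : IsStableFam q x hx g) : Kst g n Ω q :=
  ⟨_, h.2.2.2 Ω (𝟙 _) X (𝟙 X) q (IsPullback.of_horiz_isIso ⟨by simp⟩)⟩

/-- `Mbar S g n` is quasi-compact over `S`. -/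
theorem isQuasiCompactMor_mbar (S : Scheme.{u}) (g n : ℕ) (hA : AlgSt.IsAlgStack Scheme.fppfPrecoverage (Mbar S g n))
    (hO : OpenCond (PStab.{u} g n)) :
    AlgSt.IsQuasiCompactMor Scheme.fppfPrecoverage (FibCat.toSelf (Mbar S g n)) := by
  obtain ⟨B, hB, hBq, hB'⟩ := exists_family (PStab g n) hO (Kst g n) (bounded_stable g n)
    (fun Ω _ _ X q x hx h => kst_of_isStableFam q x hx h) S
  refine K898.QCStack.isQuasiCompactMor_of_family hA (⟨B, hB⟩ : (Mbar S g n).obj) hBq ?_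
  intro Ω _ _ t x hx
  obtain ⟨m⟩ := hB' Ω t x.obj hx x.property
  exact ⟨ObjectProperty.homMk m⟩

/-- `Mgn S g n` is quasi-compact over `S`, for `3 ≤ 2g + n`. -/
theorem isQuasiCompactMor_mgn (S : Scheme.{u}) (g n : ℕ) (hgn : 3 ≤ 2 * g + n)
    (hA : AlgSt.IsAlgStack Scheme.fppfPrecoverage (Mgn S g n)) (hO : OpenCond (PSm.{u} g n)) :
    AlgSt.IsQuasiCompactMor Scheme.fppfPrecoverage (FibCat.toSelf (Mgn S g n)) := by
  obtain ⟨B, hB, hBq, hB'⟩ := exists_family (PSm g n) hO (Kst g n) (bounded_stable g n)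
    (fun Ω _ _ X q x hx h =>
      kst_of_isStableFam q x hx (K310.ExistsCurve.isStableFam_of_isSmoothPtdFam x hx h hgn)) S
  refine K898.QCStack.isQuasiCompactMor_of_family hA (⟨B, hB⟩ : (Mgn S g n).obj) hBq ?_
  intro Ω _ _ t x hx
  obtain ⟨m⟩ := hB' Ω t x.obj hx x.property
  exact ⟨ObjectProperty.homMk m⟩

end K898.QCFinal
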