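import Groth.Agent.CurvSt.K898.SepAll
import Groth.Agent.CurvSt.K898.QCFinal
import Groth.Agent.CurvSt.K898.StabFam
import Groth.Agent.CurvSt.K508.SmLocus

/-!
# Stable and smooth pointed families: the hypotheses of `K898.SepAll`

* `bc_stab`, `bc_sm` : stability under base change; `good_stab`, `good_sm` : flat, proper, lfp, dimension one.
* `finite_diag_mbar`, `isSeparatedOver_mbar`, ...: the conclusions for `Mbar S g n` and `Mgn S g n`, given that these are
  DM over all `S` and separated over locally Noetherian `S`.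
-/

set_option autoImplicit false
universe u

open CategoryTheory CategoryTheory.Limits AlgebraicGeometry CurvSt

namespace K898.SepMbar

open K898.IsomFin K898.QCParam K898.QCFinal K898.IsomMain K898.StabFam

theorem bc_stab (g n : ℕ) : BC (PStab.{u} g n) := fun sq hs h =>
  K508.SmLocus.isStableFam_of_isPullback _ h sq hs

theorem bc_sm (g n : ℕ) : BC (PSm.{u} g n) := by
  intro C T C' T' f σ hσ f' σ' hσ' b a sq hs h
  refine ⟨K508.FibPow.isCurveOfGenus_of_isPullback h.1 sq, fun i j hij c hc => h.2 i j hij (b c) ?_⟩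
  have e : ∀ i, (σ i).base (b.base c) = a.base ((σ' i).base c) := fun i => by
    rw [← Scheme.Hom.comp_apply, ← hs, Scheme.Hom.comp_apply]
  rw [e, e, hc]

theorem fibreDimAt_le {g : ℕ} {C T : Scheme.{u}} {f : C ⟶ T} (h1 : IsProper f) (h : GeoGenus g f) (x : C) :
    FlatMor.fibreDimAt f x ≤ ((1 : ℕ) : WithBot ℕ∞) :=
  (K639.Dim.dim_fiber_le_iff f (f x) _).1 (le_of_eq (dim_fiber f h (f x))) x rfl

theorem good_stab (g n : ℕ) : Good (PStab.{u} g n) := fun _ _ _ h =>
  ⟨h.1, h.2.1, h.2.2.1, fibreDimAt_le h.2.1 (geoGenus_of_isStableFam h)⟩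

theorem good_sm (g n : ℕ) : Good (PSm.{u} g n) := fun f _ _ h => by
  have h1 : Smooth f := h.1.1
  exact ⟨inferInstance, h.1.2.1, inferInstance, fibreDimAt_le h.1.2.1 (geoGenus_of_isCurveOfGenus h.1)⟩

section Stab

variable {g n : ℕ} (hOpen : OpenCond (PStab.{u} g n)) (hD : ∀ S : Scheme.{u}, AlgSt.IsDMOver (Mbar S g n))
  (hN : ∀ (T : Scheme.{u}) [IsLocallyNoetherian T], AlgSt.IsSeparatedOver (Mbar T g n)) (S : Scheme.{u})

include hOpen hD hN

theorem finite_diag_mbar : AlgSt.RepByAlgSpWith AlgSp.IsFiniteMor (FibCat.diag (FibCat.toSelf (Mbar S g n))) :=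
  K898.SepAll.main (bc_stab g n) hOpen (good_stab g n) hD hN S

theorem isSeparatedOver_mbar : AlgSt.IsSeparatedOver (Mbar S g n) :=
  K898.SepAll.isSeparatedOver (bc_stab g n) hOpen (good_stab g n) hD hN S

end Stab

section Sm

variable {g n : ℕ} (hOpen : OpenCond (PSm.{u} g n)) (hD : ∀ S : Scheme.{u}, AlgSt.IsDMOver (Mgn S g n))
  (hN : ∀ (T : Scheme.{u}) [IsLocallyNoetherian T], AlgSt.IsSeparatedOver (Mgn T g n)) (S : Scheme.{u})

include hOpen hD hN

theorem finite_diag_mgn : AlgSt.RepByAlgSpWith AlgSp.IsFiniteMor (FibCat.diag (FibCat.toSelf (Mgn S g n))) :=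
  K898.SepAll.main (bc_sm g n) hOpen (good_sm g n) hD hN S

theorem isSeparatedOver_mgn : AlgSt.IsSeparatedOver (Mgn S g n) :=
  K898.SepAll.isSeparatedOver (bc_sm g n) hOpen (good_sm g n) hD hN S

theorem isAffine_diag_mgn : AlgSt.RepByAlgSpWith AlgSp.IsAffineMor (FibCat.diag (FibCat.toSelf (Mgn S g n))) :=
  K898.SepAll.isAffine_diag (bc_sm g n) hOpen (good_sm g n) hD hN S

end Sm

end K898.SepMbar
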