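import Groth.Agent.CurvSt.K898.HZeroOne
import Groth.Agent.S0223
import Groth.Agent.S0980
import Groth.Prelude.Def_ClSub2
import Mathlib.AlgebraicGeometry.Fiber

/-!
# Families with `h⁰ = 1` on the fibres

* `hRank_fiber_baseChange`: `dim H^i` of the fibres does not change under base change.
* `isIso_unitToPush_of_hRank`: for `f` proper, flat, locally of finite presentation with `h⁰ = 1` on all fibres,
  `O_{S'} → f'_* O_{X'}` is an isomorphism for every base change.
-/

set_option autoImplicit false
universe u

open CategoryTheory CategoryTheory.Limits AlgebraicGeometry Opposite TopologicalSpace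

namespace K898.FamH0

variable {X S : Scheme.{u}}

theorem isIso_unitToPush (f : X ⟶ S) (hf : ∀ U : S.Opens, IsIso (f.app U)) :
    IsIso (ClSub.unitToPush f) := by
  rw [Scheme.Modules.Hom.isIso_iff_isIso_app]
  intro U
  rw [ConcreteCategory.isIso_iff_bijective]
  exact (ConcreteCategory.isIso_iff_bijective (f.app U)).mp (hf U)

/-- `dim H^i` of the structure sheaf of the fibres is invariant under base change. -/
theorem hRank_fiber_baseChange {X' S' : Scheme.{u}} {g' : X' ⟶ X} {f' : X' ⟶ S'} {f : X ⟶ S}
    {g : S' ⟶ S} (h : IsPullback g' f' f g) [IsProper f] (s' : S') (i : ℕ) :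
    Models.hRank (S'.residueField s') (f'.fiber s') (f'.fiberToSpecResidueField s')
        (Coh.structureModule (f'.fiber s')) i =
      Models.hRank (S.residueField (g s')) (f.fiber (g s')) (f.fiberToSpecResidueField (g s'))
        (Coh.structureModule (f.fiber (g s'))) i := by
  let _ : (f.fiber (g s')).Over (Spec (CommRingCat.of (S.residueField (g s')))) :=
    ⟨f.fiberToSpecResidueField (g s')⟩
  let _ : (f'.fiber s').Over (Spec (CommRingCat.of (S'.residueField s'))) :=
    ⟨f'.fiberToSpecResidueField s'⟩
  let _ : Algebra (S.residueField (g s')) (S'.residueField s') := (g.residueFieldMap s').hom.toAlgebra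
  have hp : IsProper (f.fiber (g s') ↘ Spec (CommRingCat.of (S.residueField (g s')))) :=
    inferInstanceAs (IsProper (pullback.snd f (S.fromSpecResidueField (g s'))))
  have hpb := isPullback_fiberToSpecResidueField_of_isPullback h s'
  exact Groth.Agent.S0223.finrank_eq (S.residueField (g s')) (f.fiber (g s'))
    (S'.residueField s') (f'.fiber s') _ hpb i

/-- `dim H^i` of the structure sheaf of the base change to a field-valued point is that of the fibre. -/
theorem hRank_of_point {f : X ⟶ S} [IsProper f] {k : Type u} [Field k]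
    (y : Spec (CommRingCat.of k) ⟶ S) {Y : Scheme.{u}} {g : Y ⟶ X} {q : Y ⟶ Spec (CommRingCat.of k)}
    (h : IsPullback g q f y) (i : ℕ) :
    Models.hRank k Y q (Coh.structureModule Y) i =
      Models.hRank (S.residueField (y (IsLocalRing.closedPoint k)))
        (f.fiber (y (IsLocalRing.closedPoint k)))
        (f.fiberToSpecResidueField (y (IsLocalRing.closedPoint k)))
        (Coh.structureModule (f.fiber (y (IsLocalRing.closedPoint k)))) i := by
  set x : S := y (IsLocalRing.closedPoint k) with hx
  let ψ : S.residueField x ⟶ CommRingCat.of k :=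
    Scheme.descResidueField (Scheme.stalkClosedPointTo y)
  have hψ : Spec.map ψ ≫ S.fromSpecResidueField x = y :=
    Scheme.descResidueField_stalkClosedPointTo_fromSpecResidueField k _ y
  have hP : IsPullback (f.fiberι x) (f.fiberToSpecResidueField x) f
      (S.fromSpecResidueField x) := IsPullback.of_hasPullback _ _
  let q' : Y ⟶ f.fiber x := hP.lift g (q ≫ Spec.map ψ)
    (by rw [h.w, Category.assoc, hψ])
  have hq1 : q' ≫ f.fiberι x = g := hP.lift_fst _ _ _
  have hq2 : q' ≫ f.fiberToSpecResidueField x = q ≫ Spec.map ψ := hP.lift_snd _ _ _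
  have hq : IsPullback q' q (f.fiberToSpecResidueField x) (Spec.map ψ) := by
    refine IsPullback.of_right (h₁₂ := f.fiberι x) (v₁₃ := f)
      (h₂₂ := S.fromSpecResidueField x) ?_ hq2 hP
    rw [hq1, hψ]
    exact h
  let _ : (f.fiber x).Over (Spec (CommRingCat.of (S.residueField x))) :=
    ⟨f.fiberToSpecResidueField x⟩
  let _ : Y.Over (Spec (CommRingCat.of k)) := ⟨q⟩
  let _ : Algebra (S.residueField x) k := ψ.hom.toAlgebra
  have hp : IsProper (f.fiber x ↘ Spec (CommRingCat.of (S.residueField x))) :=
    inferInstanceAs (IsProper (pullback.snd f (S.fromSpecResidueField x)))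
  exact Groth.Agent.S0223.finrank_eq (S.residueField x) (f.fiber x) k Y _ hq i

theorem isIso_app_of_hRank (f : X ⟶ S) [Flat f] [IsProper f] [LocallyOfFinitePresentation f]
    (h0 : ∀ s : S, Models.hRank ↥(S.residueField s) (f.fiber s) (f.fiberToSpecResidueField s)
      (Coh.structureModule (f.fiber s)) 0 = 1) (U : S.Opens) : IsIso (f.app U) :=
  Groth.Agent.S0980.result f (fun s => K898.HZeroOne.isIso_appTop_of_hRank _ _ _ (h0 s)) U

theorem isIso_unitToPush_baseChange (f : X ⟶ S) [Flat f] [IsProper f] [LocallyOfFinitePresentation f]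
    (h0 : ∀ s : S, Models.hRank ↥(S.residueField s) (f.fiber s) (f.fiberToSpecResidueField s)
      (Coh.structureModule (f.fiber s)) 0 = 1) {S' : Scheme.{u}} (g : S' ⟶ S) :
    IsIso (ClSub.unitToPush (pullback.snd f g)) := by
  refine isIso_unitToPush _ (isIso_app_of_hRank _ fun s' => ?_)
  rw [hRank_fiber_baseChange (IsPullback.of_hasPullback f g) s' 0]
  exact h0 _

end K898.FamH0
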