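import Groth.Agent.CurvSt.K898.FamR1
import Groth.Agent.S2446
import Groth.Agent.S4496
import Groth.Agent.Ega3B.LocFree

/-!
# `H¹` of the structure sheaf of a family of curves with `h⁰ = 1` commutes with base change

* `K898.BaseH1.nonempty_baseChange_equiv`: `B ⊗_A H¹(X, O_X) ≃ H¹(X_B, O_{X_B})`.
* `K898.BaseH1.isFinLocFreeOfRank_R1`: `R¹f_*O_X` is locally free of rank `g` when all fibres have `h¹ = g`.
-/

set_option autoImplicit false
universe u

open CategoryTheory CategoryTheory.Limits AlgebraicGeometry Opposite TopologicalSpace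

open scoped TensorProduct

namespace K898.BaseH1

open Groth.Agent Groth.Agent.CurvesB Groth.Agent.CurvesB.NodalHOne
open Groth.Agent.Ega3B Groth.Agent.Ega3B.MasterAsm Groth.Agent.Ega3B.EWatts

section Main

variable (A : Type u) [CommRing A] (X : Scheme.{u}) [X.Over (Spec (CommRingCat.of A))]

theorem nonempty_baseChange_equiv [IsProper (X ↘ Spec (CommRingCat.of A))] [Flat (X ↘ Spec (CommRingCat.of A))]
    [LocallyOfFinitePresentation (X ↘ Spec (CommRingCat.of A))] (hX : FibHyp A X)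
    (B : Type u) [CommRing B] [Algebra A B] (Y : Scheme.{u}) [Y.Over (Spec (CommRingCat.of B))]
    (j : Y ⟶ X) (H : IsPullback j (Y ↘ Spec (CommRingCat.of B)) (X ↘ Spec (CommRingCat.of A))
      (Spec.map (CommRingCat.ofHom (algebraMap A B)))) :
    Nonempty (B ⊗[A] Coh.HH X (Coh.structureModule X) 1 ≃ₗ[B] Coh.HH Y (Coh.structureModule Y) 1) := by
  obtain ⟨⟨f1, f2⟩, f3⟩ := of_fibHyp A X hX
  obtain ⟨P, hP, ⟨b, hb⟩, hε⟩ := GenUnit.exists_complex A X
  have hflat : ∀ i, Module.Flat A (P.X i) := fun i => by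
    have := (hP i).2
    infer_instance
  have hT : ∀ q ≤ (-1 : ℤ), Module.Flat A ((CohIII.TFun P q).obj (ModuleCat.of A A)) := by
    intro q hq
    obtain ⟨n, rfl⟩ : ∃ n : ℕ, q = -(n : ℤ) := ⟨(-q).toNat, by omega⟩
    obtain ⟨e⟩ := nonempty_homology_equiv (A := A) (Coh.structureModule X) P n (hε n)
    have e' := Ega3A.TFunFlat.TunitEquiv P (-(n : ℤ)) ≪≫ₗ e
    have hfl : Module.Flat A (Coh.HH X (Coh.structureModule X) n) := by
      rcases Nat.lt_or_ge 1 n with h | h
      · have := f3 n h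
        exact Module.Flat.of_projective
      · obtain rfl : n = 1 := by omega
        exact @Module.Flat.of_projective A _ _ _ _ f2
    exact Module.Flat.of_linearEquiv e'
  have hex := (S2446.result P hflat b (fun i hi => hb i (Or.inl hi)) (-1)).2 hT (-1) le_rfl
  obtain ⟨N, -, ⟨ν⟩⟩ := (S4496.result P hflat (-1)).1 hex
  have hε1 : Nonempty (CohIII.tensorAFunctor A (Coh.structureModule X) ⋙ CohIII.HAb X 1 ≅
      CohIII.TFun P (-1) ⋙ forget₂ (ModuleCat.{u} A) AddCommGrpCat.{u}) := hε 1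
  obtain ⟨e1⟩ : Nonempty (P.homology (-1) ≃ₗ[A] Coh.HH X (Coh.structureModule X) 1) :=
    nonempty_homology_equiv (A := A) (Coh.structureModule X) P 1 (hε 1)
  -- `N = H¹(X, O_X)`
  have e2 : N ≃ₗ[A] Coh.HH X (Coh.structureModule X) 1 :=
    (TensorProduct.rid A N).symm ≪≫ₗ (ν.app (ModuleCat.of A A)).symm.toLinearEquiv ≪≫ₗ
      Ega3A.TFunFlat.TunitEquiv P (-1) ≪≫ₗ e1
  have hcp : CompactSpace X := QuasiCompact.compactSpace_of_compactSpace (X ↘ Spec (CommRingCat.of A))
  obtain ⟨E, hE⟩ := GenFibre.exists_addEquiv (algebraMap A B) j H (Coh.structureModule X)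
      (UnitCoh.isCoh_structureModule X).1 (Coh.structureModule Y)
      (Fga.UnitRestrict.pullbackUnitIso _) 1 (CohIII.TFun P (-1)) hε1
  let RB : ModuleCat.{u} A := (ModuleCat.restrictScalars (algebraMap A B)).obj (ModuleCat.of B B)
  -- the underlying `A`-module of `B`
  let c : B ≃ₗ[A] RB :=
    { toFun := fun x => x
      invFun := fun x => x
      left_inv := fun _ => rfl
      right_inv := fun _ => rfl
      map_add' := fun _ _ => rfl
      map_smul' := fun a x => by
        change (a • x : B) = algebraMap A B a * x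
        exact Algebra.smul_def a x }
  let t : B ⊗[A] N ≃ₗ[A] (MonoidalCategory.tensorLeft N).obj RB :=
    (TensorProduct.comm A B N) ≪≫ₗ (TensorProduct.congr (LinearEquiv.refl A N) c)
  have ht : ∀ (β : B) (z : B ⊗[A] N), t (β • z) =
      ((MonoidalCategory.tensorLeft N).map ((ModuleCat.restrictScalars (algebraMap A B)).map
        (β • 𝟙 (ModuleCat.of B B)))).hom (t z) := by
    intro β z
    induction z using TensorProduct.induction_on with
    | zero => simp
    | add x y hx hy => rw [smul_add, map_add, hx, hy, map_add, map_add]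
    | tmul x y => rfl
  let E' : B ⊗[A] N ≃+ Coh.HH Y (Coh.structureModule Y) 1 :=
    (t.toAddEquiv.trans (ν.app RB).symm.toLinearEquiv.toAddEquiv).trans E
  have hE' : ∀ (β : B) (z : B ⊗[A] N), E' (β • z) = β • E' z := by
    intro β z
    change E ((ν.inv.app RB).hom (t (β • z))) = β • E ((ν.inv.app RB).hom (t z))
    rw [ht, ← hE]
    congr 1
    have h := ν.inv.naturality ((ModuleCat.restrictScalars (algebraMap A B)).map
        (β • 𝟙 (ModuleCat.of B B)))
    exact congr(($h).hom (t z))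
  let E'' : B ⊗[A] N ≃ₗ[B] Coh.HH Y (Coh.structureModule Y) 1 :=
    { E' with map_smul' := hE' }
  exact ⟨(e2.symm.baseChange A B _ _) ≪≫ₗ E''⟩

/-- The rank of `H¹(X, O_X)` at a prime is `h¹` of the fibre. -/
theorem rankAtStalk_HH [IsProper (X ↘ Spec (CommRingCat.of A))] [Flat (X ↘ Spec (CommRingCat.of A))]
    [LocallyOfFinitePresentation (X ↘ Spec (CommRingCat.of A))] (hX : FibHyp A X) (p : PrimeSpectrum A) :
    Module.rankAtStalk (R := A) (Coh.HH X (Coh.structureModule X) 1) p =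
      Models.hRank p.asIdeal.ResidueField
        (pullback (X ↘ Spec (CommRingCat.of A)) (Spec.map (CommRingCat.ofHom (algebraMap A p.asIdeal.ResidueField))))
        (pullback.snd _ _) (Coh.structureModule _) 1 := by
  obtain ⟨⟨f1, f2⟩, -⟩ := of_fibHyp A X hX
  have f3 : Module.Flat A (Coh.HH X (Coh.structureModule X) 1) := @Module.Flat.of_projective A _ _ _ _ f2
  rw [Module.rankAtStalk_eq]
  let Y := pullback (X ↘ Spec (CommRingCat.of A))
    (Spec.map (CommRingCat.ofHom (algebraMap A p.asIdeal.ResidueField)))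
  let iY : Y.Over (Spec (CommRingCat.of p.asIdeal.ResidueField)) := ⟨pullback.snd _ _⟩
  obtain ⟨e⟩ := nonempty_baseChange_equiv A X hX p.asIdeal.ResidueField Y (pullback.fst _ _)
    (IsPullback.of_hasPullback _ _)
  exact e.finrank_eq

end Main

/-- `R¹f_*O_X` is locally free of rank `g` if all fibres are of dimension at most one with `h⁰ = 1` and `h¹ = g`. -/
theorem isFinLocFreeOfRank_R1 {X S : Scheme.{u}} (f : X ⟶ S) [Flat f] [IsProper f]
    [LocallyOfFinitePresentation f] [HasInjectiveResolutions X.Modules]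
    (hdim : ∀ s : S, topologicalKrullDim ↥(f.fiber s) ≤ 1)
    (h0 : ∀ s : S, Models.hRank ↥(S.residueField s) (f.fiber s) (f.fiberToSpecResidueField s)
      (Coh.structureModule (f.fiber s)) 0 = 1) (g : ℕ)
    (h1 : ∀ s : S, Models.hRank ↥(S.residueField s) (f.fiber s) (f.fiberToSpecResidueField s)
      (Coh.structureModule (f.fiber s)) 1 = g) :
    FlatMod.IsFinLocFreeOfRank g ((Coh.Rpush f 1).obj (Coh.structureModule X)) := by
  have hq : Coh.IsQCoh (Coh.structureModule X) := (UnitCoh.isCoh_structureModule X).1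
  have hQ : Coh.IsQCoh ((Coh.Rpush f 1).obj (Coh.structureModule X)) :=
    S0030.result f (Coh.structureModule X) 1
  intro x
  obtain ⟨V, hV, hxV, -⟩ := exists_isAffineOpen_mem_and_subset (x := x) (U := ⊤) trivial
  let iO : (f ⁻¹ᵁ V).toScheme.Over (Spec (CommRingCat.of Γ(S, V))) := ⟨Ega3B.PackageAsm.strMap f hV⟩
  have hpb0 : IsPullback (f ⁻¹ᵁ V).ι (f ∣_ V) f V.ι := (isPullback_morphismRestrict f V).flip
  have hpb : IsPullback (f ⁻¹ᵁ V).ι ((f ⁻¹ᵁ V).toScheme ↘ Spec (CommRingCat.of Γ(S, V))) f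
      (hV.isoSpec.inv ≫ V.ι) := by
    refine IsPullback.of_iso hpb0 (Iso.refl _) (Iso.refl _) hV.isoSpec (Iso.refl _) ?_ ?_ ?_ ?_
    · simp
    · change (f ∣_ V) ≫ hV.isoSpec.hom = 𝟙 _ ≫ ((f ∣_ V) ≫ hV.isoSpec.hom)
      rw [Category.id_comp]
    · simp
    · simp
  have hpr : IsProper ((f ⁻¹ᵁ V).toScheme ↘ Spec (CommRingCat.of Γ(S, V))) :=
    MorphismProperty.of_isPullback hpb inferInstance
  have hfl : Flat ((f ⁻¹ᵁ V).toScheme ↘ Spec (CommRingCat.of Γ(S, V))) :=
    MorphismProperty.of_isPullback hpb inferInstance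
  have hfp : LocallyOfFinitePresentation ((f ⁻¹ᵁ V).toScheme ↘ Spec (CommRingCat.of Γ(S, V))) :=
    MorphismProperty.of_isPullback hpb inferInstance
  have hfib : NodalHOne.FibHyp Γ(S, V) (f ⁻¹ᵁ V).toScheme := by
    intro m _ Y _ j H
    let _ : Field (Γ(S, V) ⧸ m) := Ideal.Quotient.field m
    exact K898.FamR1.cohomology_field f hdim h0 (Γ(S, V) ⧸ m) Y _ _ (H.paste_horiz hpb)
  obtain ⟨⟨m1, m2⟩, -⟩ := NodalHOne.of_fibHyp Γ(S, V) (f ⁻¹ᵁ V).toScheme hfib
  obtain ⟨e⟩ := NodalAsm.exists_equiv f hV 1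
    (Ega3B.RpushAff.exists_equiv_toGlobal f (Coh.structureModule X) hq hV 1)
  have i1 : Module.Finite Γ(S, V) Γ((Coh.Rpush f 1).obj (Coh.structureModule X), V) := Module.Finite.equiv e.symm
  have i2 : Module.Projective Γ(S, V) Γ((Coh.Rpush f 1).obj (Coh.structureModule X), V) :=
    Module.Projective.of_equiv e.symm
  have i3 : Module.FinitePresentation Γ(S, V) Γ((Coh.Rpush f 1).obj (Coh.structureModule X), V) :=
    Module.finitePresentation_of_projective _ _
  have i4 := hQ
  obtain ⟨U, hxU, -, e'⟩ := Ega3B.LocFree.exists_restrict_iso_freeMod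
    ((Coh.Rpush f 1).obj (Coh.structureModule X)) hV ⟨x, hxV⟩
  refine ⟨U, hxU, ?_⟩
  have key : Module.rankAtStalk (R := Γ(S, V)) Γ((Coh.Rpush f 1).obj (Coh.structureModule X), V)
      (hV.primeIdealOf ⟨x, hxV⟩) = g := by
    rw [Module.rankAtStalk_eq_of_equiv e, rankAtStalk_HH Γ(S, V) (f ⁻¹ᵁ V).toScheme hfib]
    rw [K898.FamH0.hRank_of_point _ ((IsPullback.of_hasPullback _ _).paste_horiz hpb) 1]
    exact h1 _
  rw [key] at e'
  exact e'

end K898.BaseH1
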