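import Groth.Agent.CurvSt.K901.SchRed
import Groth.Agent.CurvSt.K901.DualModel
import Groth.Agent.FlatMor.K264.GeomUsc
import Groth.Agent.Curves.K326.DegPts

/-!
# Openness of the locus of reduced connected fibres of dimension one, of genus `g`, with at most `e` components

* `isOpen_lt_affine`, `isOpen_red_lt`: the number of geometric irreducible components is upper semicontinuous on the
  locus of geometrically reduced fibres, over any base.
* `CompProp n g e`, `compProp_iff`, `isOpen_comp`, `extDesc_comp`, `hasOpenLocus_comp`.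
-/

set_option autoImplicit false
set_option linter.unusedSectionVars false

universe u

open CategoryTheory CategoryTheory.Limits AlgebraicGeometry Opposite

namespace K898.CompCount

open CurvSt AlgSp K901.GeomFibAt K901.GeomLoc K901.EtSch K901.Loci K901.SchLoc K901.SchPre K901.SchRed
open Groth.Agent Groth.Agent.PerfB.ApproxRing Groth.Agent.PerfB.ApproxMdl

theorem geometricallyReduced_of_forall {X S : Scheme.{u}} (f : X ⟶ S) (h : ∀ x, GeomRed f x) :
    GeometricallyReduced f := by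
  refine ⟨fun K _ y Z fst snd hZ => ?_⟩
  have h1 : ∀ z : Z, _root_.IsReduced (Z.presheaf.stalk z) := fun z => h (fst z) K Z _ _ _ hZ z rfl
  exact isReduced_of_isReduced_stalk Z

theorem isOpen_lt_affine {A : Type u} [CommRing A] {X : Scheme.{u}} (f : X ⟶ Spec (CommRingCat.of A)) [IsProper f]
    [Flat f] [LocallyOfFinitePresentation f] (hf : ∀ x, GeomRed f x) (m : ℕ∞) :
    IsOpen {y | MoreMor.nGeomIrredComp f y < m} := by
  obtain ⟨B, X₀, f₀, v, hP, h1, h2, h3, h4⟩ := K901.DualModel.exists_model locusProp_red f hf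
  have hN := K901.DualModel.isNoetherianRing_idx B
  have h5 : GeometricallyReduced f₀ := geometricallyReduced_of_forall f₀ h4
  have h6 := K264.GeomUsc.isOpen_lt f₀ m
  have h7 : {y | MoreMor.nGeomIrredComp f y < m} = (sa B) ⁻¹' {y | MoreMor.nGeomIrredComp f₀ y < m} := by
    ext y
    simp only [Set.mem_ofPred_eq, Set.mem_preimage]
    rw [Flat2D.GeomFib.nGeomIrredComp_baseChange f₀ f v (sa B) hP y]
  rw [h7]
  exact h6.preimage (sa B).continuous

section Fam

variable {n : ℕ}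

variable {C T : Scheme.{u}} (f : C ⟶ T) (σ : Fin n → (T ⟶ C)) (hσ : ∀ i, σ i ≫ f = 𝟙 T)
  [Flat f] [IsProper f] [LocallyOfFinitePresentation f]

/-- The number of geometric irreducible components is upper semicontinuous on the locus of geometrically reduced fibres. -/
theorem isOpen_red_lt (m : ℕ∞) : IsOpen (RedSet f ∩ {s | MoreMor.nGeomIrredComp f s < m}) := by
  rw [isOpen_iff_forall_mem_open]
  rintro s ⟨hs, hm⟩
  obtain ⟨U, hU, hsU, hUR⟩ := T.isBasis_affineOpens.exists_subset_of_mem_open hs (isOpen_redSet f)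
  obtain ⟨U, rfl⟩ : ∃ V : T.Opens, (V : Set T) = U := hU.imp fun V hV => hV.2
  have hU' : IsAffineOpen U := by
    obtain ⟨V, hV, hV'⟩ := hU
    have : V = U := TopologicalSpace.Opens.ext hV'
    rwa [← this]
  let φ : Spec Γ(T, U) ⟶ T := hU'.fromSpec
  have hφ : Set.range φ = U := hU'.range_fromSpec
  have hP : IsPullback (pullback.fst f φ) (pullback.snd f φ) f φ := IsPullback.of_hasPullback _ _
  have h1 : ∀ x, GeomRed (pullback.snd f φ) x := by
    intro x
    rw [locusProp_red.baseChange f _ _ _ hP]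
    have hx : φ (pullback.snd f φ x) ∈ (U : Set T) := by rw [← hφ]; exact ⟨_, rfl⟩
    refine hUR hx _ ?_
    rw [← Scheme.Hom.comp_apply, hP.w, Scheme.Hom.comp_apply]
  have h2 := isOpen_lt_affine (A := Γ(T, U)) (pullback.snd f φ) h1 m
  have hbc : ∀ y, MoreMor.nGeomIrredComp (pullback.snd f φ) y = MoreMor.nGeomIrredComp f (φ y) := fun y =>
    Flat2D.GeomFib.nGeomIrredComp_baseChange f _ _ φ hP y
  refine ⟨φ '' {y | MoreMor.nGeomIrredComp (pullback.snd f φ) y < m}, ?_, φ.isOpenEmbedding.isOpenMap _ h2, ?_⟩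
  · rintro _ ⟨y, hy, rfl⟩
    refine ⟨hUR ?_, ?_⟩
    · rw [← hφ]; exact ⟨_, rfl⟩
    · change MoreMor.nGeomIrredComp f (φ y) < m
      rw [← hbc]
      exact hy
  · obtain ⟨y, rfl⟩ : s ∈ Set.range φ := by rw [hφ]; exact hsU
    refine ⟨y, ?_, rfl⟩
    change MoreMor.nGeomIrredComp (pullback.snd f φ) y < m
    rw [hbc]
    exact hm

omit [Flat f] in
/-- The Euler characteristic of a geometric fibre. -/
theorem eulerChar_eq' {Ω : Type u} [Field Ω] [IsAlgClosed Ω] {t : Spec (CommRingCat.of Ω) ⟶ T}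
    {X' : Scheme.{u}} {i : X' ⟶ C} {q : X' ⟶ Spec (CommRingCat.of Ω)} (hP : IsPullback i q f t)
    (h1 : IsReduced X') (h2 : ConnectedSpace X') (h3 : topologicalKrullDim X' = 1) :
    PerfAux.eulerChar f (Coh.structureModule C) (t.base (IsLocalRing.closedPoint Ω)) =
      1 - (@Curv2.genus Ω _ X' ⟨q⟩ : ℤ) := by
  let i1 : X'.Over (Spec (CommRingCat.of Ω)) := ⟨q⟩
  have hq : IsProper (X' ↘ Spec (CommRingCat.of Ω)) := MorphismProperty.of_isPullback hP inferInstance
  have h0 := K326.DegPts.finrank_zero Ω (X := X')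
  have h4 : Curv2.euler Ω X' (Coh.structureModule X') = 1 - (@Curv2.genus Ω _ X' ⟨q⟩ : ℤ) := by
    rw [CurvesC.CurveCoh.euler_eq Ω X' h3, h0]
    rfl
  rw [← h4]
  unfold PerfAux.eulerChar Curv2.euler
  refine finsum_congr fun j => ?_
  have b := Groth.Agent.Pi1.H536.GenusFam.finrank_eq_betti f Ω t (IsLocalRing.closedPoint Ω) i hP j
  rw [← b]

/-- The condition on geometric fibres. -/
abbrev CompProp (n g e : ℕ) : FibProp.{u} n := fun Ω _ _ X' q _ =>
  (IsReduced X' ∧ ConnectedSpace ↥X' ∧ topologicalKrullDim ↥X' = 1 ∧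
    (irreducibleComponents (↥X' : Type u)).Finite ∧ (irreducibleComponents (↥X' : Type u)).ncard ≤ e) ∧
    @Curv2.genus Ω _ X' ⟨q⟩ = g

/-- The corresponding locus. -/
def CompSet (g e : ℕ) : Set T := (RedConnSet f ∩ {s | MoreMor.nGeomIrredComp f s < (e : ℕ∞) + 1}) ∩
  {s | PerfAux.eulerChar f (Coh.structureModule C) s = 1 - (g : ℤ)}

theorem isOpen_compSet (g e : ℕ) : IsOpen (CompSet f g e) := by
  have h1 := PerfB.Semi.isLocallyConstant_euler f (Coh.structureModule C)
    (PerfB.StructFlat.isFP_structure) (PerfB.StructFlat.isFlatOver_structure f)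
  refine IsOpen.inter ?_ (h1.isOpen_fiber (1 - (g : ℤ)))
  have h2 : RedConnSet f ∩ {s | MoreMor.nGeomIrredComp f s < (e : ℕ∞) + 1} =
      RedConnSet f ∩ (RedSet f ∩ {s | MoreMor.nGeomIrredComp f s < (e : ℕ∞) + 1}) := by
    ext s
    exact ⟨fun ⟨h3, h4⟩ => ⟨h3, h3.1.1, h4⟩, fun ⟨h3, _, h4⟩ => ⟨h3, h4⟩⟩
  rw [h2]
  exact (isOpen_redConnSet f).inter (isOpen_red_lt f _)

theorem compProp_iff (g e : ℕ) {Ω : Type u} [Field Ω] [IsAlgClosed Ω] {t : Spec (CommRingCat.of Ω) ⟶ T}
    {X' : Scheme.{u}} {i : X' ⟶ C} {q : X' ⟶ Spec (CommRingCat.of Ω)} (hP : IsPullback i q f t) (m : Fin n → X') :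
    CompProp n g e Ω X' q m ↔ t.base (IsLocalRing.closedPoint Ω) ∈ CompSet f g e := by
  have h1 := redConn_iff f hP m
  have h2 : ((irreducibleComponents (↥X' : Type u)).Finite ∧ (irreducibleComponents (↥X' : Type u)).ncard ≤ e) ↔
      MoreMor.nGeomIrredComp f (t.base (IsLocalRing.closedPoint Ω)) < (e : ℕ∞) + 1 := by
    rw [← Set.encard_le_coe_iff_finite_ncard_le, ENat.lt_add_one_iff (ENat.coe_ne_top e)]
    have h3 := Flat2D.GeomFib.nGeomIrredComp_eq f t i q hP
    rw [h3]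
  constructor
  · rintro ⟨⟨a1, a2, a3, a4⟩, a5⟩
    refine ⟨⟨h1.1 ⟨a1, a2, a3⟩, h2.1 a4⟩, ?_⟩
    change PerfAux.eulerChar f _ _ = _
    rw [eulerChar_eq' f hP a1 a2 a3, a5]
  · rintro ⟨⟨b1, b2⟩, b3⟩
    obtain ⟨a1, a2, a3⟩ := h1.2 b1
    refine ⟨⟨a1, a2, a3, h2.2 b2⟩, ?_⟩
    change PerfAux.eulerChar f _ _ = _ at b3
    rw [eulerChar_eq' f hP a1 a2 a3] at b3
    omega

theorem isOpen_comp (g e : ℕ) : IsOpen (Loc (CompProp n g e) f σ hσ) := by
  have h : Loc (CompProp n g e) f σ hσ = CompSet f g e := by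
    ext s
    refine mem_loc_iff_of f σ hσ _ fun Ω _ _ t ht X' i q hP => ?_
    rw [← ht]
    exact compProp_iff f g e hP _
  rw [h]
  exact isOpen_compSet f g e

theorem extDesc_comp (n g e : ℕ) : ExtDesc (CompProp.{u} n g e) :=
  extDesc_of fun _ _ _ _ f _ _ _ _ _ => ⟨_, fun _ _ _ _ _ _ _ hP => compProp_iff f g e hP _⟩

/-- The locus of the condition on geometric fibres. -/
theorem hasOpenLocus_comp {S : Scheme.{u}} (g e : ℕ) (hE : ∀ A : (Curves S n).obj, EtLocSch A.obj) :
    K899.OpenCrit.HasOpenLocus (𝒳 := Curves S n) (fun A => GeomFib (CompProp n g e) A.obj) :=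
  hasOpenLocus (extDesc_comp n g e) hE fun B h1 h2 h3 _ => by
    rw [locus_toSpFam]
    exact isOpen_comp B.f B.sect B.sect_f g e

end Fam

end K898.CompCount
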