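import Groth.Agent.CurvSt.K898.QCEmb
import Groth.Agent.CurvSt.K900.PtAmple
import Groth.Agent.Curves.K326.SemiMain
import Groth.Agent.Divis.NormAmple
import Groth.Agent.S6537

/-!
# Stable pointed curves are bounded

`kp_of_isStablePtd` : a stable `n`-pointed curve of genus `g` over an algebraically closed field embeds in projective space
with a Hilbert function depending only on `g` and `n`; `bounded_stable`.
-/

set_option autoImplicit false
set_option linter.style.haveILetI false
set_option linter.unusedSectionVars false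
universe u
open CategoryTheory CategoryTheory.Limits AlgebraicGeometry Opposite TopologicalSpace

namespace K898.QCStable

open Groth.Agent Groth.Agent.CurvesC Groth.Agent.CurvesB K326.PtsDiv K326.DegPts K326.SemiStab K898.QCHilb K898.QCParam
open Groth.Agent.Dix.IdealModCartier Groth.Agent.Fga

attribute [local instance] Groth.Agent.CurvesC.TailNum.subOver

section

variable (k : Type u) [Field k] [IsAlgClosed k]

/-- Existence of the twisted dualizing module. -/
theorem exists_tw (X : Scheme.{u}) [X.Over (Spec (CommRingCat.of k))]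
    [IsProper (X ↘ (Spec (CommRingCat.of k)))] [IsReduced X] [ConnectedSpace X]
    (hdim : topologicalKrullDim X = 1) (hX : Curv2.AtWorstNodal k X) {n : ℕ} {x : Fin n → X} (hx : Pts k n x) :
    ∃ (w M : X.Modules), Tw k X hx w M := by
  have h0 := K326.DegPts.finrank_zero k (X := X)
  obtain ⟨w, t, hw, ht⟩ := K900.DualBasic.exists_pair k X hdim h0 hX
  have hI := isInvertible_idealMod (K900.PtAmple.isEff_pts k X hdim hx)
  obtain ⟨L, hL, ⟨e⟩⟩ := Groth.Agent.Grpsch.PicGrp.exists_inverse hI
  exact ⟨w, CohB1.tensorMod w L, ⟨hw, ⟨t, ht⟩, L, ⟨Groth.Agent.Ega2.Tens.swap L _ ≪≫ e⟩, ⟨Iso.refl _⟩⟩⟩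

variable (X : Scheme.{u}) [X.Over (Spec (CommRingCat.of k))] [IsProper (X ↘ (Spec (CommRingCat.of k)))]

theorem deg_pow (hdim : topologicalKrullDim X ≤ 1) (L : X.Modules) (hL : PicF.IsInvertible L) (n : ℕ) :
    Curv2.deg k X (CohB1.tensorPow L n) 1 = n * Curv2.deg k X L 1 := by
  rw [Curv2.deg, S7647.euler_tensorPow k X hdim L hL n]
  push_cast
  ring

variable [IsReduced X] [ConnectedSpace X]

/-- The degree of the twisted dualizing module. -/
theorem deg_tw (hdim : topologicalKrullDim X = 1) (hX : Curv2.AtWorstNodal k X) {n : ℕ} {x : Fin n → X}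
    (hx : Pts k n x) (w M : X.Modules) (hT : Tw k X hx w M) :
    Curv2.deg k X M 1 = 2 * (Curv2.genus k X : ℤ) - 2 + n := by
  let e : (⊥ : X.IdealSheafData).subscheme ≅ X := asIso (⊥ : X.IdealSheafData).subschemeι
  have he : e.hom ≫ (X ↘ Spec (CommRingCat.of k)) = (⊥ : X.IdealSheafData).subscheme ↘ Spec (CommRingCat.of k) := rfl
  have hred : IsReduced (⊥ : X.IdealSheafData).subscheme := isReduced_of_isOpenImmersion e.hom
  have hcon : ConnectedSpace (⊥ : X.IdealSheafData).subscheme :=
    (Scheme.homeoOfIso e).symm.surjective.connectedSpace (Scheme.homeoOfIso e).symm.continuous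
  have hd : topologicalKrullDim (⊥ : X.IdealSheafData).subscheme = 1 := by
    rw [← hdim]
    exact IsHomeomorph.topologicalKrullDim_eq _ (Scheme.homeoOfIso e).isHomeomorph
  have hP : IsProper ((⊥ : X.IdealSheafData).subscheme ↘ Spec (CommRingCat.of k)) :=
    inferInstanceAs (IsProper ((⊥ : X.IdealSheafData).subschemeι ≫ (X ↘ (Spec (CommRingCat.of k)))))
  have h1 := deg_formula k X hdim hX hx w M hT ⊥ hd
  have h2 : Curv2.deg k (⊥ : X.IdealSheafData).subscheme
      ((Scheme.Modules.pullback (⊥ : X.IdealSheafData).subschemeι).obj M) 1 = Curv2.deg k X M 1 :=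
    DegIso.deg_pullback_iso k e he M 1
  have h3 : Curv2.genus k (⊥ : X.IdealSheafData).subscheme = Curv2.genus k X := by
    have h4 := DegIso.euler_pullback_iso k e he (Coh.structureModule X)
    rw [DegIso.euler_congr k (CurvesA.HHMap.pullbackUnit e.hom), CurveCoh.euler_eq k _ hd, CurveCoh.euler_eq k X hdim,
      finrank_zero k (X := X), finrank_zero k (X := (⊥ : X.IdealSheafData).subscheme)] at h4
    unfold Curv2.genus
    omega
  have h4 : spec X x (((⊥ : X.IdealSheafData).support : Set X)) = n := by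
    have h5 : ((⊥ : X.IdealSheafData).support : Set X) = Set.univ := by
      rw [Scheme.IdealSheafData.support_bot]
      rfl
    rw [h5]
    unfold spec
    rw [Set.compl_univ, closure_empty, Set.inter_empty, Set.ncard_empty, Set.preimage_univ, Set.ncard_univ,
      Nat.card_eq_fintype_card, Fintype.card_fin, zero_add]
  rw [h2, h3, h4] at h1
  exact h1

end

/-- **Stable pointed curves embed with a Hilbert function depending only on the type.** -/
theorem kp_of_isStablePtd {k : Type u} [Field k] [IsAlgClosed k] {X : Scheme.{u}} (q : X ⟶ Spec (CommRingCat.of k))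
    {g n : ℕ} {x : Fin n → X} (h : CurvSt.IsStablePtd k X q g x) :
    KP (7 * g + 4 * n - 8) (fun d => (8 * g - 8 + 4 * n : ℤ) * d + (1 - g : ℤ)) k q := by
  letI : X.Over (Spec (CommRingCat.of k)) := ⟨q⟩
  have hP : IsProper (X ↘ (Spec (CommRingCat.of k))) := h.1
  have hPq : IsProper q := h.1
  have hC : ConnectedSpace X := h.2.1
  have hdim : topologicalKrullDim X = 1 := h.2.2.1
  have hX : Curv2.AtWorstNodal k X := h.2.2.2.1.1
  have hg : Curv2.genus k X = g := h.2.2.2.1.2
  have hst := h.2.2.2.2.2.2.1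
  have hgn := h.2.2.2.2.2.2.2
  have hr : IsReduced X := GenusOne512.isReduced_of_atWorstNodal k X hX
  have hNX : IsNoetherian X := CurveCoh.noetherianSpace k X
  have hx : Pts k n x := K900.PtAmple.pts_of_isStablePtd k X h
  obtain ⟨w, M, hT⟩ := exists_tw k X hdim hX hx
  have hMi := hT.isInvertible
  have hA := K900.PtAmple.isAmple_of_isStablePtd k X h hx w M hT
  have hgn' : 0 < 2 * (Curv2.genus k X : ℤ) - 2 + n := by rw [hg]; omega
  have hss : K326.SemiMain.SS X x := by
    intro E hE h1
    have h2 := hst E (K896.TailBridge.isSmRatComp_of_h1 k X E hE (TailMain.pure_of_connected X hdim E hE) h1)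
    rw [K900.PtAmple.spec_eq X x hE (Groth.Agent.CurvesC.TailGeom.finite_inter hdim.le hE).1] at h2
    have h3 : 3 ≤ spec X x E := by exact_mod_cast h2
    omega
  have hM2 : PicF.IsInvertible (CohB1.tensorPow M 2) := Fdesc.LocGen.isInvertible_tensorPow hMi 2
  have h0 := finrank_zero k (X := X)
  obtain ⟨m, i, hi, hq, e⟩ := S6537.result k X hdim h0 (CohB1.tensorPow M 2) hM2
    (K326.SemiMain.gg_of k X hdim hX hx w M hT hss hgn' 2 le_rfl)
    (K326.SemiMain.subsingleton_H1 k X hdim hX hx w M hT hss hgn' 2 le_rfl)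
    (Divis.NormAmple.isAmple_tensorPow hA (by omega))
  have hdegM := deg_tw k X hdim hX hx w M hT
  have hdeg : Curv2.deg k X (CohB1.tensorPow (CohB1.tensorPow M 2) 2) 1 = (8 * g - 8 + 4 * n : ℤ) := by
    rw [deg_pow k X hdim.le _ hM2, deg_pow k X hdim.le _ hMi, hdegM, hg]
    push_cast
    ring
  have hO : Curv2.euler k X (Coh.structureModule X) = (1 - g : ℤ) := by
    rw [CurveCoh.euler_eq k X hdim, h0]
    unfold Curv2.genus at hg
    rw [hg]
    push_cast
    ring
  have hH1 : Subsingleton (Coh.HH X (CohB1.tensorPow (CohB1.tensorPow M 2) 2) 1) := by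
    have h4 := K326.SemiMain.subsingleton_H1 k X hdim hX hx w M hT hss hgn' 4 (by omega)
    exact (CurvesA.HHMap.equivOver k (Ega2.TensPow.powMul M 2 2) 1).toEquiv.subsingleton
  refine QCEmb.kp_of_veryAmple q hdim.le (CohB1.tensorPow (CohB1.tensorPow M 2) 2) i hi hq e ?_ hdeg hO
  have h5 : Curv2.euler k X (CohB1.tensorPow (CohB1.tensorPow M 2) 2) = (8 * g - 8 + 4 * n : ℤ) + (1 - g : ℤ) := by
    rw [Curv2.deg, hO] at hdeg
    push_cast at hdeg
    linarith
  rw [CurveCoh.euler_eq k X hdim, Module.finrank_zero_of_subsingleton (M := Coh.HH X (CohB1.tensorPow (CohB1.tensorPow M 2) 2) 1)] at h5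
  change Module.finrank k (Coh.HH X (CohB1.tensorPow (CohB1.tensorPow M 2) 2) 0) = _
  push_cast at h5
  omega

/-- Curves underlying stable `n`-pointed curves of genus `g`. -/
def Kst (g n : ℕ) : GProp.{u} := fun k _ _ {X} q => ∃ x : Fin n → X, CurvSt.IsStablePtd k X q g x

theorem bounded_stable (g n : ℕ) : Bounded (Kst.{u} g n) 0 := by
  by_cases hgn : 3 ≤ 2 * g + n
  · have hN : QA1.Num ((7 * g + 4 * n - 8) + 1) (fun d => (8 * g - 8 + 4 * n : ℤ) * d + (1 - g : ℤ)) := by
      have h2 : QA1.Num 2 (fun d => (8 * g - 8 + 4 * n : ℤ) * d + (1 - g : ℤ)) := by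
        intro d
        simp only [QA1.nab]
        ring
      exact h2.mono (by omega)
    exact (bounded_KP _ hN).mono (fun k _ _ X q ⟨x, hx⟩ => kp_of_isStablePtd q hx)
  · refine (bounded_KP 1 (Φ := fun _ => 0) ?_).mono (fun k _ _ X q ⟨x, hx⟩ => ?_)
    · intro d
      simp only [QA1.nab]
      ring
    · exact absurd hx.2.2.2.2.2.2.2 (by omega)

end K898.QCStable
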