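import Groth.Agent.CurvSt.K898.QCUnion
import Groth.Agent.CurvSt.K898.QCStable
import Groth.Agent.S10829
import Groth.Agent.CohqB.ProjBC

/-!
# Reduced connected curves with a bound on the number of components are bounded

`bounded_red` : reduced connected curves of genus `g` with at most `e` irreducible components form a bounded class, given the
uniform bound `EmbBound g e` (S18354) on the degree of a nonspecial very ample invertible module.
-/

set_option autoImplicit false
set_option linter.style.haveILetI false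
universe u
open CategoryTheory CategoryTheory.Limits AlgebraicGeometry Opposite

namespace K898.QCReduced

open Groth.Agent K390.PnSec K390.PnDesc K740.Emb K898.QCHilb K898.QCParam
open Groth.Agent.Picfga.ChiCech Groth.Agent.Fga Groth.Agent.CurvesC Groth.Agent.CurvesB

/-- The uniform bound (the statement S18354). -/
def EmbBound (g e : ℕ) : Prop :=
  ∃ D : ℕ, ∀ (k : Type u) [Field k] [IsAlgClosed k] (X : Scheme.{u}) [X.Over (Spec (CommRingCat.of k))]
      [IsProper (X ↘ Spec (CommRingCat.of k))] [IsReduced X] [ConnectedSpace ↥X],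
      topologicalKrullDim ↥X = 1 → (irreducibleComponents (↥X : Type u)).Finite →
      (irreducibleComponents (↥X : Type u)).ncard ≤ e → Curv2.genus k X = g →
      ∃ L : X.Modules, PicF.IsInvertible L ∧ Curv2.deg k X L 1 ≤ (D : ℤ) ∧ Subsingleton (Coh.HH X L 1) ∧
        ∃ (m : ℕ) (i : X ⟶ CohB1.ProjSpace m k), IsClosedImmersion i ∧
          i ≫ CohB1.ProjSpace.toSpec m k = X ↘ Spec (CommRingCat.of k) ∧
          Nonempty ((Scheme.Modules.pullback i).obj (Twist.twistProjSpace m k 1) ≅ L)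

/-- Reduced connected curves of genus `g` with at most `e` irreducible components. -/
def Kred (g e : ℕ) : GProp.{u} := fun k _ _ {X} q =>
  IsProper q ∧ IsReduced X ∧ ConnectedSpace ↥X ∧ topologicalKrullDim ↥X = 1 ∧
    (irreducibleComponents (↥X : Type u)).Finite ∧ (irreducibleComponents (↥X : Type u)).ncard ≤ e ∧
    @Curv2.genus k _ X ⟨q⟩ = g

section

variable {k : Type u} [Field k] {X : Scheme.{u}} (q : X ⟶ Spec (CommRingCat.of k))

/-- A very ample invertible module has nonzero sections. -/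
theorem finrank_pos [IsProper q] [Nonempty X] (L : X.Modules) {m : ℕ} (i : X ⟶ CohB1.ProjSpace m k)
    (hi : IsClosedImmersion i) (hq : i ≫ CohB1.ProjSpace.toSpec m k = q)
    (e : Nonempty ((Scheme.Modules.pullback i).obj (Twist.twistProjSpace m k 1) ≅ L)) :
    letI : X.Over (Spec (CommRingCat.of k)) := ⟨q⟩; 0 < Module.finrank k (Coh.HH X L 0) := by
  letI : X.Over (Spec (CommRingCat.of k)) := ⟨q⟩
  haveI : IsProper (X ↘ Spec (CommRingCat.of k)) := ‹IsProper q›
  have hN : IsLocallyNoetherian X := LocallyOfFiniteType.isLocallyNoetherian q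
  have hL : PicF.IsInvertible L := by
    obtain ⟨e⟩ := e
    exact LinSys.isInvertible_of_iso e (Fdesc.LocGen.isInvertible_pullback _ (isInvertible_O1 m k))
  obtain ⟨n, r₀, s, hr₀, him⟩ := (isRelVeryAmplePn_iff q L).1
    (K333.FibreVA.isRelVeryAmplePn_of_closedImmersion q L i hi hq e)
  have hfin : Module.Finite k (Coh.HH X L 0) :=
    Groth.Agent.S0002.result k X L (CurvesB.SubPoint.isCoh_of_isInvertible hL) 0
  by_contra h0
  have h1 : Module.finrank k (Coh.HH X L 0) = 0 := by
    change ¬ (0 < Module.finrank k (Coh.HH X L 0)) at h0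
    omega
  have h2 : Subsingleton (Coh.HH X L 0) := Module.finrank_zero_iff.1 h1
  have h3 : Subsingleton (SecA k L ⊤) := (h0Top (A := k) L).symm.toEquiv.subsingleton
  have h4 : Subsingleton Γ(L, ⊤) := (toSecA (A := k) (M := L) (U := ⊤)).toEquiv.subsingleton
  obtain ⟨x⟩ := ‹Nonempty X›
  have h5 : x ∈ ⨆ j, CohB1.genLocus L (Fdesc.LocGen.homOf (s j)) := by
    rw [hr₀.iSup_genLocus]
    trivial
  obtain ⟨j, hj⟩ := TopologicalSpace.Opens.mem_iSup.1 h5
  have h6 : s j = ∑ l ∈ (∅ : Finset (Fin 0)), (fun _ => (1 : Γ(X, ⊤))) l • (fun _ => (0 : Γ(L, ⊤))) l :=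
    Subsingleton.elim _ _
  rw [h6] at hj
  obtain ⟨l, -, -⟩ := exists_mem_genLocus_of_sum hL (∅ : Finset (Fin 0)) _ _ x hj
  exact l.elim0

theorem dim_le [IsProper q] (L : X.Modules) {m : ℕ} (i : X ⟶ CohB1.ProjSpace m k)
    (hi : IsClosedImmersion i) (hq : i ≫ CohB1.ProjSpace.toSpec m k = q)
    (e : Nonempty ((Scheme.Modules.pullback i).obj (Twist.twistProjSpace m k 1) ≅ L)) {N : ℕ}
    (hN : letI : X.Over (Spec (CommRingCat.of k)) := ⟨q⟩; Module.finrank k (Coh.HH X L 0) = N + 1) :
    topologicalKrullDim X ≤ N := by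
  obtain ⟨j, hj, -⟩ := LinSys.exists_complete q L i hi hq e hN
  let ρ := Groth.Agent.CohqB.ProjBC.projSpaceOverIso N k
  have h1 : IsClosedImmersion (liftP j q ≫ ρ.hom) := inferInstance
  rw [← Groth.Agent.S10829.result k N]
  exact (liftP j q ≫ ρ.hom).isClosedEmbedding.isInducing.topologicalKrullDim_le

end

theorem kp_of_red {g e D : ℕ} (hD : ∀ (k : Type u) [Field k] [IsAlgClosed k] (X : Scheme.{u}) [X.Over (Spec (CommRingCat.of k))]
      [IsProper (X ↘ Spec (CommRingCat.of k))] [IsReduced X] [ConnectedSpace ↥X],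
      topologicalKrullDim ↥X = 1 → (irreducibleComponents (↥X : Type u)).Finite →
      (irreducibleComponents (↥X : Type u)).ncard ≤ e → Curv2.genus k X = g →
      ∃ L : X.Modules, PicF.IsInvertible L ∧ Curv2.deg k X L 1 ≤ (D : ℤ) ∧ Subsingleton (Coh.HH X L 1) ∧
        ∃ (m : ℕ) (i : X ⟶ CohB1.ProjSpace m k), IsClosedImmersion i ∧
          i ≫ CohB1.ProjSpace.toSpec m k = X ↘ Spec (CommRingCat.of k) ∧
          Nonempty ((Scheme.Modules.pullback i).obj (Twist.twistProjSpace m k 1) ≅ L))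
    {k : Type u} [Field k] [IsAlgClosed k] {X : Scheme.{u}} (q : X ⟶ Spec (CommRingCat.of k)) (h : Kred g e k q) :
    ∃ N, N < D + 1 ∧ KP (N + 1) (fun d => (N + 1 + g : ℤ) * d + (1 - g : ℤ)) k q := by
  letI : X.Over (Spec (CommRingCat.of k)) := ⟨q⟩
  obtain ⟨hP, hr, hC, hdim, hf, he, hg⟩ := h
  haveI : IsProper (X ↘ Spec (CommRingCat.of k)) := hP
  obtain ⟨L, hL, hdeg, hH1, m, i, hi, hq, e'⟩ := hD k X hdim hf he hg
  have h0 := K326.DegPts.finrank_zero k (X := X)
  have hO : Curv2.euler k X (Coh.structureModule X) = (1 - g : ℤ) := by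
    rw [CurveCoh.euler_eq k X hdim, h0]
    have hg' : Module.finrank k (Coh.HH X (Coh.structureModule X) 1) = g := hg
    rw [hg']
    push_cast
    ring
  have hpos := finrank_pos q L i hi hq e'
  change 0 < Module.finrank k (Coh.HH X L 0) at hpos
  obtain ⟨N, hN⟩ : ∃ N, Module.finrank k (Coh.HH X L 0) = N + 1 := ⟨_, (Nat.sub_add_cancel hpos).symm⟩
  have hLe : Curv2.euler k X L = (N + 1 : ℤ) := by
    rw [CurveCoh.euler_eq k X hdim, Module.finrank_zero_of_subsingleton (M := Coh.HH X L 1), hN]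
    push_cast
    ring
  have hd : Curv2.deg k X L 1 = (N + g : ℤ) := by
    rw [Curv2.deg, hO, hLe]
    push_cast
    ring
  have hN1 : 1 ≤ N := by
    have h1 := dim_le q L i hi hq e' hN
    rw [hdim] at h1
    exact_mod_cast h1
  obtain ⟨M, rfl⟩ : ∃ M, N = M + 1 := ⟨_, (Nat.sub_add_cancel hN1).symm⟩
  have hd' : Curv2.deg k X L 1 = (M + 1 + g : ℤ) := by
    rw [hd]
    push_cast
    ring
  refine ⟨M, ?_, QCEmb.kp_of_veryAmple q hdim.le L i hi hq e' hN hd' hO⟩
  rw [hd'] at hdeg
  omega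

theorem bounded_red (g e : ℕ) (hE : EmbBound.{u} g e) : Bounded (Kred.{u} g e) 0 := by
  obtain ⟨D, hD⟩ := hE
  refine (QCUnion.bounded_exists_lt (K := fun N => KP (N + 1) (fun d => (N + 1 + g : ℤ) * d + (1 - g : ℤ))) (fun N => ?_)
    (D + 1)).mono fun k _ _ X q hq => kp_of_red hD q hq
  refine bounded_KP _ ?_
  have h2 : QA1.Num 2 (fun d => (N + 1 + g : ℤ) * d + (1 - g : ℤ)) := by
    intro d
    simp only [QA1.nab]
    ring
  exact h2.mono (by omega)

end K898.QCReduced
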