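import Groth.Agent.CurvSt.K898.QCCurves
import Groth.Agent.CurvSt.K898.QCReduced
import Groth.Agent.CurvSt.K898.CompCount
import Groth.Agent.AlgSt.K738.Open1

/-!
# The stack of pointed reduced connected curves of genus `g` with at most `e` components

`isQuasiCompact_comp`, `main` : from `Std (Curves S n)`, `EtLocSch` and the uniform bound `EmbBound g e` (S18354).
-/

set_option autoImplicit false
universe u
open CategoryTheory CategoryTheory.Limits AlgebraicGeometry Opposite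

namespace K898.CompStack

open CurvSt AlgSp K898.QCParam K898.MbarEq Groth.Agent K901.EtSch K898.CompCount K898.QCReduced K901.GeomFibAt

variable {n : ℕ}

/-- The condition of S18357. -/
abbrev QComp (n g e : ℕ) {S : Scheme.{u}} (A : (Curves S n).obj) : Prop :=
  GeomFib (fun _ _ _ X' _ _ => IsReduced X' ∧ ConnectedSpace ↥X' ∧ topologicalKrullDim ↥X' = 1 ∧
    (irreducibleComponents (↥X' : Type u)).Finite ∧ (irreducibleComponents (↥X' : Type u)).ncard ≤ e) A.obj ∧
    SpHasGenus A.obj g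

theorem qComp_eq (n g e : ℕ) (S : Scheme.{u}) :
    (fun A : (Curves S n).obj => QComp n g e A) = fun A => GeomFib (CompProp n g e) A.obj := by
  funext A
  refine propext ⟨fun h Ω _ _ t X' q i hP => ⟨h.1 Ω t X' q i hP, h.2 Ω t X' q i hP⟩,
    fun h => ⟨fun Ω _ _ t X' q i hP => (h Ω t X' q i hP).1, fun Ω _ _ t X' q i hP => (h Ω t X' q i hP).2⟩⟩

/-- Families of schemes with the condition. -/
abbrev PComp (n g e : ℕ) : FamProp.{u} n := fun {C T} f σ hσ =>
  (Flat f ∧ IsProper f ∧ LocallyOfFinitePresentation f ∧ ∀ x, FlatMor.fibreDimAt f x ≤ ((1 : ℕ) : WithBot ℕ∞)) ∧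
    ∀ (Ω : Type u) [Field Ω] [IsAlgClosed Ω] (t : Spec (CommRingCat.of Ω) ⟶ T) (X' : Scheme.{u})
        (i : X' ⟶ C) (q : X' ⟶ Spec (CommRingCat.of Ω)) (hP : IsPullback i q f t),
        CompProp n g e Ω X' q (markedPt σ hσ hP)

theorem isQuasiCompact_comp (g e : ℕ) (hB : EmbBound.{u} g e) (S : Scheme.{u}) [CompactSpace S]
    (hE : ∀ (S : Scheme.{u}) (A : (Curves S n).obj), EtLocSch A.obj)
    (hp : FibCat.IsFibGrpd (Curves S n).p)
    (hat : AlgSt.HasAtlas (AlgSp.LocP @Smooth) (AlgSt.fullSub (Curves S n) (fun A => GeomFib (CompProp n g e) A.obj))) :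
    AlgSt.IsQuasiCompact (AlgSt.fullSub (Curves S n) (fun A => GeomFib (CompProp n g e) A.obj)) := by
  refine QCCurves.isQuasiCompact_curves (PComp n g e) (fun S A => GeomFib (CompProp n g e) A.obj)
    (fun S => hasOpenLocus_comp g e (hE S)) (fun f σ hσ h => h.1) (fun S B hc => ?_) (Kred g e)
    (bounded_red g e hB) (fun Ω _ _ X q x hx h => ?_) S (hE S) hp hat
  · rw [K903.GeomFib.geomFib_toSpFam_iff]
    exact ⟨fun h => ⟨facts B hc, h⟩, fun h => h.2⟩
  · obtain ⟨⟨h1, h2, h3, h4⟩, h5⟩ := h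
    obtain ⟨⟨a1, a2, a3, a4, a5⟩, a6⟩ := h5 Ω (𝟙 _) X (𝟙 X) q (IsPullback.of_horiz_isIso ⟨by simp⟩)
    exact ⟨h2, a1, a2, a3, a4, a5, a6⟩

/-- The statement of S18357. -/
theorem main (g e : ℕ) (hB : EmbBound.{u} g e) (S : Scheme.{u}) [CompactSpace S]
    (hE : ∀ (S : Scheme.{u}) (A : (Curves S n).obj), EtLocSch A.obj) (h : K738.OSub.Std (Curves S n)) :
    AlgSt.IsAlgStack Scheme.etalePrecoverage (AlgSt.fullSub (Curves S n) (fun A => QComp n g e A)) ∧
      AlgSt.IsQuasiCompact (AlgSt.fullSub (Curves S n) (fun A => QComp n g e A)) ∧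
      AlgSt.LocQ (AlgSp.LocP @LocallyOfFiniteType)
        (FibCat.toSelf (AlgSt.fullSub (Curves S n) (fun A => QComp n g e A))) ∧
      AlgSt.RepByAlgSpWith (AlgSp.IsQuasiCompactMor ⊓ AlgSp.IsSeparatedMor)
        (FibCat.diag (FibCat.toSelf (AlgSt.fullSub (Curves S n) (fun A => QComp n g e A)))) := by
  rw [qComp_eq]
  have h1 := h.sub (hasOpenLocus_comp (n := n) (S := S) g e (hE S))
  exact ⟨K738.AutDM.isAlgStack_etale h1.alg, isQuasiCompact_comp g e hB S hE h.alg.isStack.1 h1.alg.atlas, h1.lft,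
    K740.SpIso.repByAlgSpWith_inf h1.qc h1.sep⟩

end K898.CompStack
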