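import Groth.Agent.S2913
import Groth.Agent.Fga.UnitRestrict
import Mathlib.AlgebraicGeometry.Gluing
import Mathlib.AlgebraicGeometry.Morphisms.Proper
import Mathlib.AlgebraicGeometry.PullbackCarrier

/-!
# Factoring a morphism through a contraction

Let `c : X → Y` be a surjective morphism with `O_Y → c_* O_X` an isomorphism.

* `epi_of_isIso_app`, `epi_restrict`: `c` (and its restrictions) are epimorphisms.
* `exists_factor_local`: if `c` is closed and `f : X → Z` is constant on the fibre over `y` then `f` factors through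
  `c` near `y`.
* `exists_factor`: local factorizations glue.
* `exists_factor_of_const`: if `c` is closed and `f : X → Z` is constant on the fibres of `c` then `f` factors through `c`.
-/

set_option autoImplicit false
universe u

open CategoryTheory CategoryTheory.Limits AlgebraicGeometry Opposite TopologicalSpace

namespace K898.Factor

variable {X Y Z : Scheme.{u}}

theorem epi_of_isIso_app (c : X ⟶ Y) [Surjective c] (h : ∀ V : Y.Opens, IsIso (c.app V)) : Epi c :=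
  Groth.Agent.S2913.result c fun U => ((ConcreteCategory.isIso_iff_bijective (c.app U)).1 (h U)).1

theorem isIso_app_restrict (c : X ⟶ Y) (h : ∀ V : Y.Opens, IsIso (c.app V)) (U : Y.Opens)
    (V : (U : Scheme.{u}).Opens) : IsIso ((c ∣_ U).app V) :=
  (ConcreteCategory.isIso_iff_bijective _).2
    (Groth.Agent.Fga.UnitRestrict.bijective_morphismRestrict_app c
      (fun W => (ConcreteCategory.isIso_iff_bijective _).1 (h W)) U V)

theorem epi_restrict (c : X ⟶ Y) [Surjective c] (h : ∀ V : Y.Opens, IsIso (c.app V)) (U : Y.Opens) :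
    Epi (c ∣_ U) := by
  have : Surjective (c ∣_ U) :=
    MorphismProperty.of_isPullback (isPullback_morphismRestrict c U).flip inferInstance
  exact epi_of_isIso_app _ (isIso_app_restrict c h U)

/-- A dominant closed morphism is surjective; in particular a closed morphism with `O_Y → c_* O_X` injective. -/
theorem surjective_of_isIso_app (c : X ⟶ Y) (hc : IsClosedMap c) (h : ∀ V : Y.Opens, IsIso (c.app V)) :
    Surjective c := by
  refine ⟨fun y => ?_⟩
  by_contra hy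
  let V : Y.Opens := ⟨(Set.range c)ᶜ, (hc.isClosed_range).isOpen_compl⟩
  have hV : c ⁻¹ᵁ V = ⊥ := by
    ext x
    simp only [Opens.map_coe, Set.mem_preimage, SetLike.mem_coe, Opens.coe_bot,
      Set.mem_empty_iff_false, iff_false]
    exact fun hx => hx ⟨x, rfl⟩
  have h1 : Subsingleton Γ(X, c ⁻¹ᵁ V) := by
    rw [hV]
    infer_instance
  have h2 : Function.Injective (c.app V) := ((ConcreteCategory.isIso_iff_bijective (c.app V)).1 (h V)).1
  have h3 : Subsingleton Γ(Y, V) := h2.subsingleton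
  have h4 : Nonempty V := ⟨⟨y, fun ⟨x, hx⟩ => hy ⟨x, hx⟩⟩⟩
  exact false_of_nontrivial_of_subsingleton Γ(Y, V)

/-- Factorization of a morphism to an affine scheme. -/
theorem exists_factor_affine (c : X ⟶ Y) (hc : IsIso c.appTop) (f : X ⟶ Z) [IsAffine Z] :
    ∃ h : Y ⟶ Z, c ≫ h = f := by
  refine ⟨Y.toSpecΓ ≫ Spec.map (f.appTop ≫ inv c.appTop) ≫ Z.isoSpec.inv, ?_⟩
  rw [Scheme.toSpecΓ_naturality_assoc, ← Spec.map_comp_assoc, Category.assoc, IsIso.inv_hom_id,
    Category.comp_id, ← Scheme.toSpecΓ_naturality_assoc]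
  have : Z.toSpecΓ ≫ Z.isoSpec.inv = 𝟙 _ := Z.isoSpec.hom_inv_id
  rw [this, Category.comp_id]

/-- Local factorization. -/
theorem exists_factor_local (c : X ⟶ Y) (hc : IsClosedMap c) (f : X ⟶ Z) (P : Y.Opens)
    (hP : ∀ V : Y.Opens, V ≤ P → IsIso (c.app V)) (y : Y) (hy : y ∈ P) (z : Z)
    (hz : ∀ x, c x = y → f x = z) :
    ∃ (V : Y.Opens) (_ : y ∈ V) (_ : V ≤ P) (h : (V : Scheme.{u}) ⟶ Z), (c ∣_ V) ≫ h = (c ⁻¹ᵁ V).ι ≫ f := by
  obtain ⟨W, hW, hzW, -⟩ := exists_isAffineOpen_mem_and_subset (X := Z) (x := z) (U := ⊤) trivial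
  have hWa : IsAffine (W : Scheme.{u}) := hW
  let V : Y.Opens := P ⊓ ⟨(c '' (f ⁻¹ᵁ W : Set X)ᶜ)ᶜ, (hc _ (f ⁻¹ᵁ W).2.isClosed_compl).isOpen_compl⟩
  have hV : c ⁻¹ᵁ V ≤ f ⁻¹ᵁ W := by
    intro x hx
    by_contra hcon
    exact hx.2 ⟨x, hcon, rfl⟩
  have hyV : y ∈ V := by
    refine ⟨hy, ?_⟩
    rintro ⟨x, hx, hxy⟩
    apply hx
    change f x ∈ W
    rw [hz x hxy]
    exact hzW
  have h1 : IsIso (c ∣_ V).appTop := by
    have h2 := hP (V.ι ''ᵁ ⊤) (by
      rw [Scheme.Opens.ι_image_top]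
      exact inf_le_left)
    rw [morphismRestrict_appTop]
    have h3 : IsIso (X.presheaf.map (eqToHom (image_morphismRestrict_preimage c V ⊤)).op) :=
      inferInstance
    exact @IsIso.comp_isIso _ _ _ _ _ _ _ h2 h3
  obtain ⟨h, hh⟩ := exists_factor_affine (c ∣_ V) h1 (f.resLE W (c ⁻¹ᵁ V) hV)
  refine ⟨V, hyV, inf_le_left, h ≫ W.ι, ?_⟩
  rw [← Category.assoc, hh, Scheme.Hom.resLE_comp_ι]

/-- Local factorizations glue. -/
theorem exists_factor (c : X ⟶ Y) [Surjective c] (hc : ∀ V : Y.Opens, IsIso (c.app V)) (f : X ⟶ Z)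
    (hloc : ∀ y : Y, ∃ (V : Y.Opens) (_ : y ∈ V) (h : (V : Scheme.{u}) ⟶ Z),
      (c ∣_ V) ≫ h = (c ⁻¹ᵁ V).ι ≫ f) : ∃ h : Y ⟶ Z, c ≫ h = f := by
  choose V hV h hh using hloc
  have hcov : IsOpenCover V := by
    refine IsOpenCover.mk (eq_top_iff.2 fun y _ => ?_)
    exact Opens.mem_iSup.2 ⟨y, hV y⟩
  let 𝒰 := Y.openCoverOfIsOpenCover V hcov
  have hcomp : ∀ (U : Y.Opens) (y : Y) (hU : U ≤ V y),
      (c ∣_ U) ≫ Y.homOfLE hU ≫ h y = (c ⁻¹ᵁ U).ι ≫ f := by
    intro U y hU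
    have h1 : (c ∣_ U) ≫ Y.homOfLE hU = X.homOfLE (c.preimage_mono hU) ≫ (c ∣_ V y) := by
      rw [← cancel_mono (V y).ι]
      simp
    rw [reassoc_of% h1, hh]
    simp
  let F : Y ⟶ Z := 𝒰.glueMorphisms h (fun (i j : Y) => by
    change pullback.fst (V i).ι (V j).ι ≫ h i = pullback.snd (V i).ι (V j).ι ≫ h j
    rw [← cancel_epi (isPullback_opens_inf (V i) (V j)).isoPullback.hom]
    have := epi_restrict c hc (V i ⊓ V j)
    rw [← cancel_epi (c ∣_ (V i ⊓ V j))]
    have e1 := hcomp (V i ⊓ V j) i inf_le_left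
    have e2 := hcomp (V i ⊓ V j) j inf_le_right
    simpa [𝒰] using! e1.trans e2.symm)
  have hF : ∀ i, (V i).ι ≫ F = h i := fun i => Scheme.Cover.ι_glueMorphisms ..
  refine ⟨F, ?_⟩
  refine Scheme.hom_ext_of_forall _ _ fun x => ⟨c ⁻¹ᵁ V (c x), hV (c x), ?_⟩
  rw [← hh, ← hF, ← morphismRestrict_ι_assoc]

theorem exists_factor_of_const (c : X ⟶ Y) (hcl : IsClosedMap c) (hc : ∀ V : Y.Opens, IsIso (c.app V))
    (f : X ⟶ Z) (hf : ∀ x x', c x = c x' → f x = f x') : ∃ h : Y ⟶ Z, c ≫ h = f := by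
  have hs := surjective_of_isIso_app c hcl hc
  refine exists_factor c hc f fun y => ?_
  obtain ⟨x, rfl⟩ := hs.surj y
  obtain ⟨V, hV, -, h, hh⟩ := exists_factor_local c hcl f ⊤ (fun V _ => hc V) (c x) trivial (f x)
    (fun x' hx' => hf _ _ hx')
  exact ⟨V, hV, h, hh⟩

end K898.Factor
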