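import Groth.Agent.CurvSt.K898.ContrUniv
import Groth.Agent.CurvSt.K898.Factor
import Groth.Agent.Flat2G.StructHH

/-!
# Contractions: fibres given by arbitrary cartesian squares

* `IsContr d`: `O = d_* O` and `R¹ d_* O = 0` (in the concrete sense).
* `IsContr.of_iso`: invariance under isomorphism of arrows.
* `acycAt_of_isContr`: if the fibre of `c` at `s` (given by cartesian squares) is a contraction, then `c` is
  `O`-acyclic around the points over `s`.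
* `exists_point_const`: if `d₂` factors through `d₁` then `c₂` is constant on the fibres of `c₁` over `s`.
-/

set_option autoImplicit false
universe u

open CategoryTheory CategoryTheory.Limits AlgebraicGeometry Opposite TopologicalSpace

namespace K898.ContrFib

open Groth.Agent

/-- `O = d_* O` and `R¹ d_* O = 0`. -/
structure IsContr {X Y : Scheme.{u}} (d : X ⟶ Y) : Prop where
  iso : ∀ U : Y.Opens, IsIso (d.app U)
  van : ∀ U : Y.Opens, IsAffineOpen U →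
    Subsingleton (Coh.HHon X (Coh.structureModule X) (d ⁻¹ᵁ U) 1)

theorem isIso_app_of_iso {X Y : Scheme.{u}} (e : X ⟶ Y) [IsIso e] (U : Y.Opens) : IsIso (e.app U) :=
  inferInstance

theorem IsContr.of_iso {X Y X' Y' : Scheme.{u}} {d : X ⟶ Y} {d' : X' ⟶ Y'} (h : IsContr d)
    (a : X' ≅ X) (b : Y' ≅ Y) (w : a.hom ≫ d = d' ≫ b.hom) : IsContr d' := by
  have hd : d' = a.hom ≫ d ≫ b.inv := by
    rw [← Category.assoc, w, Category.assoc, b.hom_inv_id, Category.comp_id]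
  subst hd
  refine ⟨fun U => ?_, fun U hU => ?_⟩
  · have h1 : IsIso (d.app (b.inv ⁻¹ᵁ U)) := h.iso (b.inv ⁻¹ᵁ U)
    have h2 : IsIso (b.inv.app U) := isIso_app_of_iso _ _
    have h3 : IsIso (a.hom.app ((d ≫ b.inv) ⁻¹ᵁ U)) := isIso_app_of_iso _ _
    rw [Scheme.Hom.comp_app, Scheme.Hom.comp_app]
    exact @IsIso.comp_isIso _ _ _ _ _ _ _ (@IsIso.comp_isIso _ _ _ _ _ _ _ h2 h1) h3
  · have h1 := h.van (b.inv ⁻¹ᵁ U) (hU.preimage_of_isIso b.inv)
    refine (Flat2G.StructHH.HHon_iff_image a.hom ((a.hom ≫ d ≫ b.inv) ⁻¹ᵁ U) (d ⁻¹ᵁ (b.inv ⁻¹ᵁ U))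
      ?_ 1).1 h1
    ext x
    constructor
    · intro hx
      refine ⟨a.inv x, ?_, ?_⟩
      · change (a.hom ≫ d ≫ b.inv) (a.inv x) ∈ U
        rw [← Scheme.Hom.comp_apply, a.inv_hom_id_assoc]
        exact hx
      · change a.hom (a.inv x) = x
        rw [← Scheme.Hom.comp_apply, a.inv_hom_id]
        rfl
    · rintro ⟨z, hz, rfl⟩
      exact hz

theorem IsContr.comp_iso {X Y Y' : Scheme.{u}} {d : X ⟶ Y} (h : IsContr d) (e : Y ≅ Y') :
    IsContr (d ≫ e.hom) :=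
  h.of_iso (Iso.refl _) e.symm (by simp)

variable {X Y S : Scheme.{u}}

/-- A fibre given by a cartesian square, compared with `Scheme.Hom.fiber`. -/
noncomputable def fibIso {f : X ⟶ S} {s : S} {Xs : Scheme.{u}} {iX : Xs ⟶ X}
    {qX : Xs ⟶ Spec (S.residueField s)} (hXs : IsPullback iX qX f (S.fromSpecResidueField s)) :
    Xs ≅ f.fiber s :=
  hXs.isoPullback

theorem fibIso_ι {f : X ⟶ S} {s : S} {Xs : Scheme.{u}} {iX : Xs ⟶ X}
    {qX : Xs ⟶ Spec (S.residueField s)} (hXs : IsPullback iX qX f (S.fromSpecResidueField s)) :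
    (fibIso hXs).hom ≫ f.fiberι s = iX := hXs.isoPullback_hom_fst

theorem fibIso_toSpec {f : X ⟶ S} {s : S} {Xs : Scheme.{u}} {iX : Xs ⟶ X}
    {qX : Xs ⟶ Spec (S.residueField s)} (hXs : IsPullback iX qX f (S.fromSpecResidueField s)) :
    (fibIso hXs).hom ≫ f.fiberToSpecResidueField s = qX := hXs.isoPullback_hom_snd

theorem injective_of_isPullback {f : X ⟶ S} {s : S} {Xs : Scheme.{u}} {iX : Xs ⟶ X}
    {qX : Xs ⟶ Spec (S.residueField s)} (hXs : IsPullback iX qX f (S.fromSpecResidueField s)) :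
    Function.Injective iX := by
  intro a b hab
  rw [← fibIso_ι hXs] at hab
  rw [Scheme.Hom.comp_apply, Scheme.Hom.comp_apply] at hab
  exact (fibIso hXs).hom.homeomorph.injective ((f.fiberι s).isEmbedding.injective hab)

theorem exists_of_isPullback {f : X ⟶ S} {s : S} {Xs : Scheme.{u}} {iX : Xs ⟶ X}
    {qX : Xs ⟶ Spec (S.residueField s)} (hXs : IsPullback iX qX f (S.fromSpecResidueField s))
    (x : X) (hx : f x = s) : ∃ ξ : Xs, iX ξ = x := by
  obtain ⟨z, hz⟩ : x ∈ Set.range (f.fiberι s) := by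
    rw [Scheme.Hom.range_fiberι]
    exact hx
  refine ⟨(fibIso hXs).inv z, ?_⟩
  have h1 : (fibIso hXs).inv ≫ iX = f.fiberι s := by
    rw [Iso.inv_comp_eq, fibIso_ι]
  rw [← Scheme.Hom.comp_apply, h1]
  exact hz

theorem map_eq_of_isPullback {f : X ⟶ S} {s : S} {Xs : Scheme.{u}} {iX : Xs ⟶ X}
    {qX : Xs ⟶ Spec (S.residueField s)} (hXs : IsPullback iX qX f (S.fromSpecResidueField s))
    (ξ : Xs) : f (iX ξ) = s := by
  rw [← Scheme.Hom.comp_apply, hXs.w, Scheme.Hom.comp_apply, Scheme.fromSpecResidueField_apply]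

/-- The comparison with `MoreMor.fiberMap`. -/
theorem isContr_fiberMap {c : X ⟶ Y} {g : Y ⟶ S} {s : S} {Xs Ys : Scheme.{u}} {iX : Xs ⟶ X}
    {qX : Xs ⟶ Spec (S.residueField s)} (hXs : IsPullback iX qX (c ≫ g) (S.fromSpecResidueField s))
    {iY : Ys ⟶ Y} {qY : Ys ⟶ Spec (S.residueField s)}
    (hYs : IsPullback iY qY g (S.fromSpecResidueField s)) {d : Xs ⟶ Ys} (hd : d ≫ iY = iX ≫ c)
    (hdq : d ≫ qY = qX) (h : IsContr d) : IsContr (MoreMor.fiberMap c g s) := by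
  refine h.of_iso (fibIso hXs).symm (fibIso hYs).symm ?_
  have h1 : MoreMor.fiberMap c g s ≫ g.fiberι s = (c ≫ g).fiberι s ≫ c := pullback.lift_fst _ _ _
  have h2 : MoreMor.fiberMap c g s ≫ g.fiberToSpecResidueField s =
    (c ≫ g).fiberToSpecResidueField s := pullback.lift_snd _ _ _
  change (fibIso hXs).inv ≫ d = MoreMor.fiberMap c g s ≫ (fibIso hYs).inv
  rw [Iso.inv_comp_eq, ← Category.assoc, Iso.eq_comp_inv]
  refine (IsPullback.of_hasPullback g (S.fromSpecResidueField s)).hom_ext ?_ ?_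
  · change (d ≫ (fibIso hYs).hom) ≫ g.fiberι s = ((fibIso hXs).hom ≫ MoreMor.fiberMap c g s) ≫ g.fiberι s
    rw [Category.assoc, fibIso_ι, hd, Category.assoc, h1, ← Category.assoc, fibIso_ι]
  · change (d ≫ (fibIso hYs).hom) ≫ g.fiberToSpecResidueField s =
      ((fibIso hXs).hom ≫ MoreMor.fiberMap c g s) ≫ g.fiberToSpecResidueField s
    rw [Category.assoc, fibIso_toSpec, hdq, Category.assoc, h2, fibIso_toSpec]

theorem acycAt_of_isContr {c : X ⟶ Y} {g : Y ⟶ S} [IsProper c]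
    [LocallyOfFinitePresentation g] [LocallyOfFinitePresentation (c ≫ g)] [Flat (c ≫ g)]
    {s : S} (hX : topologicalKrullDim ↥((c ≫ g).fiber s) ≤ 1) (h : IsContr (MoreMor.fiberMap c g s))
    (y : Y) (hy : g y = s) : ContrUniv.AcycAt c g y := by
  refine ContrUniv.acycAt_of_fibre c g s (fun y' => ?_) h.van h.iso y hy
  refine le_trans ?_ hX
  exact ((MoreMor.fiberMap c g s).fiberι y').isEmbedding.isInducing.topologicalKrullDim_le

/-- If `d₂ = d₁ ≫ e` then `c₂` is constant on the fibres of `c₁` over points over `s`. -/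
theorem exists_point_const {Y₁ Y₂ : Scheme.{u}} {f : X ⟶ S} {g₁ : Y₁ ⟶ S}
    {c₁ : X ⟶ Y₁} {c₂ : X ⟶ Y₂} (hc₁ : c₁ ≫ g₁ = f) {s : S} {Xs Ys₁ Ys₂ : Scheme.{u}}
    {iX : Xs ⟶ X} {qX : Xs ⟶ Spec (S.residueField s)}
    (hXs : IsPullback iX qX f (S.fromSpecResidueField s))
    {i₁ : Ys₁ ⟶ Y₁} {q₁ : Ys₁ ⟶ Spec (S.residueField s)}
    (hYs₁ : IsPullback i₁ q₁ g₁ (S.fromSpecResidueField s))
    {i₂ : Ys₂ ⟶ Y₂}
    {d₁ : Xs ⟶ Ys₁} (hd₁ : d₁ ≫ i₁ = iX ≫ c₁)
    {d₂ : Xs ⟶ Ys₂} (hd₂ : d₂ ≫ i₂ = iX ≫ c₂)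
    {e : Ys₁ ⟶ Ys₂} (hec : d₁ ≫ e = d₂) (y : Y₁) (hy : g₁ y = s) :
    ∃ z : Y₂, ∀ x, c₁ x = y → c₂ x = z := by
  obtain ⟨η, rfl⟩ := exists_of_isPullback hYs₁ y hy
  refine ⟨i₂ (e η), fun x hx => ?_⟩
  obtain ⟨ξ, rfl⟩ := exists_of_isPullback hXs x (by
    rw [← hc₁, Scheme.Hom.comp_apply, hx, hy])
  have h1 : d₁ ξ = η := by
    apply injective_of_isPullback hYs₁
    rw [← Scheme.Hom.comp_apply, hd₁, Scheme.Hom.comp_apply, hx]
  rw [← Scheme.Hom.comp_apply, ← hd₂, Scheme.Hom.comp_apply, ← hec, Scheme.Hom.comp_apply, h1]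

end K898.ContrFib
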