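import Groth.Agent.CurvSt.K898.ContrFib

/-!
# Uniqueness of contractions near a fibre

* `exists_factor_on`: gluing of local factorizations over an open subset.
* `exists_hom_near`: if `d₂` factors through the contraction `d₁ : X_s → Y_{1,s}` then `c₂` factors through `c₁` near `s`.
-/

set_option autoImplicit false
universe u

open CategoryTheory CategoryTheory.Limits AlgebraicGeometry Opposite TopologicalSpace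

namespace K898.ContrIso

open K898.Factor K898.ContrFib K898.ContrUniv Groth.Agent

theorem isIso_app_restrict' {X Y : Scheme.{u}} (c : X ⟶ Y) (P : Y.Opens)
    (hP : ∀ V : Y.Opens, V ≤ P → IsIso (c.app V)) (V : (P : Scheme.{u}).Opens) :
    IsIso ((c ∣_ P).app V) := by
  have h2 : IsIso (c.app (P.ι ''ᵁ V)) := hP _ (by
    rintro _ ⟨z, -, rfl⟩
    exact z.2)
  rw [morphismRestrict_app]
  have h3 : IsIso (X.presheaf.map (eqToHom (image_morphismRestrict_preimage c P V)).op) :=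
    inferInstance
  exact @IsIso.comp_isIso _ _ _ _ _ _ _ h2 h3

/-- Gluing of local factorizations over an open subset. -/
theorem exists_factor_on {X Y Z : Scheme.{u}} (c : X ⟶ Y) (hcl : IsClosedMap c) (f : X ⟶ Z)
    (P : Y.Opens) (hP : ∀ V : Y.Opens, V ≤ P → IsIso (c.app V))
    (hloc : ∀ y ∈ P, ∃ (V : Y.Opens) (_ : y ∈ V) (h : (V : Scheme.{u}) ⟶ Z),
      (c ∣_ V) ≫ h = (c ⁻¹ᵁ V).ι ≫ f) :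
    Surjective (c ∣_ P) ∧ Epi (c ∣_ P) ∧ ∃ h : (P : Scheme.{u}) ⟶ Z, (c ∣_ P) ≫ h = (c ⁻¹ᵁ P).ι ≫ f := by
  have hcl' : IsClosedMap (c ∣_ P) := by
    have h1 := hcl.restrictPreimage (P : Set Y)
    rw [morphismRestrict_base]
    exact h1
  have hiso := isIso_app_restrict' c P hP
  have hsurj : Surjective (c ∣_ P) := surjective_of_isIso_app _ hcl' hiso
  refine ⟨hsurj, epi_of_isIso_app _ hiso, ?_⟩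
  refine exists_factor (c ∣_ P) hiso ((c ⁻¹ᵁ P).ι ≫ f) fun y => ?_
  obtain ⟨V, hyV, h, hh⟩ := hloc y.1 y.2
  refine ⟨P.ι ⁻¹ᵁ V, hyV, (P.ι ∣_ V) ≫ h, ?_⟩
  -- compare the two restrictions
  have e1 : (c ∣_ P) ⁻¹ᵁ (P.ι ⁻¹ᵁ V) ≤ (c ⁻¹ᵁ P).ι ⁻¹ᵁ (c ⁻¹ᵁ V) := fun x hx => by
    change c ((c ⁻¹ᵁ P).ι x) ∈ V
    rw [← Scheme.Hom.comp_apply, ← morphismRestrict_ι, Scheme.Hom.comp_apply]
    exact hx
  have h1 : ((c ∣_ P) ∣_ (P.ι ⁻¹ᵁ V)) ≫ (P.ι ∣_ V) =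
      (c ⁻¹ᵁ P).ι.resLE (c ⁻¹ᵁ V) ((c ∣_ P) ⁻¹ᵁ (P.ι ⁻¹ᵁ V)) e1 ≫ (c ∣_ V) := by
    rw [← cancel_mono V.ι, Category.assoc, Category.assoc, morphismRestrict_ι, morphismRestrict_ι,
      Scheme.Hom.resLE_comp_ι_assoc, morphismRestrict_ι_assoc, morphismRestrict_ι]
  rw [reassoc_of% h1, hh, Scheme.Hom.resLE_comp_ι_assoc]

variable {X Y₁ Y₂ S : Scheme.{u}}

theorem isIso_app_of_acycAt_le {c : X ⟶ Y₁} {g : Y₁ ⟶ S} [QuasiCompact c] [QuasiSeparated c]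
    {P : Y₁.Opens} (h : ∀ y ∈ P, AcycAt c g y) (W : Y₁.Opens) (hW : W ≤ P) : IsIso (c.app W) := by
  refine Flat2C.ContrLocal.isIso_app_of_forall (V := P) (fun U hUP hU => ?_) W hW
  refine Flat2C.ContrLocal.bijective_app_of_forall hU fun y hy => ?_
  obtain ⟨S₁, D, e, hS₁, hD, hyD, hac, hfl1, hfl2⟩ := h y (hUP hy)
  exact ⟨D, hD, hyD, (CohqA.ContrBij.bijective_restrict_iff c _).1 hac.bij⟩

/-- If `c₁` is `O`-acyclic around the points over `s`, and `c₂` is constant on the fibres of `c₁` over points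
over `s`, then `c₂` factors through `c₁` near `s`. -/
theorem exists_hom_near {c₁ : X ⟶ Y₁} {g₁ : Y₁ ⟶ S} {c₂ : X ⟶ Y₂} {g₂ : Y₂ ⟶ S} [IsProper c₁]
    [IsProper g₁] (hc : c₁ ≫ g₁ = c₂ ≫ g₂) (s : S) (hac : ∀ y, g₁ y = s → AcycAt c₁ g₁ y)
    (hconst : ∀ y, g₁ y = s → ∃ z : Y₂, ∀ x, c₁ x = y → c₂ x = z) :
    ∃ U₁ : S.Opens, s ∈ U₁ ∧ ∀ U : S.Opens, U ≤ U₁ →
      (∀ (Z : Scheme.{u}) (u v : ((g₁ ⁻¹ᵁ U : Y₁.Opens) : Scheme.{u}) ⟶ Z),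
        (∀ (T : Scheme.{u}) (a : T ⟶ X) (a₁ : T ⟶ ((g₁ ⁻¹ᵁ U : Y₁.Opens) : Scheme.{u})),
          a ≫ c₁ = a₁ ≫ (g₁ ⁻¹ᵁ U).ι → a₁ ≫ u = a₁ ≫ v) → u = v) ∧
      ∃ H : ((g₁ ⁻¹ᵁ U : Y₁.Opens) : Scheme.{u}) ⟶ ((g₂ ⁻¹ᵁ U : Y₂.Opens) : Scheme.{u}),
        H ≫ (g₂ ⁻¹ᵁ U).ι ≫ g₂ = (g₁ ⁻¹ᵁ U).ι ≫ g₁ ∧
        ∀ (T : Scheme.{u}) (a : T ⟶ X) (a₁ : T ⟶ ((g₁ ⁻¹ᵁ U : Y₁.Opens) : Scheme.{u}))
          (a₂ : T ⟶ ((g₂ ⁻¹ᵁ U : Y₂.Opens) : Scheme.{u})),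
          a ≫ c₁ = a₁ ≫ (g₁ ⁻¹ᵁ U).ι → a ≫ c₂ = a₂ ≫ (g₂ ⁻¹ᵁ U).ι → a₁ ≫ H = a₂ := by
  have hcl : IsClosedMap c₁ := c₁.isClosedMap
  obtain ⟨U₀, hsU₀, hU₀⟩ := exists_nhd_of_isClosedMap g₁.isClosedMap _
    (isOpen_acycAt c₁ g₁) s hac
  have hP₀ : ∀ V : Y₁.Opens, V ≤ g₁ ⁻¹ᵁ U₀ → IsIso (c₁.app V) := fun V hV =>
    isIso_app_of_acycAt_le (P := g₁ ⁻¹ᵁ U₀) (fun y hy => hU₀ y hy) V hV
  -- the locus where a local factorization exists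
  let L : Set Y₁ := {y | ∃ (V : Y₁.Opens) (_ : y ∈ V) (h : (V : Scheme.{u}) ⟶ Y₂),
      (c₁ ∣_ V) ≫ h = (c₁ ⁻¹ᵁ V).ι ≫ c₂}
  have hL : IsOpen L := by
    rw [isOpen_iff_forall_mem_open]
    rintro y ⟨V, hyV, h, hh⟩
    exact ⟨V, fun z hz => ⟨V, hz, h, hh⟩, V.2, hyV⟩
  have hLs : ∀ y, g₁ y = s → y ∈ L := by
    intro y hy
    obtain ⟨z, hz⟩ := hconst y hy
    obtain ⟨V, hyV, -, h, hh⟩ := exists_factor_local c₁ hcl c₂ (g₁ ⁻¹ᵁ U₀) hP₀ y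
      (by change g₁ y ∈ U₀; rwa [hy]) z hz
    exact ⟨V, hyV, h, hh⟩
  obtain ⟨U₂, hsU₂, hU₂⟩ := exists_nhd_of_isClosedMap g₁.isClosedMap L hL s hLs
  refine ⟨U₀ ⊓ U₂, ⟨hsU₀, hsU₂⟩, fun U hU => ?_⟩
  obtain ⟨-, hepi, h, hh⟩ := exists_factor_on c₁ hcl c₂ (g₁ ⁻¹ᵁ U)
    (fun V hV => hP₀ V (hV.trans fun y hy => (hU hy).1)) (fun y hy => hU₂ y (hU hy).2)
  -- lifting T-points
  have hlift : ∀ (T : Scheme.{u}) (a : T ⟶ X) (a₁ : T ⟶ ((g₁ ⁻¹ᵁ U : Y₁.Opens) : Scheme.{u})),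
      a ≫ c₁ = a₁ ≫ (g₁ ⁻¹ᵁ U).ι → ∃ a' : T ⟶ ((c₁ ⁻¹ᵁ (g₁ ⁻¹ᵁ U) : X.Opens) : Scheme.{u}),
        a' ≫ (c₁ ⁻¹ᵁ (g₁ ⁻¹ᵁ U)).ι = a ∧ a' ≫ (c₁ ∣_ (g₁ ⁻¹ᵁ U)) = a₁ := by
    intro T a a₁ haa
    have sq := (isPullback_morphismRestrict c₁ (g₁ ⁻¹ᵁ U)).flip
    exact ⟨sq.lift a a₁ haa, sq.lift_fst _ _ _, sq.lift_snd _ _ _⟩
  refine ⟨fun Z u v huv => ?_, ?_⟩
  · rw [← cancel_epi (c₁ ∣_ (g₁ ⁻¹ᵁ U))]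
    exact huv _ (c₁ ⁻¹ᵁ (g₁ ⁻¹ᵁ U)).ι (c₁ ∣_ (g₁ ⁻¹ᵁ U)) (morphismRestrict_ι c₁ _).symm
  · have hover : h ≫ g₂ = (g₁ ⁻¹ᵁ U).ι ≫ g₁ := by
      rw [← cancel_epi (c₁ ∣_ (g₁ ⁻¹ᵁ U)), reassoc_of% hh, ← hc, morphismRestrict_ι_assoc]
    have hr : Set.range h ⊆ Set.range (g₂ ⁻¹ᵁ U).ι := by
      rintro _ ⟨y, rfl⟩
      rw [Scheme.Opens.range_ι]
      change g₂ (h y) ∈ U
      rw [← Scheme.Hom.comp_apply, hover, Scheme.Hom.comp_apply]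
      exact y.2
    let H := IsOpenImmersion.lift (g₂ ⁻¹ᵁ U).ι h hr
    have hH : H ≫ (g₂ ⁻¹ᵁ U).ι = h := IsOpenImmersion.lift_fac _ _ _
    refine ⟨H, by rw [reassoc_of% hH, hover], fun T a a₁ a₂ h1 h2 => ?_⟩
    obtain ⟨a', ha', ha₁⟩ := hlift T a a₁ h1
    rw [← cancel_mono (g₂ ⁻¹ᵁ U).ι, Category.assoc, hH, ← ha₁, Category.assoc, hh, ← h2,
      ← Category.assoc, ha']

end K898.ContrIso
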