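import Groth.Agent.CohqA.ContrBij
import Groth.Agent.Flat2G.ContrGlue
import Groth.Agent.Flat2G.FibDimVanish
import Groth.Agent.Flat2C.ContrLocal
import Groth.Agent.CurvesC.UnitCoh

/-!
# Contractions of families of curves: `O`-acyclicity near a fibre, universally

Let `c : X → Y` and `g : Y → S` with `X → S` flat, proper, locally of finite presentation, and suppose that
`c_s : X_s → Y_s` satisfies `O = c_{s,*}O`, `R¹ = 0`, with fibres of dimension `≤ 1`.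

* `AcycAt c g y`: around `y`, the morphism `c` is `O`-acyclic over an affine open which is flat over an affine open
  of `S`.
* `acycAt_of_fibre`: this holds at the points of `Y_s`.
* `acycAt_baseChange`: it is stable under base change in `S`.
* `isIso_app_of_acycAt`, `subsingleton_HHon_of_acycAt`: consequences.
-/

set_option autoImplicit false
universe u

open CategoryTheory CategoryTheory.Limits AlgebraicGeometry Opposite TopologicalSpace

namespace K898.ContrUniv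

open Groth.Agent Groth.Agent.Flat2G Groth.Agent.Flat2G.ContrGlue Groth.Agent.Flat2G.FibreRestrict
open Groth.Agent.CohqA.CechE

variable {X Y S : Scheme.{u}}

/-- Around `y`, `c` is `O`-acyclic over an affine open which is flat over an affine open of `S`. -/
def AcycAt (c : X ⟶ Y) (g : Y ⟶ S) (y : Y) : Prop :=
  ∃ (S₁ : S.Opens) (D : Y.Opens) (e : D ≤ g ⁻¹ᵁ S₁), IsAffineOpen S₁ ∧ IsAffineOpen D ∧ y ∈ D ∧
    IsAcyc (c ∣_ D) ∧ Flat (c ∣_ D ≫ g.resLE S₁ D e) ∧ Flat (g.resLE S₁ D e)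

theorem isOpen_acycAt (c : X ⟶ Y) (g : Y ⟶ S) : IsOpen {y : Y | AcycAt c g y} := by
  rw [isOpen_iff_forall_mem_open]
  rintro y ⟨S₁, D, e, h1, h2, h3, h4, h5, h6⟩
  exact ⟨D, fun z hz => ⟨S₁, D, e, h1, h2, hz, h4, h5, h6⟩, D.2, h3⟩

theorem acycAt_of_fibre (f : X ⟶ Y) (g : Y ⟶ S) [IsProper f]
    [LocallyOfFinitePresentation g] [LocallyOfFinitePresentation (f ≫ g)] [Flat (f ≫ g)]
    (s : S)
    (hdim : ∀ y' : ↥(g.fiber s), topologicalKrullDim ↑((MoreMor.fiberMap f g s).fiber y') ≤ 1)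
    (hR1 : ∀ U : (g.fiber s).Opens, IsAffineOpen U → Subsingleton (Coh.HHon ((f ≫ g).fiber s)
      (Coh.structureModule ((f ≫ g).fiber s)) (MoreMor.fiberMap f g s ⁻¹ᵁ U) 1))
    (hiso : ∀ U : (g.fiber s).Opens, IsIso ((MoreMor.fiberMap f g s).app U))
    (y : Y) (hy : g y = s) : AcycAt f g y := by
  obtain ⟨S₁, Y₁, e, hS₁, hY₁, hs, hyY, hfl, -⟩ := exists_chart f g s (fun x _ => by
    have := (Flat.iff_flat_stalkMap (f ≫ g)).1 inferInstance
    exact this x) y hy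
  have a1 : IsAffine (Y₁ : Scheme.{u}) := hY₁
  have a2 : IsAffine (S₁ : Scheme.{u}) := hS₁
  let g' : (Y₁ : Scheme.{u}) ⟶ (S₁ : Scheme.{u}) := g.resLE S₁ Y₁ e
  let f' : (f ⁻¹ᵁ Y₁ : Scheme.{u}) ⟶ (Y₁ : Scheme.{u}) := f ∣_ Y₁
  have H : IsPullback (f ⁻¹ᵁ Y₁).ι f' f Y₁.ι := (isPullback_morphismRestrict f Y₁).flip
  have w₂ : g' ≫ S₁.ι = Y₁.ι ≫ g := g.resLE_comp_ι e
  have i1 : LocallyOfFinitePresentation g' := inferInstance
  have w : (f' ≫ g') ≫ S₁.ι = (f ⁻¹ᵁ Y₁).ι ≫ f ≫ g := by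
    rw [Category.assoc, w₂, H.w_assoc]
  have i2 : LocallyOfFinitePresentation (f' ≫ g') := by
    have h1 : f' ≫ g' = (f ≫ g).resLE S₁ (f ⁻¹ᵁ Y₁) (fun x hx => e hx) := by
      rw [← cancel_mono S₁.ι, w, Scheme.Hom.resLE_comp_ι]
    rw [h1]
    infer_instance
  have i3 : IsProper f' := MorphismProperty.of_isPullback (P := @IsProper) H ‹_›
  have i4 : Flat (f' ≫ g') := hfl
  obtain ⟨s', rfl⟩ : ∃ s' : (S₁ : Scheme.{u}), S₁.ι s' = s := ⟨⟨s, hs⟩, rfl⟩
  obtain ⟨y', rfl⟩ : ∃ y' : (Y₁ : Scheme.{u}), Y₁.ι y' = y := ⟨⟨y, hyY⟩, rfl⟩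
  have hy' : g' y' = s' := by
    apply S₁.ι.isOpenEmbedding.injective
    rw [← Scheme.Hom.comp_apply, w₂, Scheme.Hom.comp_apply, hy]
  have i5 : LocallyOfFiniteType f := inferInstance
  obtain ⟨hH1, U, hU, a, b, ha, hb, hab⟩ := fiber_facts f g f' g' (f ⁻¹ᵁ Y₁).ι Y₁.ι S₁.ι H w₂ s' hR1
  have hbij : Function.Bijective ((MoreMor.fiberMap f' g' s').app ⊤) := by
    have h1 := hiso U
    have h2 := (ConcreteCategory.isIso_iff_bijective _).1 h1
    have h3 := (ConcreteCategory.isIso_iff_bijective _).1 ha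
    have h4 := (ConcreteCategory.isIso_iff_bijective _).1 hb
    have h5 : ∀ x, (MoreMor.fiberMap f' g' s').app ⊤ (a x) =
        b ((MoreMor.fiberMap f g (S₁.ι s')).app U x) := fun x =>
      (ConcreteCategory.congr_hom hab x).symm
    have h6 : (fun x => (MoreMor.fiberMap f' g' s').app ⊤ x) ∘ a =
      b ∘ (MoreMor.fiberMap f g (S₁.ι s')).app U := funext h5
    exact (Function.Bijective.of_comp_iff _ h3).1 (h6 ▸ h4.comp h2)
  have hYs : IsAffine (g'.fiber s') := by unfold Scheme.Hom.fiber; infer_instance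
  have i6 : IsProper (MoreMor.fiberMap f' g' s') :=
    MorphismProperty.of_isPullback (P := @IsProper) (isPullback_fiberMap f' g' s') ‹_›
  have hdim' : ∀ z : ↥(g'.fiber s'), topologicalKrullDim ↥((MoreMor.fiberMap f' g' s').fiber z) ≤ (1 : ℕ) := by
    intro z
    rw [ProperDim.topologicalKrullDim_fiber_baseChange f' _ _ _ (isPullback_fiberMap f' g' s') z]
    refine dim_restrict f g f' g' (f ⁻¹ᵁ Y₁).ι Y₁.ι S₁.ι H w₂ s' hdim _ ?_
    rw [← Scheme.Hom.comp_apply, Scheme.Hom.fiber_fac, Scheme.Hom.comp_apply,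
      Scheme.fromSpecResidueField_apply]
  have hvan : ∀ n, Subsingleton (Coh.HH ((f' ≫ g').fiber s')
      (Coh.structureModule ((f' ≫ g').fiber s')) (n + 1)) := by
    intro n
    rcases Nat.eq_zero_or_pos n with rfl | hn
    · exact hH1
    · exact FibDimVanish.subsingleton_HH (MoreMor.fiberMap f' g' s') 1 hdim' _
        (CurvesC.UnitCoh.isQCoh_unit _) (n + 1) (by lia)
  subst hy'
  obtain ⟨c, hc, hac, hflc⟩ := CohqA.ContrBij.concl_acyc f' g' y' ⟨hbij, hvan⟩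
  let D : Y.Opens := Y₁.ι ''ᵁ (Y₁ : Scheme.{u}).basicOpen c
  have hD : IsAffineOpen D :=
    ((isAffineOpen_top (Y₁ : Scheme.{u})).basicOpen c).image_of_isOpenImmersion Y₁.ι
  have hDY : D ≤ Y₁ := by
    rintro _ ⟨z, -, rfl⟩
    exact z.2
  have eD : D ≤ g ⁻¹ᵁ S₁ := hDY.trans e
  -- comparison of the two descriptions of the restriction
  let B : (Y₁ : Scheme.{u}).Opens := (Y₁ : Scheme.{u}).basicOpen c
  have hB : IsAffine (B : Scheme.{u}) := (isAffineOpen_top (Y₁ : Scheme.{u})).basicOpen c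
  have hDa : IsAffine (D : Scheme.{u}) := hD
  let eDB : (D : Scheme.{u}) ≅ (B : Scheme.{u}) := (Y₁.ι.isoImage B).symm
  have heDB : eDB.hom ≫ B.ι ≫ Y₁.ι = D.ι := Y₁.ι.isoImage_inv_ι B
  have sqB := (isPullback_morphismRestrict f' B).flip.paste_horiz H
  have sqD := (isPullback_morphismRestrict f D).flip
  have wD : (f ⁻¹ᵁ D).ι ≫ f = ((f ∣_ D) ≫ eDB.hom) ≫ B.ι ≫ Y₁.ι := by
    rw [Category.assoc, heDB, morphismRestrict_ι]
  have sq1 : IsPullback (sqB.lift _ _ wD) (f ∣_ D) (f' ∣_ B) eDB.hom := by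
    refine IsPullback.of_right ?_ (sqB.lift_snd _ _ wD) sqB
    rw [sqB.lift_fst, heDB]
    exact sqD
  have sq2 : IsPullback eDB.hom (g.resLE S₁ D eD) (B.ι ≫ g') (𝟙 _) := by
    refine IsPullback.of_horiz_isIso ⟨?_⟩
    rw [Category.comp_id, ← cancel_mono S₁.ι, Category.assoc, Category.assoc, w₂,
      Scheme.Hom.resLE_comp_ι, ← heDB, Category.assoc, Category.assoc]
  have hfl1 : Flat ((f' ∣_ B) ≫ B.ι ≫ g') := by
    rw [← Category.assoc, morphismRestrict_ι, Category.assoc]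
    infer_instance
  have hDac : IsAcyc (f ∣_ D) := IsAcyc.baseChange_of_flat sq1 sq2 hac
  have hfl2 : Flat (g.resLE S₁ D eD) := MorphismProperty.of_isPullback sq2 hflc
  refine ⟨S₁, D, eD, hS₁, hD, ⟨y', hc, rfl⟩, hDac, ?_, hfl2⟩
  exact MorphismProperty.of_isPullback (sq1.paste_vert sq2) hfl1

/-- Stability under base change in `S`. -/
theorem acycAt_baseChange {c : X ⟶ Y} {g : Y ⟶ S} [IsProper c] {S' X' Y' : Scheme.{u}} {b : S' ⟶ S}
    {g' : Y' ⟶ S'} {c' : X' ⟶ Y'} {pY : Y' ⟶ Y} {pX : X' ⟶ X} (hY : IsPullback pY g' g b)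
    (hX : IsPullback pX c' c pY) (y' : Y') (h : AcycAt c g (pY y')) : AcycAt c' g' y' := by
  obtain ⟨S₁, D, e, hS₁, hD, hyD, hac, hfl1, hfl2⟩ := h
  have hs' : g' y' ∈ b ⁻¹ᵁ S₁ := by
    change b (g' y') ∈ S₁
    rw [← Scheme.Hom.comp_apply, ← hY.w, Scheme.Hom.comp_apply]
    exact e hyD
  obtain ⟨S'₁, hS'₁, hs'1, hle⟩ := exists_isAffineOpen_mem_and_subset (X := S') (x := g' y')
    (U := b ⁻¹ᵁ S₁) hs'
  have hle' : S'₁ ≤ b ⁻¹ᵁ S₁ := hle
  let D' : Y'.Opens := pY ⁻¹ᵁ D ⊓ g' ⁻¹ᵁ S'₁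
  have a1 : IsAffine (S₁ : Scheme.{u}) := hS₁
  have a2 : IsAffine (S'₁ : Scheme.{u}) := hS'₁
  have a3 : IsAffine (D : Scheme.{u}) := hD
  have sq2 : IsPullback (pY.resLE D D' inf_le_left) (g'.resLE S'₁ D' inf_le_right)
      (g.resLE S₁ D e) (b.resLE S₁ S'₁ hle') :=
    Scheme.Hom.isPullback_resLE hY hle' e rfl
  have a4 : IsAffine (D' : Scheme.{u}) := isAffine_of_sq sq2
  have sqB := (isPullback_morphismRestrict c D).flip
  have sqD := (isPullback_morphismRestrict c' D').flip.paste_horiz hX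
  have wD : ((c' ⁻¹ᵁ D').ι ≫ pX) ≫ c = ((c' ∣_ D') ≫ pY.resLE D D' inf_le_left) ≫ D.ι := by
    rw [Category.assoc (c' ∣_ D'), Scheme.Hom.resLE_comp_ι]
    exact sqD.w
  have sq1 : IsPullback (sqB.lift _ _ wD) (c' ∣_ D') (c ∣_ D) (pY.resLE D D' inf_le_left) := by
    refine IsPullback.of_right ?_ (sqB.lift_snd _ _ wD) sqB
    rw [sqB.lift_fst, Scheme.Hom.resLE_comp_ι]
    exact sqD
  refine ⟨S'₁, D', inf_le_right, hS'₁, a4, ⟨hyD, hs'1⟩, IsAcyc.baseChange_of_flat sq1 sq2 hac,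
    ?_, ?_⟩
  · exact MorphismProperty.of_isPullback (sq1.paste_vert sq2) hfl1
  · exact MorphismProperty.of_isPullback sq2 hfl2

theorem isIso_app_of_acycAt {c : X ⟶ Y} {g : Y ⟶ S} [QuasiCompact c] [QuasiSeparated c]
    (h : ∀ y, AcycAt c g y) (W : Y.Opens) : IsIso (c.app W) := by
  refine Flat2C.ContrLocal.isIso_app_of_forall (V := ⊤) (fun U _ hU => ?_) W le_top
  refine Flat2C.ContrLocal.bijective_app_of_forall hU fun y _ => ?_
  obtain ⟨S₁, D, e, hS₁, hD, hyD, hac, hfl1, hfl2⟩ := h y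
  exact ⟨D, hD, hyD, (CohqA.ContrBij.bijective_restrict_iff c _).1 hac.bij⟩

theorem subsingleton_HHon_of_acycAt {c : X ⟶ Y} {g : Y ⟶ S} [IsProper c]
    (h : ∀ y, AcycAt c g y) (W : Y.Opens) (hW : IsAffineOpen W) (n : ℕ) :
    Subsingleton (Coh.HHon X (Coh.structureModule X) (c ⁻¹ᵁ W) (n + 1)) := by
  have hq : Coh.IsQCoh (Coh.structureModule X) := CurvesC.UnitCoh.isQCoh_unit X
  refine Flat2C.CechLocal.subsingleton_HHon_preimage_of_forall (Coh.structureModule X) c hW n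
    fun y _ => ?_
  obtain ⟨S₁, D, e, hS₁, hD, hyD, hac, hfl1, hfl2⟩ := h y
  refine ⟨D, hD, hyD, ?_⟩
  exact (Groth.Agent.Flat2G.StructHH.HHon_iff (c ⁻¹ᵁ D).ι _ (by simp) (n + 1)).2
    (hac.van n)

/-- If every point of `g⁻¹(s)` lies in an open set `P`, then `P` contains `g⁻¹(U)` for an open
neighbourhood `U` of `s`, for `g` closed. -/
theorem exists_nhd_of_isClosedMap {g : Y ⟶ S} (hg : IsClosedMap g) (P : Set Y) (hP : IsOpen P)
    (s : S) (h : ∀ y, g y = s → y ∈ P) : ∃ U : S.Opens, s ∈ U ∧ ∀ y, g y ∈ U → y ∈ P := by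
  refine ⟨⟨(g '' Pᶜ)ᶜ, (hg _ hP.isClosed_compl).isOpen_compl⟩, ?_, ?_⟩
  · rintro ⟨y, hy, hys⟩
    exact hy (h y hys)
  · intro y hy
    by_contra hcon
    exact hy ⟨y, hcon, rfl⟩

end K898.ContrUniv
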