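import Groth.Agent.CurvSt.K898.Unr

/-!
# `Mgn S g 0` and `Mbar S g 0` are DM over `S` for `g ≥ 2`, once they are algebraic stacks

* `noDer_smooth` : no derivations on smooth curves of genus at least two (S1613).
* `isDMOver_mgn`, `isDMOver_mbar`.  The vanishing of derivations of stable curves (S6571) is a hypothesis `StableNoDer`.
-/

set_option autoImplicit false
set_option backward.isDefEq.respectTransparency false
set_option backward.isDefEq.respectTransparency.types false
universe u
open CategoryTheory CategoryTheory.Limits AlgebraicGeometry Opposite CurvSt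

namespace K898.DMness

open Groth.Agent

theorem noDer_smooth {k : Type u} [Field k] [IsAlgClosed k] {X : Scheme.{u}} (q : X ⟶ Spec (CommRingCat.of k))
    (h : Curve.IsSmoothProperCurve k X q) (hg : 2 ≤ @Curv2.genus k _ X ⟨q⟩) : K680.AutGeo.NoDer (k := k) q := by
  have hp : IsProper q := h.1
  refine (K680.AutRig.noDer_iff (x := q)).2 ⟨fun α β => ?_⟩
  letI : X.Over (Spec (CommRingCat.of k)) := ⟨q⟩
  have h1 := Groth.Agent.S1613.result k X h hg
  exact (h1 α).trans (h1 β).symm

/-- The statement of S6571, for curves without marked points in the form of `IsStablePtd`. -/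
def StableNoDer : Prop :=
  ∀ (k : Type u) [Field k] (X : Scheme.{u}) [X.Over (Spec (CommRingCat.of k))] [IsAlgClosed k]
    [IsProper (X ↘ (Spec (CommRingCat.of k)))] [ConnectedSpace X] (_ : topologicalKrullDim X = 1)
    (_ : Curv2.AtWorstNodal k X) (_ : 2 ≤ Curv2.genus k X)
    (_ : ∀ (C : Set X) (hC : C ∈ irreducibleComponents (X : Type u)), ¬ Curv2.IsRationalTail X C hC)
    (_ : ∀ (C : Set X) (hC : C ∈ irreducibleComponents (X : Type u)), ¬ Curv2.IsRationalBridge k X C hC)
    (D : OmegaSh.Der (X ↘ (Spec (CommRingCat.of k))) (Coh.structureModule X)) (U : X.Opens) (s : Γ(X, U)),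
    D.app U s = 0

theorem noDer_stable (H : StableNoDer.{u}) {k : Type u} [Field k] [IsAlgClosed k] {X : Scheme.{u}}
    (q : X ⟶ Spec (CommRingCat.of k)) (g : ℕ) (x : Fin 0 → X) (h : IsStablePtd k X q g x) :
    K680.AutGeo.NoDer (k := k) q := by
  have hx : x = Fin.elim0 := Subsingleton.elim _ _
  subst hx
  letI : X.Over (Spec (CommRingCat.of k)) := ⟨q⟩
  have h1 : IsProper (X ↘ Spec (CommRingCat.of k)) := h.1
  have h2 : ConnectedSpace X := h.2.1
  obtain ⟨h3, h4, h5, h6⟩ := (Groth.Agent.S16731.result k X h.2.2.1 h.2.2.2.1.1 g).1 h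
  intro D U s
  exact H k X h.2.2.1 h.2.2.2.1.1 (h3 ▸ h4) h5 h6 D U s

theorem isDMOver_mgn (S : Scheme.{u}) {g : ℕ} (hg : 2 ≤ g)
    (h : AlgSt.IsAlgStack Scheme.fppfPrecoverage (Mgn S g 0)) : AlgSt.IsDMOver (Mgn S g 0) := by
  refine Unr.isDMOver_fullSub h (fun B hB => ?_) ?_
  · have := hB.1.1
    infer_instance
  · intro B hB Ω _ _ t Y j y hY
    obtain ⟨h1, h2, h3, h4⟩ := hB.1
    obtain ⟨h5, h6⟩ := h4 Ω t Y j y hY
    have hq : Smooth y := MorphismProperty.of_isPullback hY h1
    have hp : IsProper y := MorphismProperty.of_isPullback hY h2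
    have hirr : IrreducibleSpace Y :=
      GeometricallyIrreducible.geometrically_irreducibleSpace (f := B.f) _ _ _ hY
    have h7 := StabFam.geoGenus_of_isCurveOfGenus hB.1 Ω t Y j y hY
    have hred : IsReduced Y := StabFam.isReduced y h7.2.2.1
    refine noDer_smooth y ⟨hp, hq, isIntegral_of_irreducibleSpace_of_isReduced Y, h5⟩ ?_
    rw [h6]
    exact hg

theorem isDMOver_mbar (H : StableNoDer.{u}) (S : Scheme.{u}) {g : ℕ}
    (h : AlgSt.IsAlgStack Scheme.fppfPrecoverage (Mbar S g 0)) : AlgSt.IsDMOver (Mbar S g 0) := by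
  refine Unr.isDMOver_fullSub h (fun B hB => hB.1) ?_
  intro B hB Ω _ _ t Y j y hY
  exact noDer_stable H y g _ (hB.2.2.2 Ω t Y j y hY)

end K898.DMness
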