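import Groth.Agent.CurvSt.K898.FamH0
import Groth.Agent.CurvesB.NodalAsm
import Groth.Agent.CurvesB.NodalHOne
import Groth.Agent.Ega3B.RpushAff
import Groth.Agent.S0458
import Groth.Agent.Flat2G.ProperDim

/-!
# `R¹f_* O_X` of a family of curves with `h⁰ = 1` on the fibres is finite locally free
-/

set_option autoImplicit false
universe u

open CategoryTheory CategoryTheory.Limits AlgebraicGeometry Opposite TopologicalSpace

namespace K898.FamR1

open Groth.Agent Groth.Agent.CurvesB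

theorem cohomology_field {S X : Scheme.{u}} (f : X ⟶ S) [IsProper f]
    (hdim : ∀ s : S, topologicalKrullDim ↥(f.fiber s) ≤ 1)
    (h0 : ∀ s : S, Models.hRank ↥(S.residueField s) (f.fiber s) (f.fiberToSpecResidueField s)
      (Coh.structureModule (f.fiber s)) 0 = 1)
    (k : Type u) [Field k] (Y : Scheme.{u}) [Y.Over (Spec (CommRingCat.of k))]
    (y : Spec (CommRingCat.of k) ⟶ S) (j : Y ⟶ X)
    (H : IsPullback j (Y ↘ Spec (CommRingCat.of k)) f y) :
    Module.finrank k (Coh.HH Y (Coh.structureModule Y) 0) = 1 ∧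
      ∀ q : ℕ, 2 ≤ q → Subsingleton (Coh.HH Y (Coh.structureModule Y) q) := by
  have hp : IsProper (Y ↘ Spec (CommRingCat.of k)) := MorphismProperty.of_isPullback H inferInstance
  refine ⟨(K898.FamH0.hRank_of_point y H 0).trans (h0 _), fun q hq => ?_⟩
  have h1 : IsLocallyNoetherian Y :=
    LocallyOfFiniteType.isLocallyNoetherian (Y ↘ Spec (CommRingCat.of k))
  have h2 : CompactSpace Y := QuasiCompact.compactSpace_of_compactSpace (Y ↘ Spec (CommRingCat.of k))
  have h3 : IsNoetherian Y := { }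
  have h4 : topologicalKrullDim Y ≤ 1 := by
    rw [Flat2G.ProperDim.topologicalKrullDim_field_point f (Field.toIsField k) _ _ _ H
      (IsLocalRing.closedPoint k)]
    exact hdim _
  exact Groth.Agent.S0458.result 1 h4 (Coh.toAb (Coh.structureModule Y)) q (by omega)

theorem isFinLocFree_R1 {X S : Scheme.{u}} (f : X ⟶ S) [Flat f] [IsProper f]
    [LocallyOfFinitePresentation f] [HasInjectiveResolutions X.Modules]
    (hdim : ∀ s : S, topologicalKrullDim ↥(f.fiber s) ≤ 1)
    (h0 : ∀ s : S, Models.hRank ↥(S.residueField s) (f.fiber s) (f.fiberToSpecResidueField s)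
      (Coh.structureModule (f.fiber s)) 0 = 1) :
    FlatMod.IsFinLocFree ((Coh.Rpush f 1).obj (Coh.structureModule X)) := by
  have hq : Coh.IsQCoh (Coh.structureModule X) := (UnitCoh.isCoh_structureModule X).1
  have hQ : Coh.IsQCoh ((Coh.Rpush f 1).obj (Coh.structureModule X)) :=
    S0030.result f (Coh.structureModule X) 1
  refine NodalRpush.isFinLocFree_of_sections _ hQ fun V hV => ?_
  let iO : (f ⁻¹ᵁ V).toScheme.Over (Spec (CommRingCat.of Γ(S, V))) := ⟨Ega3B.PackageAsm.strMap f hV⟩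
  have hpb0 : IsPullback (f ⁻¹ᵁ V).ι (f ∣_ V) f V.ι := (isPullback_morphismRestrict f V).flip
  have hpb : IsPullback (f ⁻¹ᵁ V).ι ((f ⁻¹ᵁ V).toScheme ↘ Spec (CommRingCat.of Γ(S, V))) f
      (hV.isoSpec.inv ≫ V.ι) := by
    refine IsPullback.of_iso hpb0 (Iso.refl _) (Iso.refl _) hV.isoSpec (Iso.refl _) ?_ ?_ ?_ ?_
    · simp
    · change (f ∣_ V) ≫ hV.isoSpec.hom = 𝟙 _ ≫ ((f ∣_ V) ≫ hV.isoSpec.hom)
      rw [Category.id_comp]
    · simp
    · simp
  have hpr : IsProper ((f ⁻¹ᵁ V).toScheme ↘ Spec (CommRingCat.of Γ(S, V))) :=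
    MorphismProperty.of_isPullback hpb inferInstance
  have hfl : Flat ((f ⁻¹ᵁ V).toScheme ↘ Spec (CommRingCat.of Γ(S, V))) :=
    MorphismProperty.of_isPullback hpb inferInstance
  have hfp : LocallyOfFinitePresentation ((f ⁻¹ᵁ V).toScheme ↘ Spec (CommRingCat.of Γ(S, V))) :=
    MorphismProperty.of_isPullback hpb inferInstance
  have hfib : NodalHOne.FibHyp Γ(S, V) (f ⁻¹ᵁ V).toScheme := by
    intro m _ Y _ j H
    let _ : Field (Γ(S, V) ⧸ m) := Ideal.Quotient.field m
    exact cohomology_field f hdim h0 (Γ(S, V) ⧸ m) Y _ _ (H.paste_horiz hpb)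
  obtain ⟨⟨h1, h2⟩, -⟩ := NodalHOne.of_fibHyp Γ(S, V) (f ⁻¹ᵁ V).toScheme hfib
  obtain ⟨e⟩ := NodalAsm.exists_equiv f hV 1
    (Ega3B.RpushAff.exists_equiv_toGlobal f (Coh.structureModule X) hq hV 1)
  exact ⟨Module.Finite.equiv e.symm, Module.Projective.of_equiv e.symm⟩

end K898.FamR1
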