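import Groth.Agent.CurvesB.HZero
import Groth.Agent.CurvesB.PointSection
import Groth.Prelude.Def_ModelsG
import Mathlib.AlgebraicGeometry.Limits

/-!
# Schemes over a field with only constant global functions

* `connectedSpace_of_finrank`: `h⁰(O_X) = 1` implies `X` connected.
* `isIso_appTop_of_finrank`: `h⁰(O_X) = 1` implies that `k → Γ(X, O_X)` is an isomorphism.
* the same for `Models.hRank`.
-/

set_option autoImplicit false
universe u

open CategoryTheory CategoryTheory.Limits AlgebraicGeometry Opposite TopologicalSpace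
open Groth.Agent.CurvesB

namespace K898.HZeroOne

variable (k : Type u) [Field k] (X : Scheme.{u})

section Over

variable [X.Over (Spec (CommRingCat.of k))]

theorem nonempty_of_finrank (h0 : Module.finrank k (Coh.HH X (Coh.structureModule X) 0) = 1) :
    Nonempty X := by
  by_contra h
  have := HZero.nontrivial_of_h0 k h0
  have hE : IsEmpty X := not_nonempty_iff.mp h
  exact false_of_nontrivial_of_subsingleton Γ(X, ⊤)

theorem connectedSpace_of_finrank
    (h0 : Module.finrank k (Coh.HH X (Coh.structureModule X) 0) = 1) : ConnectedSpace X := by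
  have hconst := HZero.exists_const k h0
  have := nonempty_of_finrank k X h0
  have hpre : PreconnectedSpace X := by
    rw [preconnectedSpace_iff_clopen]
    intro s hs
    by_contra hcon
    push Not at hcon
    obtain ⟨hs1, hs2⟩ := hcon
    obtain ⟨x, hx⟩ := hs1
    obtain ⟨y, hy⟩ := (Set.ne_univ_iff_exists_notMem s).mp hs2
    obtain ⟨r, hr1, hr2⟩ := PointSection.exists_glue (X := X) ⟨s, hs.isOpen⟩ ⟨sᶜ, hs.compl.isOpen⟩ (by
      ext z
      simp) 1 0 (by
      intro z hz1 hz2
      exact absurd hz1 hz2)
    obtain ⟨t, ht⟩ := hconst r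
    have h1 := hr1 x hx
    have h2 := hr2 y hy
    rw [map_one] at h1
    rw [map_zero] at h2
    have ht0 : t ≠ 0 := by
      rintro rfl
      rw [← ht, map_zero, map_zero] at h1
      exact zero_ne_one h1
    exact HZero.germ_gl_ne_zero k t ht0 y (ht ▸ h2)
  exact { toPreconnectedSpace := hpre, toNonempty := inferInstance }

theorem bijective_gl_of_finrank
    (h0 : Module.finrank k (Coh.HH X (Coh.structureModule X) 0) = 1) :
    Function.Bijective (HZero.gl k X) := by
  have := HZero.nontrivial_of_h0 k h0
  exact ⟨(HZero.gl k X).injective, HZero.exists_const k h0⟩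

theorem isIso_appTop_of_finrank
    (h0 : Module.finrank k (Coh.HH X (Coh.structureModule X) 0) = 1) :
    IsIso (X ↘ Spec (CommRingCat.of k)).appTop := by
  have h := bijective_gl_of_finrank k X h0
  have h2 : HZero.gl k X = (X ↘ Spec (CommRingCat.of k)).appTop.hom.comp
      (Scheme.ΓSpecIso (CommRingCat.of k)).inv.hom := rfl
  rw [h2] at h
  have h3 : Function.Bijective (X ↘ Spec (CommRingCat.of k)).appTop.hom := by
    have h4 : Function.Bijective (Scheme.ΓSpecIso (CommRingCat.of k)).inv.hom :=
      ConcreteCategory.bijective_of_isIso (Scheme.ΓSpecIso (CommRingCat.of k)).inv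
    rw [RingHom.coe_comp] at h
    exact (Function.Bijective.of_comp_iff _ h4).mp h
  exact (ConcreteCategory.isIso_iff_bijective (X ↘ Spec (CommRingCat.of k)).appTop).mpr h3

end Over

theorem isIso_appTop_of_hRank (g : X ⟶ Spec (CommRingCat.of k))
    (h0 : Models.hRank k X g (Coh.structureModule X) 0 = 1) : IsIso g.appTop := by
  let _ : X.Over (Spec (CommRingCat.of k)) := ⟨g⟩
  exact isIso_appTop_of_finrank k X h0

theorem connectedSpace_of_hRank (g : X ⟶ Spec (CommRingCat.of k))
    (h0 : Models.hRank k X g (Coh.structureModule X) 0 = 1) : ConnectedSpace X := by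
  let _ : X.Over (Spec (CommRingCat.of k)) := ⟨g⟩
  exact connectedSpace_of_finrank k X h0

theorem hRank_of_isIso_appTop (g : X ⟶ Spec (CommRingCat.of k)) (h : IsIso g.appTop) :
    Models.hRank k X g (Coh.structureModule X) 0 = 1 := by
  let _ : X.Over (Spec (CommRingCat.of k)) := ⟨g⟩
  change Module.finrank k (Coh.HH X (Coh.structureModule X) 0) = 1
  let _ := HZero.moduleΓ k (Coh.structureModule X)
  have e := HZero.equivLin k (Coh.structureModule X)
  rw [e.finrank_eq]
  have h1 : Function.Bijective g.appTop.hom := (ConcreteCategory.isIso_iff_bijective g.appTop).mp h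
  have h4 : Function.Bijective (Scheme.ΓSpecIso (CommRingCat.of k)).inv.hom :=
    ConcreteCategory.bijective_of_isIso (Scheme.ΓSpecIso (CommRingCat.of k)).inv
  have hb : Function.Bijective (HZero.gl k X) := h1.comp h4
  let e2 : k ≃ₗ[k] Γ(Coh.structureModule X, ⊤) :=
    LinearEquiv.ofBijective
      { toFun := fun t => (show Γ(Coh.structureModule X, ⊤) from HZero.gl k X t)
        map_add' := fun a b => map_add (HZero.gl k X) a b
        map_smul' := fun a b => map_mul (HZero.gl k X) a b } hb
  rw [← e2.finrank_eq, Module.finrank_self]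

theorem hRank_eq_one_iff (g : X ⟶ Spec (CommRingCat.of k)) :
    Models.hRank k X g (Coh.structureModule X) 0 = 1 ↔ IsIso g.appTop :=
  ⟨isIso_appTop_of_hRank k X g, hRank_of_isIso_appTop k X g⟩

end K898.HZeroOne
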