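import Groth.Agent.CurvSt.K740.EmbBasic
import Groth.Prelude.Def_StCurv

/-!
# Universal isomorphisms of pointed families of schemes

* `UnivI f h σ τ w c ρ a b`: the family `c : C ⟶ W` with the two cartesian squares to `f` and `h` over `w : W ⟶ T` is universal.
* `UnivI.baseChange`: stability under base change.
-/

set_option autoImplicit false
universe u
open CategoryTheory CategoryTheory.Limits AlgebraicGeometry

namespace K898.IsomSch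

variable {n : ℕ} {X Y T W C : Scheme.{u}}

/-- The universal isomorphism between pointed families. -/
structure UnivI (f : X ⟶ T) (h : Y ⟶ T) (σ : Fin n → (T ⟶ X)) (τ : Fin n → (T ⟶ Y)) (w : W ⟶ T) (c : C ⟶ W)
    (ρ : Fin n → (W ⟶ C)) (a : C ⟶ X) (b : C ⟶ Y) : Prop where
  sec : ∀ i, ρ i ≫ c = 𝟙 W
  sqa : IsPullback a c f w
  sqb : IsPullback b c h w
  seca : ∀ i, ρ i ≫ a = w ≫ σ i
  secb : ∀ i, ρ i ≫ b = w ≫ τ i
  exists_hom : ∀ {W' C' : Scheme.{u}} (l : W' ⟶ T) (c' : C' ⟶ W') (ρ' : Fin n → (W' ⟶ C')) (a' : C' ⟶ X) (b' : C' ⟶ Y),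
    (∀ i, ρ' i ≫ c' = 𝟙 W') → IsPullback a' c' f l → IsPullback b' c' h l → (∀ i, ρ' i ≫ a' = l ≫ σ i) →
    (∀ i, ρ' i ≫ b' = l ≫ τ i) → ∃ (r : W' ⟶ W) (v : C' ⟶ C), r ≫ w = l ∧ v ≫ c = c' ≫ r ∧ v ≫ a = a' ∧ v ≫ b = b'
  hom_ext : ∀ {W' C' : Scheme.{u}} (c' : C' ⟶ W') (r r' : W' ⟶ W) (v v' : C' ⟶ C), IsPullback v c' c r →
    IsPullback v' c' c r' → r ≫ w = r' ≫ w → v ≫ a = v' ≫ a → v ≫ b = v' ≫ b → r = r' ∧ v = v'

namespace UnivI

variable {f : X ⟶ T} {h : Y ⟶ T} {σ : Fin n → (T ⟶ X)} {τ : Fin n → (T ⟶ Y)} {w : W ⟶ T} {c : C ⟶ W}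
    {ρ : Fin n → (W ⟶ C)} {a : C ⟶ X} {b : C ⟶ Y}

/-- Base change of a universal isomorphism. -/
theorem baseChange (U : UnivI f h σ τ w c ρ a b) {T' X' Y' : Scheme.{u}} {β : T' ⟶ T}
    {αX : X' ⟶ X} {αY : Y' ⟶ Y} {f' : X' ⟶ T'} {h' : Y' ⟶ T'} (sX : IsPullback αX f' f β) (sY : IsPullback αY h' h β)
    {σ' : Fin n → (T' ⟶ X')} {τ' : Fin n → (T' ⟶ Y')} (hσ'f : ∀ i, σ' i ≫ f' = 𝟙 T') (hτ'h : ∀ i, τ' i ≫ h' = 𝟙 T')
    (hσ' : ∀ i, σ' i ≫ αX = β ≫ σ i) (hτ' : ∀ i, τ' i ≫ αY = β ≫ τ i)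
    {W' : Scheme.{u}} {ω : W' ⟶ W} {w' : W' ⟶ T'} (sW : IsPullback ω w' w β) :
    ∃ (C' : Scheme.{u}) (c' : C' ⟶ W') (ρ' : Fin n → (W' ⟶ C')) (a' : C' ⟶ X') (b' : C' ⟶ Y'),
      UnivI f' h' σ' τ' w' c' ρ' a' b' := by
  -- the pullback of `C`
  let γ : pullback c ω ⟶ C := pullback.fst c ω
  let c' : pullback c ω ⟶ W' := pullback.snd c ω
  have sC : IsPullback γ c' c ω := IsPullback.of_hasPullback c ω
  let ρ' : Fin n → (W' ⟶ pullback c ω) := fun i => sC.lift (ω ≫ ρ i) (𝟙 _)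
    (by rw [Category.assoc, U.sec, Category.comp_id, Category.id_comp])
  have hργ : ∀ i, ρ' i ≫ γ = ω ≫ ρ i := fun i => sC.lift_fst _ _ _
  have hρc : ∀ i, ρ' i ≫ c' = 𝟙 _ := fun i => sC.lift_snd _ _ _
  let a' : pullback c ω ⟶ X' := sX.lift (γ ≫ a) (c' ≫ w')
    (by rw [Category.assoc, U.sqa.w, reassoc_of% sC.w, sW.w, Category.assoc])
  let b' : pullback c ω ⟶ Y' := sY.lift (γ ≫ b) (c' ≫ w')
    (by rw [Category.assoc, U.sqb.w, reassoc_of% sC.w, sW.w, Category.assoc])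
  have ha1 : a' ≫ αX = γ ≫ a := sX.lift_fst _ _ _
  have ha2 : a' ≫ f' = c' ≫ w' := sX.lift_snd _ _ _
  have hb1 : b' ≫ αY = γ ≫ b := sY.lift_fst _ _ _
  have hb2 : b' ≫ h' = c' ≫ w' := sY.lift_snd _ _ _
  refine ⟨pullback c ω, c', ρ', a', b', hρc, ?_, ?_, ?_, ?_, ?_, ?_⟩
  · refine IsPullback.of_right (h₁₂ := αX) (v₁₃ := f) (h₂₂ := β) ?_ ha2 sX
    rw [ha1, ← sW.w]
    exact sC.paste_horiz U.sqa
  · refine IsPullback.of_right (h₁₂ := αY) (v₁₃ := h) (h₂₂ := β) ?_ hb2 sY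
    rw [hb1, ← sW.w]
    exact sC.paste_horiz U.sqb
  · intro i
    apply sX.hom_ext
    · rw [Category.assoc, ha1, reassoc_of% (hργ i), U.seca, Category.assoc, hσ', ← reassoc_of% sW.w]
    · rw [Category.assoc, ha2, reassoc_of% (hρc i), Category.assoc, hσ'f, Category.comp_id]
  · intro i
    apply sY.hom_ext
    · rw [Category.assoc, hb1, reassoc_of% (hργ i), U.secb, Category.assoc, hτ', ← reassoc_of% sW.w]
    · rw [Category.assoc, hb2, reassoc_of% (hρc i), Category.assoc, hτ'h, Category.comp_id]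
  · intro W'' C'' l c'' ρ'' a'' b'' h1 h2 h3 h4 h5
    obtain ⟨r, v, k1, k2, k3, k4⟩ := U.exists_hom (l ≫ β) c'' ρ'' (a'' ≫ αX) (b'' ≫ αY) h1 (h2.paste_horiz sX)
      (h3.paste_horiz sY) (fun i => by rw [reassoc_of% (h4 i), hσ', Category.assoc])
      (fun i => by rw [reassoc_of% (h5 i), hτ', Category.assoc])
    let r' : W'' ⟶ W' := sW.lift r l k1
    have hr1 : r' ≫ ω = r := sW.lift_fst _ _ _
    have hr2 : r' ≫ w' = l := sW.lift_snd _ _ _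
    let v' : C'' ⟶ pullback c ω := sC.lift v (c'' ≫ r') (by rw [k2, Category.assoc, hr1])
    have hv1 : v' ≫ γ = v := sC.lift_fst _ _ _
    have hv2 : v' ≫ c' = c'' ≫ r' := sC.lift_snd _ _ _
    refine ⟨r', v', hr2, hv2, ?_, ?_⟩
    · apply sX.hom_ext
      · rw [Category.assoc, ha1, reassoc_of% hv1, k3]
      · rw [Category.assoc, ha2, reassoc_of% hv2, hr2, h2.w]
    · apply sY.hom_ext
      · rw [Category.assoc, hb1, reassoc_of% hv1, k4]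
      · rw [Category.assoc, hb2, reassoc_of% hv2, hr2, h3.w]
  · intro W'' C'' c'' r r' v v' p1 p2 e1 e2 e3
    have q1 := p1.paste_horiz sC
    have q2 := p2.paste_horiz sC
    obtain ⟨m1, m2⟩ := U.hom_ext c'' (r ≫ ω) (r' ≫ ω) (v ≫ γ) (v' ≫ γ) q1 q2
      (by rw [Category.assoc, Category.assoc, sW.w, reassoc_of% e1])
      (by rw [Category.assoc, Category.assoc, ← ha1, reassoc_of% e2])
      (by rw [Category.assoc, Category.assoc, ← hb1, reassoc_of% e3])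
    have hr : r = r' := sW.hom_ext m1 e1
    refine ⟨hr, ?_⟩
    apply sC.hom_ext m2
    rw [p1.w, p2.w, hr]

end UnivI

end K898.IsomSch
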