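import Groth.Agent.CurvSt.K898.RepI
import Groth.Agent.CurvSt.K898.IsomSch
import Groth.Agent.CurvSt.K898.QCParam
import Groth.Agent.CurvSt.K903.PtModel
import Groth.Agent.CurvSt.K740.CurvAlgFin

/-!
# Finiteness of the diagonal: reduction to locally Noetherian bases

`P` is a property of pointed families of schemes, `𝓜 P S` the corresponding category over `(Sch/S)`.
* `univ_of_univI`, `univI_of_univ`: comparison of `RepI.Univ` and `IsomSch.UnivI`.
* `main`: if the diagonal of `𝓜 P T` is finite for `T` locally Noetherian, then it is finite for all `S`.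
-/

set_option autoImplicit false
set_option backward.isDefEq.respectTransparency false
set_option backward.isDefEq.respectTransparency.types false

universe u

open CategoryTheory CategoryTheory.Limits AlgebraicGeometry Opposite K734.Fib CurvSt

namespace K898.IsomFin

open K898.RepI K898.IsomSch K898.QCParam K747.Sc

variable {n : ℕ} (P : FamProp.{u} n) (S : Scheme.{u})

/-- The category of pointed families of schemes with `P`. -/
abbrev MM : AlgSt.Cat S := AlgSt.fullSub (PtFam S n) fun A => P A.f A.sect A.sect_f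

/-- Stability under base change. -/
def BC : Prop := ∀ {C T C' T' : Scheme.{u}} {f : C ⟶ T} {σ : Fin n → (T ⟶ C)} {hσ : ∀ i, σ i ≫ f = 𝟙 T} {f' : C' ⟶ T'}
  {σ' : Fin n → (T' ⟶ C')} {hσ' : ∀ i, σ' i ≫ f' = 𝟙 T'} {b : T' ⟶ T} {a : C' ⟶ C}, IsPullback a f' f b →
    (∀ i, σ' i ≫ a = b ≫ σ i) → P f σ hσ → P f' σ' hσ'

variable {P S}

/-- A pointed family over `V`. -/
abbrev fam (V : Over S) {X : Scheme.{u}} (f : X ⟶ V.left) (σ : Fin n → (V.left ⟶ X)) (hσ : ∀ i, σ i ≫ f = 𝟙 _) :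
    PtFamObj S n := ⟨V, X, f, σ, hσ⟩

/-- The object of `MM P S`. -/
abbrev ob (A : PtFamObj S n) (hA : P A.f A.sect A.sect_f) : (MM P S).obj := ⟨A, hA⟩

/-- A morphism of pointed families. -/
abbrev hm {A B : PtFamObj S n} (b : A.base ⟶ B.base) (t : A.C ⟶ B.C) (h : IsPullback t A.f B.f b.left)
    (hs : ∀ i, A.sect i ≫ t = b.left ≫ B.sect i) : A ⟶ B :=
  { base := b, top := t, cart := h, w_sect := hs }

theorem lift_iff {A B : (MM P S).obj} (m : A ⟶ B) (g : A.obj.base ⟶ B.obj.base) :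
    (MM P S).p.IsHomLift g m ↔ m.hom.base = g :=
  K734.Fib.isHomLift_iff_map_eq (𝒳 := MM P S) (a := A) (b := B) g m

section Compare

variable {V : Over S} {X Y : Scheme.{u}} {f : X ⟶ V.left} {h : Y ⟶ V.left} {σ : Fin n → (V.left ⟶ X)}
  {τ : Fin n → (V.left ⟶ Y)} {hσ : ∀ i, σ i ≫ f = 𝟙 _} {hτ : ∀ i, τ i ≫ h = 𝟙 _}

theorem univ_of_univI (hBC : BC P) (hA : P f σ hσ) (hB : P h τ hτ) {W C : Scheme.{u}} {w : W ⟶ V.left} {c : C ⟶ W}
    {ρ : Fin n → (W ⟶ C)} {a : C ⟶ X} {b : C ⟶ Y} (U : UnivI f h σ τ w c ρ a b) (hw : IsFinite w) :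
    ∃ (W₁ : Over S) (w₁ : W₁ ⟶ V) (R : (MM P S).obj) (a₁ : R ⟶ ob (fam V f σ hσ) hA)
      (b₁ : R ⟶ ob (fam V h τ hτ) hB), IsFinite w₁.left ∧ RepI.Univ w₁ a₁ b₁ := by
  let W₁ : Over S := Over.mk (w ≫ V.hom)
  let w₁ : W₁ ⟶ V := Over.homMk w rfl
  let R₀ : PtFamObj S n := fam W₁ c ρ U.sec
  have hR : P R₀.f R₀.sect R₀.sect_f := hBC (f := f) (hσ := hσ) (f' := c) (hσ' := U.sec) U.sqa U.seca hA
  let a₀ : R₀ ⟶ fam V f σ hσ := hm w₁ a U.sqa U.seca
  let b₀ : R₀ ⟶ fam V h τ hτ := hm w₁ b U.sqb U.secb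
  refine ⟨W₁, w₁, ob R₀ hR, ObjectProperty.homMk a₀, ObjectProperty.homMk b₀, hw, ?_, ?_, ?_, ?_⟩
  · exact (lift_iff _ _).2 rfl
  · exact (lift_iff _ _).2 rfl
  · rintro W' l ⟨⟨bW, C', c', ρ', hρ'⟩, hR'⟩ a' b' ha' hb'
    obtain rfl : bW = W' := IsHomLift.domain_eq (MM P S).p l a'
    have e1 : a'.hom.base = l := (lift_iff _ _).1 ha'
    have e2 : b'.hom.base = l := (lift_iff _ _).1 hb'
    have q1 : IsPullback a'.hom.top c' f l.left := by rw [← e1]; exact a'.hom.cart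
    have q2 : IsPullback b'.hom.top c' h l.left := by rw [← e2]; exact b'.hom.cart
    have s1 : ∀ i, ρ' i ≫ a'.hom.top = l.left ≫ σ i := by rw [← e1]; exact a'.hom.w_sect
    have s2 : ∀ i, ρ' i ≫ b'.hom.top = l.left ≫ τ i := by rw [← e2]; exact b'.hom.w_sect
    obtain ⟨r, v, k1, k2, k3, k4⟩ := U.exists_hom l.left c' ρ' a'.hom.top b'.hom.top hρ' q1 q2 s1 s2
    have hv : IsPullback v c' c r := by
      refine IsPullback.of_right (h₁₂ := a) (v₁₃ := f) (h₂₂ := w) ?_ k2 U.sqa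
      rw [k3, k1]
      exact q1
    have hs : ∀ i, ρ' i ≫ v = r ≫ ρ i := fun i => by
      apply U.sqa.hom_ext
      · rw [Category.assoc, k3, s1, Category.assoc, U.seca, reassoc_of% k1]
      · rw [Category.assoc, k2, reassoc_of% (hρ' i), Category.assoc, U.sec, Category.comp_id]
    have k1' : r ≫ w ≫ V.hom = bW.hom := by
      rw [← Category.assoc, k1]
      exact Over.w l
    let v₀ : (⟨bW, C', c', ρ', hρ'⟩ : PtFamObj S n) ⟶ R₀ := hm (Over.homMk r k1') v hv hs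
    refine ⟨ObjectProperty.homMk v₀, ?_, ?_⟩
    · apply ObjectProperty.hom_ext
      refine PtFamObj.hom_ext (Over.OverMorphism.ext ?_) k3
      rw [e1]
      exact k1
    · apply ObjectProperty.hom_ext
      refine PtFamObj.hom_ext (Over.OverMorphism.ext ?_) k4
      rw [e2]
      exact k1
  · rintro ⟨⟨bW, C', c', ρ', hρ'⟩, hR'⟩ v v' h1 h2
    have i1 : v.hom ≫ a₀ = v'.hom ≫ a₀ := congrArg (fun k => k.hom) h1
    have i2 : v.hom ≫ b₀ = v'.hom ≫ b₀ := congrArg (fun k => k.hom) h2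
    have j1 : v.hom.base.left ≫ w = v'.hom.base.left ≫ w := congrArg (fun k => k.base.left) i1
    have j2 : v.hom.top ≫ a = v'.hom.top ≫ a := congrArg (fun k => k.top) i1
    have j3 : v.hom.top ≫ b = v'.hom.top ≫ b := congrArg (fun k => k.top) i2
    obtain ⟨m1, m2⟩ := U.hom_ext c' _ _ _ _ v.hom.cart v'.hom.cart j1 j2 j3
    apply ObjectProperty.hom_ext
    exact PtFamObj.hom_ext (Over.OverMorphism.ext m1) m2

end Compare

section Conv

variable {T : Scheme.{u}} {X Y : Scheme.{u}} {f : X ⟶ T} {h : Y ⟶ T} {σ : Fin n → (T ⟶ X)}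
  {τ : Fin n → (T ⟶ Y)} {hσ : ∀ i, σ i ≫ f = 𝟙 _} {hτ : ∀ i, τ i ≫ h = 𝟙 _}

theorem univI_of_univ (hBC : BC P) (hA : P f σ hσ) (hB : P h τ hτ) {W : Over T} {w : W ⟶ Over.mk (𝟙 T)}
    {R : (MM P T).obj} {a₁ : R ⟶ ob (fam (Over.mk (𝟙 T)) f σ hσ) hA} {b₁ : R ⟶ ob (fam (Over.mk (𝟙 T)) h τ hτ) hB}
    (U : RepI.Univ w a₁ b₁) :
    ∃ (C : Scheme.{u}) (c : C ⟶ W.left) (ρ : Fin n → (W.left ⟶ C)) (a : C ⟶ X) (b : C ⟶ Y),
      UnivI f h σ τ w.left c ρ a b := by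
  obtain ⟨⟨bR, C, c, ρ, hρ⟩, hR⟩ := R
  have l1 := U.lift_a
  obtain rfl : bR = W := IsHomLift.domain_eq (MM P T).p w a₁
  have e1 : a₁.hom.base = w := (lift_iff _ _).1 U.lift_a
  have e2 : b₁.hom.base = w := (lift_iff _ _).1 U.lift_b
  have q1 : IsPullback a₁.hom.top c f w.left := by rw [← e1]; exact a₁.hom.cart
  have q2 : IsPullback b₁.hom.top c h w.left := by rw [← e2]; exact b₁.hom.cart
  have s1 : ∀ i, ρ i ≫ a₁.hom.top = w.left ≫ σ i := by rw [← e1]; exact a₁.hom.w_sect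
  have s2 : ∀ i, ρ i ≫ b₁.hom.top = w.left ≫ τ i := by rw [← e2]; exact b₁.hom.w_sect
  have hw : w.left = bR.hom := (Category.comp_id _).symm.trans (Over.w w)
  refine ⟨C, c, ρ, a₁.hom.top, b₁.hom.top, hρ, q1, q2, s1, s2, ?_, ?_⟩
  · intro W' C' l c' ρ' a' b' h1 h2 h3 h4 h5
    let V' : Over T := Over.mk l
    let R' : PtFamObj T n := fam V' c' ρ' h1
    have hR' : P R'.f R'.sect R'.sect_f := hBC (f := f) (hσ := hσ) (f' := c') (hσ' := h1) h2 h4 hA
    let l' : V' ⟶ Over.mk (𝟙 T) := Over.homMk l (Category.comp_id _)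
    let a₂ : R' ⟶ fam (Over.mk (𝟙 T)) f σ hσ := hm l' a' h2 h4
    let b₂ : R' ⟶ fam (Over.mk (𝟙 T)) h τ hτ := hm l' b' h3 h5
    obtain ⟨v, k1, k2⟩ := U.exists_hom V' l' (ob R' hR') (ObjectProperty.homMk a₂) (ObjectProperty.homMk b₂)
      ((lift_iff _ _).2 rfl) ((lift_iff _ _).2 rfl)
    have i1 : v.hom ≫ a₁.hom = a₂ := congrArg (fun k => k.hom) k1
    have i2 : v.hom ≫ b₁.hom = b₂ := congrArg (fun k => k.hom) k2
    refine ⟨v.hom.base.left, v.hom.top, ?_, v.hom.cart.w, congrArg (fun k => k.top) i1, congrArg (fun k => k.top) i2⟩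
    have i3 : v.hom.base.left ≫ a₁.hom.base.left = l := congrArg (fun k => k.base.left) i1
    rwa [e1] at i3
  · intro W' C' c' r r' v v' p1 p2 j1 j2 j3
    let V' : Over T := Over.mk (r ≫ w.left)
    let ρ' : Fin n → (W' ⟶ C') := fun i => p1.lift (r ≫ ρ i) (𝟙 _)
      (by rw [Category.assoc, hρ, Category.comp_id, Category.id_comp])
    have r1 : ∀ i, ρ' i ≫ v = r ≫ ρ i := fun i => p1.lift_fst _ _ _
    have r2 : ∀ i, ρ' i ≫ c' = 𝟙 _ := fun i => p1.lift_snd _ _ _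
    have r3 : ∀ i, ρ' i ≫ v' = r' ≫ ρ i := fun i => by
      apply q1.hom_ext
      · rw [Category.assoc, Category.assoc, ← j2, reassoc_of% (r1 i), s1, reassoc_of% j1]
      · rw [Category.assoc, p2.w, reassoc_of% (r2 i), Category.assoc, hρ, Category.comp_id]
    let R' : PtFamObj T n := fam V' c' ρ' r2
    have hR' : P R'.f R'.sect R'.sect_f := hBC (f := c) (hσ := hρ) (f' := c') (hσ' := r2) p1 r1 hR
    let v₁ : R' ⟶ (⟨bR, C, c, ρ, hρ⟩ : PtFamObj T n) := hm (Over.homMk r (by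
      change r ≫ bR.hom = r ≫ w.left
      rw [hw])) v p1 r1
    let v₂ : R' ⟶ (⟨bR, C, c, ρ, hρ⟩ : PtFamObj T n) := hm (Over.homMk r' (by
      change r' ≫ bR.hom = r ≫ w.left
      rw [← hw, j1])) v' p2 r3
    let R₁ : (MM P T).obj := ⟨⟨bR, C, c, ρ, hρ⟩, hR⟩
    let u₁ : ob R' hR' ⟶ R₁ := ObjectProperty.homMk v₁
    let u₂ : ob R' hR' ⟶ R₁ := ObjectProperty.homMk v₂
    have j1' : v₁.base ≫ a₁.hom.base = v₂.base ≫ a₁.hom.base := by
      rw [e1]
      exact Over.OverMorphism.ext j1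
    have j1'' : v₁.base ≫ b₁.hom.base = v₂.base ≫ b₁.hom.base := by
      rw [e2]
      exact Over.OverMorphism.ext j1
    have key := U.hom_ext u₁ u₂ (ObjectProperty.hom_ext _ (PtFamObj.hom_ext j1' j2))
      (ObjectProperty.hom_ext _ (PtFamObj.hom_ext j1'' j3))
    exact ⟨congrArg (fun k => k.hom.base.left) key, congrArg (fun k => k.hom.top) key⟩

end Conv

end K898.IsomFin
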