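import Groth.Agent.CurvSt.K898.IsomFin
import Groth.Agent.CurvSt.K902.SelfChart
import Groth.Agent.AlgSt.K737.Pts

/-!
# Finiteness of the diagonal: reduction to locally Noetherian bases (main theorem)

* `isFibGrpd_mm` : the category of pointed families of schemes with a property stable under base change is fibred in groupoids.
* `main`: if the diagonal of `MM P T` is finite for all locally Noetherian `T`, then it is finite for all `S`.
-/

set_option autoImplicit false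
set_option backward.isDefEq.respectTransparency false
set_option backward.isDefEq.respectTransparency.types false

universe v₂ u₂ u

open CategoryTheory CategoryTheory.Limits AlgebraicGeometry Opposite K734.Fib CurvSt

namespace K898.IsomMain

open K898.RepI K898.IsomSch K898.QCParam K898.IsomFin K747.Sc K740.Emb

variable {n : ℕ} {S : Scheme.{u}}

/-- Every arrow of `PtFam` is strongly cartesian. -/
theorem isStronglyCartesian {A C : PtFamObj S n} (φ : A ⟶ C) :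
    (PtFamObj.forget S n).IsStronglyCartesian ((PtFamObj.forget S n).map φ) φ where
  universal_property' := fun {A'} g ψ hψ => by
    have hb : g ≫ φ.base = ψ.base :=
      IsHomLift.eq_of_isHomLift (PtFamObj.forget S n) (g ≫ (PtFamObj.forget S n).map φ) ψ
    have hbb : g.left ≫ φ.base.left = ψ.base.left := congrArg (fun k => k.left) hb
    have hw : ψ.top ≫ C.f = (A'.f ≫ g.left) ≫ φ.base.left := by
      rw [ψ.cart.w, Category.assoc, hbb]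
    let t : A'.C ⟶ A.C := φ.cart.lift ψ.top (A'.f ≫ g.left) hw
    have ht1 : t ≫ φ.top = ψ.top := φ.cart.lift_fst _ _ _
    have ht2 : t ≫ A.f = A'.f ≫ g.left := φ.cart.lift_snd _ _ _
    let χ : A' ⟶ A :=
      { base := g
        top := t
        cart := by
          apply IsPullback.of_right (h₁₂ := φ.top) (h₂₂ := φ.base.left) (v₁₃ := C.f) _ ht2 φ.cart
          rw [ht1, hbb]
          exact ψ.cart
        w_sect := fun i => by
          apply φ.cart.hom_ext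
          · rw [Category.assoc, ht1, ψ.w_sect, Category.assoc, φ.w_sect, ← Category.assoc, hbb]
          · rw [Category.assoc, ht2, ← Category.assoc, A'.sect_f, Category.id_comp, Category.assoc, A.sect_f,
              Category.comp_id] }
    refine ⟨χ, ⟨?_, PtFamObj.hom_ext hb ht1⟩, ?_⟩
    · exact IsHomLift.map (PtFamObj.forget S n) χ
    · rintro χ' ⟨hχ', h2⟩
      have hg : g = χ'.base := IsHomLift.eq_of_isHomLift (PtFamObj.forget S n) g χ'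
      refine PtFamObj.hom_ext hg.symm ?_
      apply φ.cart.hom_ext
      · rw [ht1, ← h2]; rfl
      · rw [χ'.cart.w, ht2, hg]

/-- the base change of a family -/
noncomputable def bc (A : PtFamObj S n) {V : Over S} (f : V ⟶ A.base) : PtFamObj S n where
  base := V
  C := pullback A.f f.left
  f := pullback.snd A.f f.left
  sect i := pullback.lift (f.left ≫ A.sect i) (𝟙 _) (by
    rw [Category.assoc, A.sect_f, Category.comp_id, Category.id_comp])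
  sect_f i := pullback.lift_snd _ _ _

/-- the projection from the base change -/
noncomputable def bcHom (A : PtFamObj S n) {V : Over S} (f : V ⟶ A.base) : bc A f ⟶ A where
  base := f
  top := pullback.fst A.f f.left
  cart := IsPullback.of_hasPullback _ _
  w_sect i := pullback.lift_fst _ _ _

theorem isFibGrpd : FibCat.IsFibGrpd (PtFamObj.forget S n) where
  exists_lift := fun {x} {V} f => ⟨bc x f, bcHom x f, IsHomLift.map (PtFamObj.forget S n) (bcHom x f)⟩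
  isStronglyCartesian := fun φ => isStronglyCartesian φ

theorem isFibGrpd_mm {P : FamProp.{u} n} (hBC : BC P) : FibCat.IsFibGrpd (MM P S).p :=
  K737.Pts.isFibGrpd_fullSub (𝒳 := PtFam S n) isFibGrpd fun _ _ φ h => hBC φ.cart φ.w_sect h

/-- Transport of a universal isomorphism along vertical isomorphisms. -/
theorem univ_congr {𝒳 : BasedCategory.{v₂, u₂} (Over S)} {Z W : Over S} {w : W ⟶ Z} {ξ η ρ ξ' η' : 𝒳.obj} {a : ρ ⟶ ξ}
    {b : ρ ⟶ η} (U : RepI.Univ w a b) (i : ξ ≅ ξ') (hi : IsVert 𝒳 i.hom) (j : η ≅ η') (hj : IsVert 𝒳 j.hom) :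
    RepI.Univ w (a ≫ i.hom) (b ≫ j.hom) where
  lift_a := K903.QCObj.lift_comp_vert U.lift_a hi
  lift_b := K903.QCObj.lift_comp_vert U.lift_b hj
  exists_hom W' l ρ' a' b' ha' hb' := by
    obtain ⟨v, h1, h2⟩ := U.exists_hom W' l ρ' (a' ≫ i.inv) (b' ≫ j.inv) (K903.QCObj.lift_comp_vert ha' hi.inv)
      (K903.QCObj.lift_comp_vert hb' hj.inv)
    exact ⟨v, by rw [reassoc_of% h1, Iso.inv_hom_id, Category.comp_id],
      by rw [reassoc_of% h2, Iso.inv_hom_id, Category.comp_id]⟩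
  hom_ext v v' h1 h2 := by
    rw [← Category.assoc, ← Category.assoc, cancel_mono] at h1 h2
    exact U.hom_ext v v' h1 h2

theorem exists_univI_noeth {P : FamProp.{u} n} (hBC : BC P) {T : Scheme.{u}}
    (hd : AlgSt.RepByAlgSpWith AlgSp.IsFiniteMor (FibCat.diag (FibCat.toSelf (MM P T)))) {X Y : Scheme.{u}} {f : X ⟶ T}
    {h : Y ⟶ T} {σ : Fin n → (T ⟶ X)} {τ : Fin n → (T ⟶ Y)} {hσ : ∀ i, σ i ≫ f = 𝟙 _} {hτ : ∀ i, τ i ≫ h = 𝟙 _}
    (hA : P f σ hσ) (hB : P h τ hτ) :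
    ∃ (W C : Scheme.{u}) (w : W ⟶ T) (c : C ⟶ W) (ρ : Fin n → (W ⟶ C)) (a : C ⟶ X) (b : C ⟶ Y),
      IsFinite w ∧ UnivI f h σ τ w c ρ a b := by
  let A : (MM P T).obj := ob (fam (Over.mk (𝟙 T)) f σ hσ) hA
  let B : (MM P T).obj := ob (fam (Over.mk (𝟙 T)) h τ hτ) hB
  obtain ⟨x, i, hi⟩ := exists_yo (isFibGrpd_mm hBC) A rfl
  obtain ⟨x', i', hi'⟩ := exists_yo (isFibGrpd_mm hBC) B rfl
  obtain ⟨W, w, ρ, a, b, hw, U⟩ := exists_univ_of_finite (isFibGrpd_mm hBC) hd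
    (FibCat.fpLift x x' (K902.SelfChart.isoSelf _ _))
  obtain ⟨C, c, ρ', a', b', U'⟩ := univI_of_univ hBC hA hB (univ_congr U i hi i' hi')
  exact ⟨W.left, C, w.left, c, ρ', a', b', hw, U'⟩

theorem exists_univI {P : FamProp.{u} n} (hBC : BC P) (hOpen : OpenCond P)
    (hN : ∀ (T : Scheme.{u}) [IsLocallyNoetherian T],
      AlgSt.RepByAlgSpWith AlgSp.IsFiniteMor (FibCat.diag (FibCat.toSelf (MM P T))))
    {V X Y : Scheme.{u}} {f : X ⟶ V} {h : Y ⟶ V} {σ : Fin n → (V ⟶ X)} {τ : Fin n → (V ⟶ Y)}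
    (hσ : ∀ i, σ i ≫ f = 𝟙 _) (hτ : ∀ i, τ i ≫ h = 𝟙 _) (hA : P f σ hσ) (hB : P h τ hτ) {N M : ℕ} {jX : X ⟶ PZ N}
    {jY : Y ⟶ PZ M} (eX : IsEmb N f jX) (eY : IsEmb M h jY) :
    ∃ (W C : Scheme.{u}) (w : W ⟶ V) (c : C ⟶ W) (ρ : Fin n → (W ⟶ C)) (a : C ⟶ X) (b : C ⟶ Y),
      IsFinite w ∧ UnivI f h σ τ w c ρ a b := by
  obtain ⟨N', M', T₀, X₀, Y₀, g₀, h₀, jX₀, jY₀, b, a, c, σ₀, τ₀, hN₀, e₁, e₂, s₁, s₂, hσ₀, hτ₀, k₁, k₂⟩ :=
    K903.PtModel.exists_mdl eX eY n σ τ hσ hτ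
  obtain ⟨W₁, h₁⟩ := hOpen g₀ σ₀ hσ₀ e₁.flat e₁.isProper e₁.lfp e₁.dim
  obtain ⟨W₂, h₂⟩ := hOpen h₀ τ₀ hτ₀ e₂.flat e₂.isProper e₂.lfp e₂.dim
  have r₁ : Set.range b ⊆ (W₁ : Set T₀) := (h₁ f σ hσ b a s₁ k₁).1 hA
  have r₂ : Set.range b ⊆ (W₂ : Set T₀) := (h₂ h τ hτ b c s₂ k₂).1 hB
  let T₁ : T₀.Opens := W₁ ⊓ W₂
  let β : V ⟶ (T₁ : Scheme.{u}) := IsOpenImmersion.lift T₁.ι b (by
    rw [Scheme.Opens.range_ι]
    exact fun x hx => ⟨r₁ hx, r₂ hx⟩)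
  have hβ : β ≫ T₁.ι = b := IsOpenImmersion.lift_fac _ _ _
  -- the two families over `T₁`
  have sq₁ : IsPullback (pullback.fst g₀ T₁.ι) (pullback.snd g₀ T₁.ι) g₀ T₁.ι := IsPullback.of_hasPullback _ _
  have sq₂ : IsPullback (pullback.fst h₀ T₁.ι) (pullback.snd h₀ T₁.ι) h₀ T₁.ι := IsPullback.of_hasPullback _ _
  let σ₁ : Fin n → ((T₁ : Scheme.{u}) ⟶ pullback g₀ T₁.ι) := fun i => sq₁.lift (T₁.ι ≫ σ₀ i) (𝟙 _)
    (by rw [Category.assoc, hσ₀, Category.comp_id, Category.id_comp])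
  let τ₁ : Fin n → ((T₁ : Scheme.{u}) ⟶ pullback h₀ T₁.ι) := fun i => sq₂.lift (T₁.ι ≫ τ₀ i) (𝟙 _)
    (by rw [Category.assoc, hτ₀, Category.comp_id, Category.id_comp])
  have hσ₁ : ∀ i, σ₁ i ≫ pullback.snd g₀ T₁.ι = 𝟙 _ := fun i => sq₁.lift_snd _ _ _
  have hτ₁ : ∀ i, τ₁ i ≫ pullback.snd h₀ T₁.ι = 𝟙 _ := fun i => sq₂.lift_snd _ _ _
  have hσ₁' : ∀ i, σ₁ i ≫ pullback.fst g₀ T₁.ι = T₁.ι ≫ σ₀ i := fun i => sq₁.lift_fst _ _ _
  have hτ₁' : ∀ i, τ₁ i ≫ pullback.fst h₀ T₁.ι = T₁.ι ≫ τ₀ i := fun i => sq₂.lift_fst _ _ _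
  have P₁ : P (pullback.snd g₀ T₁.ι) σ₁ hσ₁ := (h₁ _ σ₁ hσ₁ T₁.ι _ sq₁ hσ₁').2 (by
    rw [Scheme.Opens.range_ι]
    exact fun x hx => hx.1)
  have P₂ : P (pullback.snd h₀ T₁.ι) τ₁ hτ₁ := (h₂ _ τ₁ hτ₁ T₁.ι _ sq₂ hτ₁').2 (by
    rw [Scheme.Opens.range_ι]
    exact fun x hx => hx.2)
  -- the squares over `β`
  let aX : X ⟶ pullback g₀ T₁.ι := sq₁.lift a (f ≫ β) (by rw [Category.assoc, hβ, s₁.w])
  let aY : Y ⟶ pullback h₀ T₁.ι := sq₂.lift c (h ≫ β) (by rw [Category.assoc, hβ, s₂.w])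
  have haX : aX ≫ pullback.fst g₀ T₁.ι = a := sq₁.lift_fst _ _ _
  have haX' : aX ≫ pullback.snd g₀ T₁.ι = f ≫ β := sq₁.lift_snd _ _ _
  have haY : aY ≫ pullback.fst h₀ T₁.ι = c := sq₂.lift_fst _ _ _
  have haY' : aY ≫ pullback.snd h₀ T₁.ι = h ≫ β := sq₂.lift_snd _ _ _
  have t₁ : IsPullback aX f (pullback.snd g₀ T₁.ι) β := by
    refine IsPullback.of_right (h₁₂ := pullback.fst g₀ T₁.ι) (v₁₃ := g₀) (h₂₂ := T₁.ι) ?_ haX' sq₁
    rw [haX, hβ]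
    exact s₁
  have t₂ : IsPullback aY h (pullback.snd h₀ T₁.ι) β := by
    refine IsPullback.of_right (h₁₂ := pullback.fst h₀ T₁.ι) (v₁₃ := h₀) (h₂₂ := T₁.ι) ?_ haY' sq₂
    rw [haY, hβ]
    exact s₂
  have l₁ : ∀ i, σ i ≫ aX = β ≫ σ₁ i := fun i => by
    apply sq₁.hom_ext
    · rw [Category.assoc, haX, k₁, Category.assoc, hσ₁', reassoc_of% hβ]
    · rw [Category.assoc, haX', reassoc_of% (hσ i), Category.assoc, hσ₁, Category.comp_id]
  have l₂ : ∀ i, τ i ≫ aY = β ≫ τ₁ i := fun i => by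
    apply sq₂.hom_ext
    · rw [Category.assoc, haY, k₂, Category.assoc, hτ₁', reassoc_of% hβ]
    · rw [Category.assoc, haY', reassoc_of% (hτ i), Category.assoc, hτ₁, Category.comp_id]
  have hT₁ : IsLocallyNoetherian (T₁ : Scheme.{u}) := inferInstance
  obtain ⟨W, C, w, c', ρ, a', b', hw, U⟩ := exists_univI_noeth hBC (hN (T₁ : Scheme.{u})) P₁ P₂
  obtain ⟨C₁, c₁, ρ₁, a₁, b₁, U₁⟩ := U.baseChange t₁ t₂ hσ hτ l₁ l₂ (IsPullback.of_hasPullback w β)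
  exact ⟨_, C₁, pullback.snd w β, c₁, ρ₁, a₁, b₁, inferInstance, U₁⟩

/-- The condition on the property. -/
def Good (P : FamProp.{u} n) : Prop :=
  ∀ {C T : Scheme.{u}} (f : C ⟶ T) (σ : Fin n → (T ⟶ C)) (hσ : ∀ i, σ i ≫ f = 𝟙 T), P f σ hσ →
    Flat f ∧ IsProper f ∧ LocallyOfFinitePresentation f ∧ ∀ x, FlatMor.fibreDimAt f x ≤ ((1 : ℕ) : WithBot ℕ∞)

/-- Étale locally the families are embedded. -/
theorem exists_emb {P : FamProp.{u} n} (hP : Good P) {C T : Scheme.{u}} (f : C ⟶ T) (σ : Fin n → (T ⟶ C))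
    (hσ : ∀ i, σ i ≫ f = 𝟙 T) (hA : P f σ hσ) (t : T) :
    ∃ (V : Scheme.{u}) (e : V ⟶ T) (v : V), Etale e ∧ e v = t ∧ ∃ (N : ℕ) (j : pullback f e ⟶ PZ N),
      IsEmb N (pullback.snd f e) j := by
  obtain ⟨h1, h2, h3, h4⟩ := hP f σ hσ hA
  obtain ⟨V, e, h5, h6, ⟨v, hv⟩, M, i, hi, hiq⟩ := K740.CurvAlg.projEtLoc f
    (fun y => (K639.Dim.dim_fiber_le_iff f y _).2 fun u _ => h4 u) t
  refine ⟨V, e, v, h6, hv, M, i ≫ Groth.Agent.Dix.ProjProper.toZ M V, ?_, inferInstance, inferInstance, ?_⟩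
  · have h5 : K390.PnSec.liftP (i ≫ Groth.Agent.Dix.ProjProper.toZ M V) (pullback.snd f e) = i := by
      apply K390.PnSec.hom_ext_over
      · rw [K390.PnSec.liftP_toZ]
      · rw [K390.PnSec.liftP_toBase, hiq]
    rw [h5]
    exact hi
  · exact fibreDimAt_le_bc (IsPullback.of_hasPullback f e) h4

theorem emb_bc {T V V₁ X X' : Scheme.{u}} {f : X ⟶ T} {e₁ : V₁ ⟶ T} {N : ℕ} {j : pullback f e₁ ⟶ PZ N}
    (h : IsEmb N (pullback.snd f e₁) j) {a : X' ⟶ X} {f' : X' ⟶ V} {e : V ⟶ T} (sq : IsPullback a f' f e) {p : V ⟶ V₁}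
    (hp : p ≫ e₁ = e) : ∃ j' : X' ⟶ PZ N, IsEmb N f' j' := by
  have s₁ : IsPullback (pullback.fst f e₁) (pullback.snd f e₁) f e₁ := IsPullback.of_hasPullback _ _
  let t : X' ⟶ pullback f e₁ := s₁.lift a (f' ≫ p) (by rw [Category.assoc, hp, sq.w])
  have ht₁ : t ≫ pullback.fst f e₁ = a := s₁.lift_fst _ _ _
  have ht₂ : t ≫ pullback.snd f e₁ = f' ≫ p := s₁.lift_snd _ _ _
  refine ⟨_, h.bc (a := t) (t := p) ?_⟩
  refine IsPullback.of_right (h₁₂ := pullback.fst f e₁) (v₁₃ := f) (h₂₂ := e₁) ?_ ht₂ s₁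
  rw [ht₁, hp]
  exact sq

/-- **The diagonal is finite if it is so over locally Noetherian bases.** -/
theorem main {P : FamProp.{u} n} (hBC : BC P) (hOpen : OpenCond P) (hP : Good P)
    (hN : ∀ (T : Scheme.{u}) [IsLocallyNoetherian T],
      AlgSt.RepByAlgSpWith AlgSp.IsFiniteMor (FibCat.diag (FibCat.toSelf (MM P T))))
    (S : Scheme.{u}) {Q : MorphismProperty (AlgSp.Sp S)}
    (hd : AlgSt.RepByAlgSpWith Q (FibCat.diag (FibCat.toSelf (MM P S)))) :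
    AlgSt.RepByAlgSpWith (AlgSp.IsFiniteMor ⊓ Q) (FibCat.diag (FibCat.toSelf (MM P S))) := by
  refine repByAlgSpWith_finite (isFibGrpd_mm hBC) hd ?_
  rintro T ⟨⟨bX, X, f, σ, hσ⟩, hA⟩ ⟨⟨bY, Y, h, τ, hτ⟩, hB⟩ hξ hη t
  change bX = T at hξ
  change bY = T at hη
  subst hξ hη
  obtain ⟨V₁, e₁, v₁, g₁, g₂, N, jX, hjX⟩ := exists_emb hP f σ hσ hA t
  obtain ⟨V₂, e₂, v₂, g₃, g₄, M, jY, hjY⟩ := exists_emb hP h τ hτ hB t
  obtain ⟨v, hv₁, hv₂⟩ := Scheme.Pullback.exists_preimage_pullback (f := e₁) (g := e₂) v₁ v₂ (g₂.trans g₄.symm)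
  let e : pullback e₁ e₂ ⟶ bY.left := pullback.fst e₁ e₂ ≫ e₁
  have he : Etale e := inferInstance
  let V : Over S := Over.mk (e ≫ bY.hom)
  let g : V ⟶ bY := Over.homMk e rfl
  refine ⟨V, g, v, he, ?_, ?_⟩
  · change e v = t
    rw [Scheme.Hom.comp_apply, hv₁, g₂]
  rintro ⟨⟨bX', X', f', σ', hσ'⟩, hA'⟩ ⟨⟨bY', Y', h', τ', hτ'⟩, hB'⟩ a b ha hb
  obtain rfl : bX' = V := IsHomLift.domain_eq (MM P S).p g a
  obtain rfl : bY' = V := IsHomLift.domain_eq (MM P S).p g b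
  have ea : a.hom.base = g := (lift_iff _ _).1 ha
  have eb : b.hom.base = g := (lift_iff _ _).1 hb
  have sa : IsPullback a.hom.top f' f e := by
    have h1 := a.hom.cart
    rw [ea] at h1
    exact h1
  have sb : IsPullback b.hom.top h' h e := by
    have h1 := b.hom.cart
    rw [eb] at h1
    exact h1
  obtain ⟨j₁, hj₁⟩ := emb_bc hjX sa (p := pullback.fst e₁ e₂) rfl
  obtain ⟨j₂, hj₂⟩ := emb_bc hjY sb (p := pullback.snd e₁ e₂) (pullback.condition (f := e₁) (g := e₂)).symm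
  obtain ⟨W, C, w, c, ρ, a', b', hw, U⟩ := exists_univI hBC hOpen hN hσ' hτ' hA' hB' hj₁ hj₂
  exact univ_of_univI hBC hA' hB' U hw

end K898.IsomMain
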