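import Groth.Agent.Curves.K333.FibreVA
import Groth.Agent.Desc.K390.PnDesc
import Groth.Agent.Picfga.ChiCech
import Groth.Agent.CurvSt.K740.EmbBasic

/-!
# Embedding by the complete linear system

`exists_complete` : `X` proper over a field `k`, `L` very ample in the sense that some closed immersion into a projective space
pulls `O(1)` back to `L`, `h⁰(L) = N + 1`: there is `j : X ⟶ P^N_ℤ` with `X ⟶ P^N_k` a closed immersion and `j^*O(1) ≅ L`.
-/

set_option autoImplicit false
set_option backward.isDefEq.respectTransparency false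
universe u
open CategoryTheory CategoryTheory.Limits AlgebraicGeometry Opposite

set_option linter.style.haveILetI false

namespace K898.LinSys

open Groth.Agent K390.PnSec K390.PnDesc K740.Emb
open Groth.Agent.Picfga.ChiCech

theorem isInvertible_of_iso {X : Scheme.{u}} {L L' : X.Modules} (e : L ≅ L') (h : PicF.IsInvertible L) :
    PicF.IsInvertible L' := fun x => by
  obtain ⟨U, hxU, ⟨e'⟩⟩ := h x
  exact ⟨U, hxU, ⟨(Scheme.Modules.restrictFunctor U.ι).mapIso e.symm ≪≫ e'⟩⟩

variable {k : Type u} [Field k] {X : Scheme.{u}} (q : X ⟶ Spec (CommRingCat.of k))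

theorem exists_complete [IsProper q] (L : X.Modules) {m : ℕ} (i : X ⟶ CohB1.ProjSpace m k) (hi : IsClosedImmersion i)
    (hq : i ≫ CohB1.ProjSpace.toSpec m k = q)
    (e : Nonempty ((Scheme.Modules.pullback i).obj (Twist.twistProjSpace m k 1) ≅ L)) {N : ℕ}
    (hN : letI : X.Over (Spec (CommRingCat.of k)) := ⟨q⟩; Module.finrank k (Coh.HH X L 0) = N + 1) :
    ∃ j : X ⟶ PZ N, IsClosedImmersion (liftP j q) ∧ Nonempty (O1p j ≅ L) := by
  letI : X.Over (Spec (CommRingCat.of k)) := ⟨q⟩
  have hL : PicF.IsInvertible L := by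
    obtain ⟨e⟩ := e
    exact isInvertible_of_iso e (Fdesc.LocGen.isInvertible_pullback _ (isInvertible_O1 m k))
  obtain ⟨n, r₀, s, hr₀, him⟩ := (isRelVeryAmplePn_iff q L).1
    (K333.FibreVA.isRelVeryAmplePn_of_closedImmersion q L i hi hq e)
  have hfr : Module.finrank k (SecA k L ⊤) = N + 1 := by
    rw [← hN]
    exact (h0Top (A := k) L).finrank_eq.symm
  have hfin : Module.Finite k (SecA k L ⊤) := Module.finite_of_finrank_pos (by omega)
  let b : Module.Basis (Fin (N + 1)) k (SecA k L ⊤) := Module.finBasisOfFinrankEq k _ hfr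
  let t : Fin (N + 1) → Γ(L, ⊤) := fun l => (toSecA (A := k)).symm (b l)
  let c : Fin (n + 1) → Fin (N + 1) → k := fun j l => b.repr (toSecA (s j)) l
  let c' : k →+* Γ(Spec (CommRingCat.of k), ⊤) := (Scheme.ΓSpecIso (CommRingCat.of k)).inv.hom
  have hs : ∀ j, s j = ∑ l, (q.appTop (c' (c j l))) • t l := by
    intro j
    have h1 := b.sum_repr (toSecA (s j))
    have h2 := congrArg (toSecA (A := k)).symm h1
    rw [AddEquiv.symm_apply_apply, map_sum] at h2
    rw [← h2]
    refine Finset.sum_congr rfl fun l _ => ?_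
    rw [smul_def, AddEquiv.symm_apply_apply]
    congr 1
    change Fdesc.LocGen.ores (le_top : (⊤ : X.Opens) ≤ ⊤) _ = _
    exact Fdesc.LocGen.ores_refl _
  have hcov : ⨆ l, CohB1.genLocus L (Fdesc.LocGen.homOf (t l)) = ⊤ := by
    rw [eq_top_iff, ← hr₀.iSup_genLocus]
    refine iSup_le fun j => ?_
    intro x hx
    rw [hs j] at hx
    obtain ⟨l, -, hl⟩ := exists_mem_genLocus_of_sum hL Finset.univ _ _ x hx
    exact TopologicalSpace.Opens.mem_iSup.2 ⟨l, hl⟩
  obtain ⟨r, hr⟩ := exists_givenBy' t hcov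
  have him' : IsImmersion (liftP r q) := isImmersion_liftP_of_span q hr hr₀ _ hs him
  refine ⟨r, ?_, ⟨hr.choose⟩⟩
  have hp : IsProper (liftP r q ≫ CohB1.ProjSpaceOver.toBase N (Spec (CommRingCat.of k))) := by
    rw [liftP_toBase]
    infer_instance
  have hp' : IsProper (liftP r q) := by
    have := Dix.ProjProper.isProper_toBase N (Spec (CommRingCat.of k))
    exact IsProper.of_comp (liftP r q) (CohB1.ProjSpaceOver.toBase N (Spec (CommRingCat.of k)))
  exact IsClosedImmersion.of_isPreimmersion _ (liftP r q).isClosedMap.isClosed_range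

end K898.LinSys
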