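import Groth.Agent.CurvSt.K898.StabFam
import Groth.Agent.CurvSt.K898.BaseH1

/-!
# `f_*O = O` and `R¹f_*O` for families of connected nodal curves of genus `g`
-/

set_option autoImplicit false
universe u

open CategoryTheory CategoryTheory.Limits AlgebraicGeometry Opposite TopologicalSpace CurvSt

namespace K898.MbarR1

/-- `R¹f_*O` is locally free of rank `g` for a family of connected nodal curves of genus `g`. -/
theorem isFinLocFreeOfRank_R1 {C T : Scheme.{u}} (f : C ⟶ T) {g : ℕ} (h : K898.StabFam.GeoGenus g f) [Flat f]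
    [IsProper f] [LocallyOfFinitePresentation f] [HasInjectiveResolutions C.Modules] :
    FlatMod.IsFinLocFreeOfRank g ((Coh.Rpush f 1).obj (Coh.structureModule C)) :=
  K898.BaseH1.isFinLocFreeOfRank_R1 f (fun s => (K898.StabFam.dim_fiber f h s).le)
    (K898.StabFam.hRank_zero f h) g (K898.StabFam.hRank_one f h)

/-- The first half of S16756. -/
theorem mbar_part {S : Scheme.{u}} {g n : ℕ} (A : (CurvSt.Mbar S g n).obj)
    [HasInjectiveResolutions A.obj.C.Modules] :
    (∀ (T' : Scheme.{u}) (b : T' ⟶ A.obj.base.left), IsIso (ClSub.unitToPush (pullback.snd A.obj.f b))) ∧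
      FlatMod.IsFinLocFreeOfRank g ((Coh.Rpush A.obj.f 1).obj (Coh.structureModule A.obj.C)) := by
  have hA := A.property
  have h1 : Flat A.obj.f := hA.1
  have h2 : IsProper A.obj.f := hA.2.1
  have h3 : LocallyOfFinitePresentation A.obj.f := hA.2.2.1
  have h4 : K898.StabFam.GeoGenus g A.obj.f := K898.StabFam.geoGenus_of_isStableFam hA
  exact ⟨fun T' b => K898.StabFam.isIso_unitToPush_baseChange _ h4 b, isFinLocFreeOfRank_R1 _ h4⟩

end K898.MbarR1
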