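import Groth.Agent.CurvSt.K898.QCOpen
import Groth.Agent.CurvSt.K898.QCAny
import Groth.Agent.CurvSt.K901.EtSch
import Groth.Agent.CurvSt.K739.CurvesStack

/-!
# Quasi-compactness of open substacks of the stack of curves

* `exists_schFam` : over an algebraically closed field a curve is a scheme (from `EtLocSch`).
* `isQuasiCompact_curves` : quasi-compactness of an open substack of `Curves S n` with bounded geometric objects.
-/

set_option autoImplicit false
universe u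
open CategoryTheory CategoryTheory.Limits AlgebraicGeometry Opposite

namespace K898.QCCurves

open CurvSt AlgSp K898.QCParam K898.MbarEq Groth.Agent K901.OpenSub K901.EtSch

variable {S : Scheme.{u}} {n : ℕ}

/-- Over an algebraically closed field a family of curves comes from a family of schemes. -/
theorem exists_schFam (hp : FibCat.IsFibGrpd (Curves S n).p) (A : (Curves S n).obj) (hE : EtLocSch A.obj)
    {Ω : Type u} [Field Ω] [IsAlgClosed Ω]
    (t : Spec (CommRingCat.of Ω) ⟶ S) (ht : (Curves S n).p.obj A = Over.mk t) :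
    ∃ (F : PtFamObj S n) (hF : IsCurveFam ((toSpFam S n).obj F)) (t' : Spec (CommRingCat.of Ω) ⟶ S),
      F.base = Over.mk t' ∧ Nonempty ((⟨(toSpFam S n).obj F, hF⟩ : (Curves S n).obj) ≅ A) := by
  obtain ⟨A, hA⟩ := A
  obtain ⟨base, X, f, sect, hs⟩ := A
  change base = Over.mk t at ht
  subst ht
  obtain ⟨X', q, i, sq⟩ := hasSchFibres_of_etLocSch hE Ω (𝟙 (Spec (CommRingCat.of Ω)))
  let A : SpFamObj S n := ⟨Over.mk t, X, f, sect, hs⟩
  obtain ⟨f1, f2, f3, f4⟩ := K901.SchFib.facts hA sq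
  let F : PtFamObj S n := schFam A sq
  have hF : IsCurveFam ((toSpFam S n).obj F) := K899.CurveFam.isCurveFam_toSpFam F f1 f2 f3 f4
  refine ⟨F, hF, 𝟙 _ ≫ t, rfl, ?_⟩
  let φ : (⟨(toSpFam S n).obj F, hF⟩ : (Curves S n).obj) ⟶ ⟨A, hA⟩ := ObjectProperty.homMk (schFamHom A sq)
  have h1 : IsIso ((Curves S n).p.map φ) := by
    have h2 : IsIso ((Over.forget S).map ((Curves S n).p.map φ)) := by
      change IsIso (𝟙 (Spec (CommRingCat.of Ω)))
      infer_instance
    exact isIso_of_reflects_iso ((Curves S n).p.map φ) (Over.forget S)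
  have h2 : IsIso φ := K735.Fib.isIso_of_isIso_map hp φ
  exact ⟨asIso φ⟩

/-- Quasi-compactness of an open substack of the stack of curves whose geometric objects are bounded. -/
theorem isQuasiCompact_curves (P : FamProp.{u} n) (Q : ∀ (S : Scheme.{u}), (Curves S n).obj → Prop)
    (hQ : ∀ S, OpenLocus (Curves S n) (Q S))
    (hPc : ∀ {C T : Scheme.{u}} (f : C ⟶ T) (σ : Fin n → (T ⟶ C)) (hσ : ∀ i, σ i ≫ f = 𝟙 T), P f σ hσ →
      Flat f ∧ IsProper f ∧ LocallyOfFinitePresentation f ∧ ∀ x, FlatMor.fibreDimAt f x ≤ ((1 : ℕ) : WithBot ℕ∞))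
    (hPQ : ∀ (S : Scheme.{u}) (B : PtFamObj S n) (hc : IsCurveFam ((toSpFam S n).obj B)),
      Q S ⟨(toSpFam S n).obj B, hc⟩ ↔ P B.f B.sect B.sect_f)
    (K : GProp.{u}) (hB : Bounded K 0)
    (hK : ∀ (Ω : Type u) [Field Ω] [IsAlgClosed Ω] {X : Scheme.{u}} (q : X ⟶ Spec (CommRingCat.of Ω))
      (x : Fin n → (Spec (CommRingCat.of Ω) ⟶ X)) (hx : ∀ k, x k ≫ q = 𝟙 _), P q x hx → K Ω q)
    (S : Scheme.{u}) [CompactSpace S] (hE : ∀ A : (Curves S n).obj, EtLocSch A.obj)
    (hp : FibCat.IsFibGrpd (Curves S n).p)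
    (hat : AlgSt.HasAtlas (AlgSp.LocP @Smooth) (AlgSt.fullSub (Curves S n) (Q S))) :
    AlgSt.IsQuasiCompact (AlgSt.fullSub (Curves S n) (Q S)) := by
  obtain ⟨B, hB1, hB2, hB3⟩ := exists_family P (QCOpen.openCond_of_openLocus P Q hQ hPQ) K hB hK S
  obtain ⟨f1, f2, f3, f4⟩ := hPc _ _ _ hB1
  have hc := K899.CurveFam.isCurveFam_toSpFam B f1 f2 f3 f4
  let A : (AlgSt.fullSub (Curves S n) (Q S)).obj := ⟨⟨(toSpFam S n).obj B, hc⟩, (hPQ S B hc).2 hB1⟩
  refine QCAny.isQuasiCompact_of_family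
    (K899.OpenCrit.isFibGrpd_fullSub hp (fun φ h => (hQ S).stable φ h)) hat A ?_ ?_
  · change CompactSpace B.base.left
    exact QuasiCompact.compactSpace_of_compactSpace B.base.hom
  · intro Ω _ _ t x hx
    obtain ⟨F, hF, t', hb, ⟨e⟩⟩ := exists_schFam hp x.obj (hE x.obj) t hx
    have hF1 : Q S ⟨(toSpFam S n).obj F, hF⟩ := (hQ S).stable e.hom x.property
    obtain ⟨m⟩ := hB3 Ω t' F hb ((hPQ S F hF).1 hF1)
    let m' : (⟨(toSpFam S n).obj F, hF⟩ : (Curves S n).obj) ⟶ ⟨(toSpFam S n).obj B, hc⟩ :=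
      ObjectProperty.homMk ((toSpFam S n).toFunctor.map m)
    exact ⟨ObjectProperty.homMk (e.inv ≫ m')⟩

end K898.QCCurves
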