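import Groth.Agent.CurvSt.K898.QCHilb
import Groth.Agent.CurvSt.K898.LinSys
import Groth.Agent.FGA.K277.ChiHilb
import Groth.Agent.S7647
import Groth.Agent.Ega3B.ProjFrame
import Groth.Agent.Ega3B.PullTensor
import Groth.Agent.AlgSp.K639.Dim

/-!
# Very ample line bundles and bounded embeddings

`kp_of_veryAmple` : a very ample `L` with `h⁰(L) = N + 1` and degree `a`, `χ(O) = b` gives `KP N (d ↦ a d + b)`.
-/

set_option autoImplicit false
set_option linter.style.haveILetI false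
universe u
open CategoryTheory CategoryTheory.Limits AlgebraicGeometry Opposite

namespace K898.QCParam

theorem Bounded.mono {K K' : GProp.{u}} {n : ℕ} (h : Bounded K n)
    (hK : ∀ (Ω : Type u) [Field Ω] [IsAlgClosed Ω] {X : Scheme.{u}} (q : X ⟶ Spec (CommRingCat.of Ω)), K' Ω q → K Ω q) :
    Bounded K' n := by
  obtain ⟨C, T, f, σ, hσ, h1, h2, h3, h4, h5, h6, h7⟩ := h
  exact ⟨C, T, f, σ, hσ, h1, h2, h3, h4, h5, h6, fun Ω _ _ X q x hx hX => h7 Ω q x hx (hK Ω q hX)⟩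

end K898.QCParam

namespace K898.QCEmb

open K740.Emb K740.Hilb K390.PnSec Groth.Agent K898.QCHilb K898.QCParam Groth.Agent.Dix.ProjProper

variable {k : Type u} [Field k] {X : Scheme.{u}}

theorem euler_eq_zero_part [X.Over (Spec (CommRingCat.of k))] (M : X.Modules)
    (h : ∀ i : ℕ, 1 ≤ i → Subsingleton (Coh.HH X M i)) :
    Curv2.euler k X M = (Module.finrank k (Coh.HH X M 0) : ℤ) := by
  rw [Curv2.euler, finsum_eq_single _ 0]
  · simp
  · intro i hi
    have := h i (Nat.one_le_iff_ne_zero.2 hi)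
    rw [Module.finrank_zero_of_subsingleton]
    simp

theorem eulerCharLE_eq_zero_part [X.Over (Spec (CommRingCat.of k))] (M : X.Modules) (n : ℕ)
    (h : ∀ i : ℕ, 1 ≤ i → Subsingleton (Coh.HH X M i)) :
    FGA.eulerCharLE k X M n = (Module.finrank k (Coh.HH X M 0) : ℤ) := by
  rw [FGA.eulerCharLE, Finset.sum_eq_single 0]
  · simp
  · intro i _ hi
    have := h i (Nat.one_le_iff_ne_zero.2 hi)
    rw [Module.finrank_zero_of_subsingleton]
    simp
  · intro h
    simp at h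

theorem twg_iso {N : ℕ} (j : X ⟶ PZ.{u} N) (d : ℕ) :
    Nonempty (K277.ChiHilb.twg j (Coh.structureModule X) (d : ℤ) ≅ CohB1.tensorPow (O1p j) d) := by
  obtain ⟨e⟩ := Ega3B.ProjFrame.nonempty_twistProjSpace_iso (r := N) (ULift.{u} ℤ) d
  obtain ⟨e'⟩ := Ega3B.PullTensor.nonempty_pullPowIso j (isInvertible_O1 N (ULift.{u} ℤ)) d
  exact ⟨Ega2.Tens.lunit _ ≪≫ (Scheme.Modules.pullback j).mapIso e ≪≫ e'⟩

theorem fibreDimAt_le (q : X ⟶ Spec (CommRingCat.of k)) [LocallyOfFiniteType q] {d : WithBot ℕ∞}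
    (hdim : topologicalKrullDim X ≤ d) (x : X) : FlatMor.fibreDimAt q x ≤ d := by
  have sq : IsPullback (𝟙 X) q q (𝟙 (Spec (CommRingCat.of k))) := IsPullback.of_horiz_isIso ⟨by simp⟩
  have h := K639.Dim.dim_eq_iSup_of_isPullback sq
  refine le_trans ?_ hdim
  rw [h]
  refine le_iSup₂_of_le x ?_ le_rfl
  exact Subsingleton.elim _ _

theorem toPA_eq (q : X ⟶ Spec (CommRingCat.of k)) {N : ℕ} (j : X ⟶ PZ.{u} N) : Fga.QT4b.toPA j q = liftP j q := by
  apply pullback.hom_ext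
  · exact (pullback.lift_fst _ _ _).trans (liftP_toZ j q).symm
  · exact (pullback.lift_snd _ _ _).trans (liftP_toBase j q).symm

theorem hilbFn_of_iso (q : X ⟶ Spec (CommRingCat.of k)) [IsProper q] (hdim : topologicalKrullDim X ≤ 1)
    {N : ℕ} (j : X ⟶ PZ.{u} N) (hj : IsClosedImmersion (liftP j q)) {L : X.Modules} (e : O1p j ≅ L) {a b : ℤ}
    (ha : @Curv2.deg k _ X ⟨q⟩ L 1 = a) (hb : @Curv2.euler k _ X ⟨q⟩ (Coh.structureModule X) = b) :
    HilbFn q j (fun d => a * d + b) := by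
  letI : X.Over (Spec (CommRingCat.of k)) := ⟨q⟩
  haveI : IsProper (X ↘ Spec (CommRingCat.of k)) := ‹IsProper q›
  haveI : IsClosedImmersion (Fga.QT4b.toPA j (X ↘ Spec (CommRingCat.of k))) := by
    rw [toPA_eq]
    exact hj
  have hcoh : Coh.IsCoh (Coh.structureModule X) := by
    have : IsLocallyNoetherian X := LocallyOfFiniteType.isLocallyNoetherian q
    exact CurvesB.UnitCoh.isCoh_structureModule _
  have hL : PicF.IsInvertible L :=
    LinSys.isInvertible_of_iso e (Fdesc.LocGen.isInvertible_pullback _ (isInvertible_O1 N (ULift.{u} ℤ)))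
  obtain ⟨D, hD⟩ := K277.ChiHilb.chi_eq_hilb k j hcoh
  obtain ⟨m₀, hm₀⟩ := K277.ChiHilb.exists_vanish k j hcoh
  refine ⟨max D m₀.toNat, fun d hd => ?_⟩
  have h1 := hD d (by omega)
  have h2 : ∀ i : ℕ, 1 ≤ i → Subsingleton (Coh.HH X (K277.ChiHilb.twg j (Coh.structureModule X) (d : ℤ)) i) :=
    hm₀ d (by omega)
  obtain ⟨e₁⟩ := twg_iso j d
  have h3 : Curv2.euler k X (K277.ChiHilb.twg j (Coh.structureModule X) (d : ℤ)) =
      d * Curv2.deg k X L 1 + Curv2.euler k X (Coh.structureModule X) := by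
    rw [← S7647.euler_tensorPow k X hdim L hL d]
    exact K420.IntCoeff.euler_congr k (e₁ ≪≫ Ega2.TensPow.powIso e d)
  rw [euler_eq_zero_part _ h2] at h3
  have h4 : K277.ChiHilb.chi k j (Coh.structureModule X) (d : ℤ) =
      (Module.finrank k (Coh.HH X (K277.ChiHilb.twg j (Coh.structureModule X) (d : ℤ)) 0) : ℤ) :=
    eulerCharLE_eq_zero_part _ N h2
  have h5 : Curv2.deg k X L 1 = a := ha
  have h6 : Curv2.euler k X (Coh.structureModule X) = b := hb
  rw [← h4, h1, h5, h6] at h3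
  exact h3.trans (by ring)

theorem kp_of_veryAmple [IsAlgClosed k] (q : X ⟶ Spec (CommRingCat.of k)) [IsProper q] (hdim : topologicalKrullDim X ≤ 1)
    (L : X.Modules) {m : ℕ} (i : X ⟶ CohB1.ProjSpace m k) (hi : IsClosedImmersion i)
    (hq : i ≫ CohB1.ProjSpace.toSpec m k = q)
    (e : Nonempty ((Scheme.Modules.pullback i).obj (Twist.twistProjSpace m k 1) ≅ L)) {N : ℕ}
    (hN : letI : X.Over (Spec (CommRingCat.of k)) := ⟨q⟩; Module.finrank k (Coh.HH X L 0) = N + 1) {a b : ℤ}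
    (ha : @Curv2.deg k _ X ⟨q⟩ L 1 = a) (hb : @Curv2.euler k _ X ⟨q⟩ (Coh.structureModule X) = b) :
    KP N (fun d => a * d + b) k q := by
  obtain ⟨j, hj, ⟨e'⟩⟩ := LinSys.exists_complete q L i hi hq e hN
  refine ⟨j, ⟨hj, inferInstance, ?_, ?_⟩, hilbFn_of_iso q hdim j hj e' ha hb⟩
  · exact lfp_of_noeth q
  · exact fibreDimAt_le q hdim

end K898.QCEmb
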