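import Groth.Agent.AutSch.K238.HilbH
import Groth.Agent.CurvSt.K740.HilbLN
import Groth.Agent.CurvSt.K898.QCParam

/-!
# Embedded curves with a fixed Hilbert function are bounded

`KP N Φ` : the curve over `Ω` has an embedding in `P^N` with Hilbert function `Φ` in large degrees.
`bounded_KP` : such curves are the fibres of one family of finite type over the integers (Hilbert scheme).
-/

set_option autoImplicit false
set_option linter.unusedSectionVars false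
set_option backward.isDefEq.respectTransparency false
set_option backward.isDefEq.respectTransparency.types false
universe u
open CategoryTheory CategoryTheory.Limits AlgebraicGeometry Opposite CohB1

namespace K898.QCHilb

open K740.Emb K740.Hilb K390.PnSec Groth.Agent.Fga Groth.Agent.Fga.HilbAsm1 Groth.Agent.Fga.HilbAsm2
  Groth.Agent.Fga.HilbFun Groth.Agent.Fga.NoethRep Groth.Agent.Picfga.HilbPull K898.QCParam
  Groth.Agent.Dix.ProjProper

/-- The Hilbert function of `j : X ⟶ P^N` is `Φ` in large degrees. -/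
def HilbFn {X : Scheme.{u}} {Ω : Type u} [Field Ω] (q : X ⟶ Spec (CommRingCat.of Ω)) {N : ℕ} (j : X ⟶ PZ.{u} N)
    (Φ : ℤ → ℤ) : Prop :=
  ∃ D : ℕ, ∀ d : ℕ, D ≤ d → (QT8.hilb j q (Coh.structureModule X) d : ℤ) = Φ d

/-- The curve has an embedding with Hilbert function `Φ`. -/
def KP (N : ℕ) (Φ : ℤ → ℤ) : GProp.{u} := fun _ _ _ {X} q => ∃ j : X ⟶ PZ N, IsEmb N q j ∧ HilbFn q j Φ

section Poly

variable {n : ℕ} {S Y : Scheme.{u}} (i : Y ⟶ ProjSpaceOver n S) [IsClosedImmersion i] {k : Type u} [Field k]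
  (s : Spec (CommRingCat.of k) ⟶ S)

theorem hp_of_eventually (x : (hilb (fX i)).obj (op (Over.mk s))) {Φ : ℤ → ℤ} (hΦ : QA1.Num (n + 1) Φ)
    (h : ∃ D : ℕ, ∀ d : ℕ, D ≤ d → QA1.h (KX i s x) d = Φ d) : HP Φ (KX i s x) := by
  obtain ⟨Ψ, h1, f, hf, h2⟩ := QHAlg.cov (KX_isQuotPt i s x) (⊥ : PrimeSpectrum k)
  rw [Fintype.card_fin] at h1
  have hf0 : f ≠ 0 := fun h => hf (by rw [h]; exact Ideal.zero_mem _)
  have h3 : ∀ (k' : Type u) [Field k'] (φ : k →+* k'), ∃ D : ℕ, ∀ d : ℕ, D ≤ d →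
      QA1.h (QA0.bcSat φ (KX i s x)) d = Ψ d := fun k' _ φ =>
    h2 k' φ ((map_ne_zero φ).2 hf0)
  have h4 := h3 k (RingHom.id k)
  have h5 := KX_map i (RingHom.id k) s s (𝟙 (Over.mk s)) (by
    rw [CommRingCat.ofHom_id, Spec.map_id]; rfl) x
  have h6 : (hilb (fX i)).map (𝟙 (Over.mk s)).op x = x := by
    rw [op_id, CategoryTheory.Functor.map_id]; rfl
  rw [h6] at h5
  rw [← h5] at h4
  obtain ⟨D, hD⟩ := h
  obtain ⟨D', hD'⟩ := h4
  have hΨΦ : Ψ = Φ := by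
    apply h1.eq_of_eventually hΦ
    refine ⟨((max D D' : ℕ) : ℤ), fun e he => ?_⟩
    obtain ⟨e', rfl⟩ : ∃ e' : ℕ, e = e' := ⟨e.toNat, by omega⟩
    rw [← hD e' (by omega), ← hD' e' (by omega)]
  subst hΨΦ
  exact h3

end Poly

theorem toP_fstZ {N : ℕ} {X : Scheme.{u}} (j : X ⟶ PZ.{u} N) :
    j ≫ toP N (𝟙 (PZ.{u} N)) ≫ Groth.Agent.CohqB.ProjBC.fstZ N SZ.{u} = j := by
  have h : toP N (𝟙 (PZ.{u} N)) ≫ Groth.Agent.CohqB.ProjBC.fstZ N SZ.{u} = 𝟙 _ := liftP_toZ _ _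
  rw [h, Category.comp_id]

theorem bounded_KP (N : ℕ) {Φ : ℤ → ℤ} (hΦ : QA1.Num (N + 1) Φ) : Bounded (KP.{u} N Φ) 0 := by
  have : IsNoetherian SZ.{u} := inferInstance
  obtain ⟨P, r, N', c₁, hc₁⟩ := ExistsRepQ795.exists_repQ.{u} (Fin (N + 1)) Unit Φ (by rwa [Fintype.card_fin])
  obtain ⟨H, ξ, c', hξ, hc', hcc⟩ := exists_nrep_X (toP N (𝟙 (PZ.{u} N))) hΦ r c₁
  have hHln : IsLocallyNoetherian H.left := hξ.noeth
  have hHp : IsProper H.hom := by
    rw [← hcc]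
    infer_instance
  have hHc : CompactSpace H.left := QuasiCompact.compactSpace_of_compactSpace H.hom
  have hHn : IsNoetherian H.left := { }
  let f₀ : PZ.{u} N ⟶ SZ.{u} := fW N (𝟙 (PZ.{u} N))
  let I := idl (fX (toP N (𝟙 (PZ.{u} N)))) ξ.1
  have hI := idl_prop (fX (toP N (𝟙 (PZ.{u} N)))) ξ.1
  let q₀ : I.subscheme ⟶ H.left := I.subschemeι ≫ PicF.XTproj f₀ H
  let j₀ : I.subscheme ⟶ PZ.{u} N := I.subschemeι ≫ pullback.fst f₀ H.hom
  have hq₀p : IsProper q₀ := hI.1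
  have hq₀f : Flat q₀ := hI.2
  let F : Set I.subscheme := {x | FlatMor.fibreDimAt q₀ x ≤ (1 : ℕ)}ᶜ
  have hF : IsClosed F := (Groth.Agent.S0402.result q₀ 1).isClosed_compl
  have hqF : IsClosed (q₀ '' F) := q₀.isClosedMap _ hF
  let V : H.left.Opens := ⟨(q₀ '' F)ᶜ, hqF.isOpen_compl⟩
  have sqV : IsPullback (pullback.fst q₀ V.ι) (pullback.snd q₀ V.ι) q₀ V.ι := IsPullback.of_hasPullback _ _
  have hVln : IsLocallyNoetherian V.toScheme := inferInstance
  refine ⟨pullback q₀ V.ι, V.toScheme, pullback.snd q₀ V.ι, fun i => i.elim0, fun i => i.elim0, ?_, ?_, ?_, ?_, ?_, ?_, ?_⟩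
  · have h1 : specULiftZIsTerminal.from V.toScheme = V.ι ≫ H.hom := specULiftZIsTerminal.hom_ext _ _
    rw [h1]
    infer_instance
  · have := (TopologicalSpace.NoetherianSpace.isCompact (V : Set H.left))
    exact isCompact_iff_compactSpace.1 this
  · exact MorphismProperty.of_isPullback (P := @Flat) sqV hq₀f
  · infer_instance
  · exact lfp_of_noeth _
  · intro x
    rw [Groth.Agent.Ega4fib.H172.FibDimBC.fibreDimAt_of_isPullback sqV x]
    by_contra hx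
    have h1 : q₀ (pullback.fst q₀ V.ι x) ∈ q₀ '' F := ⟨_, hx, rfl⟩
    have h2 : q₀ (pullback.fst q₀ V.ι x) = V.ι (pullback.snd q₀ V.ι x) := by
      rw [← Scheme.Hom.comp_apply, ← Scheme.Hom.comp_apply, sqV.w]
    have h3 : V.ι (pullback.snd q₀ V.ι x) ∈ V := by
      have : V.ι (pullback.snd q₀ V.ι x) ∈ Set.range V.ι := ⟨_, rfl⟩
      rwa [Scheme.Opens.range_ι] at this
    exact h3 (h2 ▸ h1)
  · intro Ω _ _ X q x hx hK
    obtain ⟨j, hj, D, hD⟩ := hK
    let s : Spec (CommRingCat.of Ω) ⟶ SZ.{u} := specULiftZIsTerminal.from _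
    let T' : Over SZ.{u} := Over.mk s
    have hT' : IsLocallyNoetherian T'.left := inferInstanceAs (IsLocallyNoetherian (Spec (CommRingCat.of Ω)))
    have hjj : IsClosedImmersion (liftP (j ≫ 𝟙 _) q) := by
      rw [Category.comp_id]
      exact hj.closed
    have hc' : IsClosedImmersion (cl N (𝟙 (PZ.{u} N)) (T := T') q j) := isClosedImmersion_cl N (𝟙 (PZ.{u} N)) (T := T') q j hjj
    set c : X ⟶ PicF.XT f₀ T' := cl N (𝟙 (PZ.{u} N)) (T := T') q j with hcdef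
    have hcq : c ≫ PicF.XTproj f₀ T' = q := pullback.lift_snd _ _ _
    have hcj : c ≫ pullback.fst f₀ T'.hom = j := pullback.lift_fst _ _ _
    have hqp : IsProper q := hj.isProper
    have hqf : Flat q := hj.flat
    have hker : c.ker.subschemeι ≫ PicF.XTproj f₀ T' = inv c.toImage ≫ q := by
      rw [IsIso.eq_inv_comp, ← hcq]
      exact c.toImage_imageι_assoc _
    have hY : IsProper (c.ker.subschemeι ≫ PicF.XTproj f₀ T') ∧ Flat (c.ker.subschemeι ≫ PicF.XTproj f₀ T') := by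
      rw [hker]
      exact ⟨inferInstance, inferInstance⟩
    let y : (hilb (fX (toP N (𝟙 (PZ.{u} N))))).obj (op T') := toH _ ⟨c.ker, hY⟩
    obtain ⟨D₁, hD₁⟩ := K238.HilbH.h_KX (toP N (𝟙 (PZ.{u} N))) s c y rfl
    have hHP : HP Φ (KX (toP N (𝟙 (PZ.{u} N))) s y) := by
      refine hp_of_eventually _ s y hΦ ⟨max D D₁, fun d hd => ?_⟩
      rw [hD₁ d (by omega), ← hD d (by omega)]
      have e1 : c ≫ pullback.fst (fX (toP N (𝟙 (PZ.{u} N)))) (Over.mk s).hom ≫ toP N (𝟙 (PZ.{u} N)) ≫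
          Groth.Agent.CohqB.ProjBC.fstZ N SZ.{u} = j := by
        rw [← Category.assoc, hcj, toP_fstZ]
      rw [e1, hcq]
    obtain ⟨g₀, hg₀, -⟩ := hξ.univ T' ⟨y, (fibX_iff _ Φ s y).2 hHP⟩
    have hg₀' : FGA.hilbPull f₀ g₀ I = c.ker := by
      have h1 := congrArg Subtype.val hg₀
      have h2 := congrArg (idl (fX (toP N (𝟙 (PZ.{u} N))))) h1
      exact h2
    obtain ⟨i₀, hi₀, hi₀'⟩ := (hilbPull_eq_iff f₀ g₀ I c).1 hg₀'
    rw [hcq] at hi₀
    have hi₀q : IsPullback i₀ q q₀ g₀.left := hi₀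
    have hran : Set.range g₀.left ⊆ Set.range V.ι := by
      rw [Scheme.Opens.range_ι]
      rintro _ ⟨t, rfl⟩ ⟨z, hz, hzt⟩
      obtain ⟨x, hx, -⟩ := exists_of_isPullback hi₀q z t hzt
      have h1 := Groth.Agent.Ega4fib.H172.FibDimBC.fibreDimAt_of_isPullback hi₀q x
      apply hz
      change FlatMor.fibreDimAt q₀ z ≤ (1 : ℕ)
      rw [← hx, ← h1]
      exact hj.dim x
    let g₁ : Spec (CommRingCat.of Ω) ⟶ V.toScheme := IsOpenImmersion.lift V.ι g₀.left hran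
    have hg₁ : g₁ ≫ V.ι = g₀.left := IsOpenImmersion.lift_fac _ _ _
    refine ⟨g₁, pullback.lift i₀ (q ≫ g₁) (by rw [Category.assoc, hg₁, hi₀q.w]), ?_, fun k => k.elim0⟩
    refine IsPullback.of_right (h₁₂ := pullback.fst q₀ V.ι) (v₁₃ := q₀) (h₂₂ := V.ι) ?_
      (pullback.lift_snd _ _ _) sqV
    rw [pullback.lift_fst, hg₁]
    exact hi₀q

end K898.QCHilb
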