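import Groth.Agent.CurvSt.K898.QCEmb

/-!
# Finite unions of bounded classes of curves are bounded
-/

set_option autoImplicit false
universe u
open CategoryTheory CategoryTheory.Limits AlgebraicGeometry Opposite

namespace K898.QCUnion

open K898.QCParam

theorem coprod_cases {X Y : Scheme.{u}} (z : ↥(X ⨿ Y)) :
    (∃ x : X, (coprod.inl : X ⟶ X ⨿ Y) x = z) ∨ ∃ y : Y, (coprod.inr : Y ⟶ X ⨿ Y) y = z := by
  obtain ⟨(x | y), rfl⟩ := (coprodMk X Y).surjective z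
  · exact Or.inl ⟨x, (coprodMk_inl X Y x).symm⟩
  · exact Or.inr ⟨y, (coprodMk_inr X Y y).symm⟩

theorem bounded_or {K₁ K₂ : GProp.{u}} (h₁ : Bounded K₁ 0) (h₂ : Bounded K₂ 0) :
    Bounded (fun Ω _ _ _ q => K₁ Ω q ∨ K₂ Ω q) 0 := by
  obtain ⟨C₁, T₁, f₁, σ₁, hσ₁, a1, a2, a3, a4, a5, a6, a7⟩ := h₁
  obtain ⟨C₂, T₂, f₂, σ₂, hσ₂, b1, b2, b3, b4, b5, b6, b7⟩ := h₂
  have sq₁ := isPullback_inl_inl_coprodMap f₁ f₂
  have sq₂ := isPullback_inr_inr_coprodMap f₁ f₂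
  have hl : LocallyOfFinitePresentation (coprod.map f₁ f₂) := IsZariskiLocalAtTarget.coprodMap _ _ a5 b5
  refine ⟨C₁ ⨿ C₂, T₁ ⨿ T₂, coprod.map f₁ f₂, fun i => i.elim0, fun i => i.elim0, ?_, ?_,
    IsZariskiLocalAtTarget.coprodMap _ _ a3 b3, IsZariskiLocalAtTarget.coprodMap _ _ a4 b4,
    hl, ?_, ?_⟩
  · rw [IsZariskiLocalAtSource.iff_of_openCover (P := @LocallyOfFiniteType) (coprodOpenCover.{_, 0} T₁ T₂)]
    rintro (⟨⟨⟩⟩ | ⟨⟨⟩⟩)
    · have e : (coprod.inl : T₁ ⟶ T₁ ⨿ T₂) ≫ specULiftZIsTerminal.from (T₁ ⨿ T₂) = specULiftZIsTerminal.from T₁ :=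
        specULiftZIsTerminal.hom_ext _ _
      change LocallyOfFiniteType ((coprod.inl : T₁ ⟶ T₁ ⨿ T₂) ≫ specULiftZIsTerminal.from (T₁ ⨿ T₂))
      rw [e]
      exact a1
    · have e : (coprod.inr : T₂ ⟶ T₁ ⨿ T₂) ≫ specULiftZIsTerminal.from (T₁ ⨿ T₂) = specULiftZIsTerminal.from T₂ :=
        specULiftZIsTerminal.hom_ext _ _
      change LocallyOfFiniteType ((coprod.inr : T₂ ⟶ T₁ ⨿ T₂) ≫ specULiftZIsTerminal.from (T₁ ⨿ T₂))
      rw [e]
      exact b1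
  · exact (coprodMk T₁ T₂).compactSpace
  · intro z
    obtain ⟨x, rfl⟩ | ⟨x, rfl⟩ := coprod_cases z
    · have h := Groth.Agent.Ega4fib.H172.FibDimBC.fibreDimAt_of_isPullback sq₁.flip x
      rw [← h]
      exact a6 x
    · have h := Groth.Agent.Ega4fib.H172.FibDimBC.fibreDimAt_of_isPullback sq₂.flip x
      rw [← h]
      exact b6 x
  · intro Ω _ _ X q x hx hK
    rcases hK with hK | hK
    · obtain ⟨g, i, hP, hi⟩ := a7 Ω q x hx hK
      exact ⟨g ≫ coprod.inl, i ≫ coprod.inl, hP.paste_horiz sq₁.flip, fun i => i.elim0⟩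
    · obtain ⟨g, i, hP, hi⟩ := b7 Ω q x hx hK
      exact ⟨g ≫ coprod.inr, i ≫ coprod.inr, hP.paste_horiz sq₂.flip, fun i => i.elim0⟩

/-- A finite union of bounded classes is bounded. -/
theorem bounded_exists_lt {K : ℕ → GProp.{u}} (h : ∀ m, Bounded (K m) 0) (D : ℕ) :
    Bounded (fun Ω _ _ _ q => ∃ m, m < D ∧ K m Ω q) 0 := by
  induction D with
  | zero => exact (h 0).mono fun _ _ _ _ _ ⟨m, hm, _⟩ => absurd hm (Nat.not_lt_zero m)
  | succ D ih =>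
    refine (bounded_or ih (h D)).mono fun Ω _ _ X q ⟨m, hm, hK⟩ => ?_
    rcases Nat.lt_succ_iff_lt_or_eq.1 hm with h1 | h1
    · exact Or.inl ⟨m, h1, hK⟩
    · subst h1
      exact Or.inr hK

end K898.QCUnion
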