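import Groth.Agent.AlgSp.K594.FibSh
import Groth.Agent.AlgSp.K595.EffRep
import Groth.Agent.Desc.ZarGlue
import Groth.Agent.S1379
import Groth.Agent.S1390
import Groth.Agent.S7521

/-!
# fppf descent of representability for sheaves all of whose base changes carry relatively ample modules

* `exists_rep_of_fppf_local` : `F` a Zariski sheaf on `Over S` with descent along fppf morphisms, fppf locally on `S`
  representable, such that whenever `F|T` is represented by `E ⟶ T`, the scheme `E` carries an invertible module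
  which is ample relative to `T`. Then `F` is representable.
* `exists_isRep_of_cov` : the same for maps of fppf sheaves.

Proof: an fppf cover is dominated, etale locally on the base, by (Zariski cover) ∘ (finite locally free cover)
(S1379), an etale cover, Zariski locally on the base, by (Zariski cover) ∘ (finite locally free cover) (S1390);
Zariski descent is gluing, descent along finite locally free covers is S7521.
-/

set_option autoImplicit false
set_option backward.isDefEq.respectTransparency false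
set_option backward.isDefEq.respectTransparency.types false
universe u
open CategoryTheory CategoryTheory.Limits AlgebraicGeometry Opposite
open _root_.Desc Groth.Agent.Desc.SecFunctor Groth.Agent.Desc.SecPresheaf
  Groth.Agent.Desc.SecDescent Groth.Agent.Picfga.OverRep Groth.Agent.Desc.ZarGlue

namespace K898.RelDesc

/-- `F` restricted to `T` (through `t : T ⟶ S`) is representable. -/
def RepOn {S : Scheme.{u}} (F : (Over S)ᵒᵖ ⥤ Type u) {T : Scheme.{u}} (t : T ⟶ S) : Prop :=
  ∃ E : Over T, Nonempty ((restr t F).RepresentableBy E)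

/-- Every representable base change of `F` carries a relatively ample invertible module. -/
def AmpleOn {S : Scheme.{u}} (F : (Over S)ᵒᵖ ⥤ Type u) : Prop :=
  ∀ ⦃T : Scheme.{u}⦄ (t : T ⟶ S) (E : Over T), Nonempty ((restr t F).RepresentableBy E) →
    ∃ L : E.left.Modules, RelAmple.IsRelAmple E.hom L

/-- Descent along all fppf morphisms. -/
def FppfDesc {S : Scheme.{u}} (F : (Over S)ᵒᵖ ⥤ Type u) : Prop :=
  ∀ {T' T : Over S} (g : T' ⟶ T), Flat g.left → LocallyOfFinitePresentation g.left →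
      Surjective g.left → IsDesc F g

variable {S : Scheme.{u}} {F : (Over S)ᵒᵖ ⥤ Type u}

theorem RepOn.comp {T T' : Scheme.{u}} {t : T ⟶ S} (h : RepOn F t) (g : T' ⟶ T) {r : T' ⟶ S}
    (hr : g ≫ t = r) : RepOn F r := by
  obtain ⟨E, ⟨e⟩⟩ := h
  exact ⟨_, ⟨(pullRep g e).ofIso (restrCompIso hr F)⟩⟩

theorem isZarSheaf_restr (hZ : IsZarSheaf F) {T : Scheme.{u}} (t : T ⟶ S) : IsZarSheaf (restr t F) := by
  intro A 𝒰 x hx
  -- the cover of `(Over.map t).obj A`
  let 𝒱 : Groth.Agent.Picfga.OverRep.Cov ((Over.map t).obj A) :=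
    { ι := 𝒰.ι
      V := fun i => (Over.map t).obj (𝒰.V i)
      j := fun i => (Over.map t).map (𝒰.j i)
      isOpen := fun i => 𝒰.isOpen i
      covers := 𝒰.covers }
  refine hZ _ 𝒱 x ?_
  intro i j Z a b hab
  have hab' : a.left ≫ (𝒰.j i).left = b.left ≫ (𝒰.j j).left := congrArg (fun k => k.left) hab
  let Z' : Over T := Over.mk (a.left ≫ (𝒰.V i).hom)
  have hS' : b.left ≫ (𝒰.V j).hom = a.left ≫ (𝒰.V i).hom := by
    rw [← Over.w (𝒰.j j), ← Over.w (𝒰.j i), ← Category.assoc, ← hab', Category.assoc]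
  let za : Z' ⟶ 𝒰.V i := Over.homMk a.left rfl
  let zb : Z' ⟶ 𝒰.V j := Over.homMk b.left hS'
  have h1 := hx i j Z' za zb (by ext; exact hab')
  let e : Z ⟶ (Over.map t).obj Z' := Over.homMk (𝟙 _) (by
    change 𝟙 _ ≫ (a.left ≫ (𝒰.V i).hom) ≫ t = Z.hom
    rw [Category.id_comp, Category.assoc]
    exact Over.w a)
  have ea : a = e ≫ (Over.map t).map za := by ext; simp [e, za]
  have eb : b = e ≫ (Over.map t).map zb := by ext; simp [e, zb]
  rw [ea, eb, op_comp, op_comp, F.map_comp, F.map_comp, ConcreteCategory.comp_apply,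
    ConcreteCategory.comp_apply]
  exact congrArg _ h1

/-- Zariski gluing. -/
theorem repOn_of_cover (hZ : IsZarSheaf F) {T : Scheme.{u}} (t : T ⟶ S)
    (h : ∀ x : T, ∃ W : T.Opens, x ∈ W ∧ RepOn F (W.ι ≫ t)) : RepOn F t := by
  choose W hW hR using h
  choose E e using hR
  have key : ∀ x, Nonempty ((restr (W x).ι (restr t F)).RepresentableBy (E x)) := fun x =>
    ⟨(e x).some.ofIso (restrCompIso rfl F).symm⟩
  obtain ⟨H, hH, -⟩ := exists_rep_of_openCover W (fun s => ⟨s, hW s⟩) E (fun s => (key s).some)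
    (isZarSheaf_restr hZ t)
  exact ⟨H, hH⟩

theorem isPSheaf_restr (hF : FppfDesc F) {T V : Scheme.{u}} (t : T ⟶ S) (p : V ⟶ T) [Flat p]
    [LocallyOfFinitePresentation p] [Surjective p] : IsPSheaf p (restr t F) := by
  intro A
  apply IsDesc.restr
  have h1 : Flat ((Over.map t).map (projT p A)).left := by
    change Flat (pullback.snd p A.hom)
    infer_instance
  have h2 : Surjective ((Over.map t).map (projT p A)).left := by
    change Surjective (pullback.snd p A.hom)
    infer_instance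
  have h3 : LocallyOfFinitePresentation ((Over.map t).map (projT p A)).left := by
    change LocallyOfFinitePresentation (pullback.snd p A.hom)
    infer_instance
  exact hF _ h1 h3 h2

/-- Descent along a finite locally free cover. -/
theorem repOn_of_finite (hF : FppfDesc F) (hL : AmpleOn F) {T V : Scheme.{u}} (t : T ⟶ S) (p : V ⟶ T)
    [Surjective p] [IsFinite p] [Flat p] [LocallyOfFinitePresentation p] {r : V ⟶ S} (hr : p ≫ t = r)
    (h : RepOn F r) : RepOn F t := by
  obtain ⟨E, ⟨e⟩⟩ := h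
  obtain ⟨L, hLE⟩ := hL r E ⟨e⟩
  let e' : (restr p (restr t F)).RepresentableBy E := e.ofIso (restrCompIso hr F).symm
  obtain ⟨U, ⟨i⟩⟩ := Groth.Agent.S7521.result p (ofPresheaf e') L hLE
  have := Groth.Agent.S1131.result p
  have := Groth.Agent.S1132.result p
  exact ⟨U, ⟨representableByOfEffective e' (isPSheaf_restr hF t p) i⟩⟩

/-- Restriction of a morphism to an open subset of the target containing the image. -/
theorem exists_lift_open {T Y : Scheme.{u}} (r : T ⟶ Y) (W : Y.Opens) (h : ∀ x, r x ∈ W) :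
    ∃ q : T ⟶ W.toScheme, q ≫ W.ι = r :=
  ⟨IsOpenImmersion.lift W.ι r (by rintro _ ⟨x, rfl⟩; simpa using h x),
    IsOpenImmersion.lift_fac _ _ _⟩

/-- etale local representability implies Zariski local representability. -/
theorem exists_open_of_etale (hZ : IsZarSheaf F) (hF : FppfDesc F) (hL : AmpleOn F) {Y U : Scheme.{u}} (y : Y ⟶ S)
    (e : U ⟶ Y) [Etale e] (u : U) (h : RepOn F (e ≫ y)) : ∃ W : Y.Opens, e u ∈ W ∧ RepOn F (W.ι ≫ y) := by
  obtain ⟨V, T, π, hV, hVa, h1, h2, h3, h4, H⟩ := Groth.Agent.S1390.result e u (e u) rfl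
  -- the open subset of `T` over which there are local maps to `U`
  let O : T.Opens := ⨆ x : {W : T.Opens // ∃ k : (W : Scheme.{u}) ⟶ U, k ≫ e = W.ι ≫ π ≫ V.ι}, x.1
  have hO : ∀ x : T, V.ι (π x) = e u → x ∈ O := by
    intro x hx
    obtain ⟨W, k, hxW, hk, -⟩ := H x hx
    exact TopologicalSpace.Opens.mem_iSup.2 ⟨⟨W, k, hk⟩, hxW⟩
  -- shrink `V`
  have hcl : IsClosed (π '' ((O : Set T)ᶜ)) := π.isClosedMap _ O.isOpen.isClosed_compl
  let V₁ : (V : Scheme.{u}).Opens := ⟨(π '' ((O : Set T)ᶜ))ᶜ, hcl.isOpen_compl⟩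
  have hV₁ : (⟨e u, hV⟩ : V) ∈ V₁ := by
    rintro ⟨x, hx, hx'⟩
    apply hx
    apply hO
    rw [hx']
    rfl
  have hpre : ∀ x : T, π x ∈ V₁ → x ∈ O := by
    intro x hx
    by_contra hc
    exact hx ⟨x, hc, rfl⟩
  let W : Y.Opens := V.ι ''ᵁ V₁
  have hW : e u ∈ W := ⟨⟨e u, hV⟩, hV₁, rfl⟩
  refine ⟨W, hW, ?_⟩
  -- representable over the preimage of `V₁` in `T`
  let T₁ : T.Opens := π ⁻¹ᵁ V₁
  have hT₁ : RepOn F (T₁.ι ≫ π ≫ V.ι ≫ y) := by
    apply repOn_of_cover hZ
    intro x
    have hx : T₁.ι x ∈ O := hpre _ x.2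
    obtain ⟨⟨W', k, hk⟩, hxW⟩ := TopologicalSpace.Opens.mem_iSup.1 hx
    refine ⟨T₁.ι ⁻¹ᵁ W', hxW, ?_⟩
    obtain ⟨q, hq⟩ := exists_lift_open ((T₁.ι ⁻¹ᵁ W').ι ≫ T₁.ι) W' (fun z => z.2)
    refine h.comp (q ≫ k) ?_
    rw [Category.assoc, reassoc_of% hk, reassoc_of% hq]
  have hfin : RepOn F (V₁.ι ≫ V.ι ≫ y) := by
    have i1 : Surjective (π ∣_ V₁) := IsZariskiLocalAtTarget.restrict (P := @Surjective) h1 V₁
    have i2 : IsFinite (π ∣_ V₁) := inferInstance
    have i3 : Flat (π ∣_ V₁) := inferInstance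
    have i4 : LocallyOfFinitePresentation (π ∣_ V₁) := inferInstance
    refine repOn_of_finite hF hL _ (π ∣_ V₁) ?_ hT₁
    rw [← Category.assoc, morphismRestrict_ι, Category.assoc]
  -- transport to `W`
  have hiso : ∃ j : (W : Scheme.{u}) ⟶ V₁, j ≫ V₁.ι ≫ V.ι = W.ι := by
    obtain ⟨a, ha⟩ := exists_lift_open W.ι V (by rintro ⟨_, ⟨z, hz, rfl⟩⟩; exact z.2)
    obtain ⟨b, hb⟩ := exists_lift_open a V₁ (by
      intro x
      obtain ⟨z, hz, hzx⟩ := x.2
      have : a x = z := by
        apply V.ι.injective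
        rw [← Scheme.Hom.comp_apply, ha]
        exact hzx.symm
      rw [this]
      exact hz)
    exact ⟨b, by rw [← Category.assoc, hb, ha]⟩
  obtain ⟨j, hj⟩ := hiso
  refine hfin.comp j ?_
  rw [← hj]
  simp only [Category.assoc]

/-- fppf local representability implies Zariski local representability. -/
theorem exists_open_of_fppf (hZ : IsZarSheaf F) (hF : FppfDesc F) (hL : AmpleOn F) {Y T : Scheme.{u}} (y : Y ⟶ S)
    (q : T ⟶ Y) [Flat q] [LocallyOfFinitePresentation q] (t : T) (h : RepOn F (q ≫ y)) :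
    ∃ W : Y.Opens, q t ∈ W ∧ RepOn F (W.ι ≫ y) := by
  -- the image of `q`
  let W : Y.Opens := ⟨Set.range q, q.isOpenMap.isOpen_range⟩
  obtain ⟨g, hg⟩ := exists_lift_open q W (fun x => ⟨x, rfl⟩)
  have hWι : IsOpenImmersion W.ι := inferInstance
  have i1 : Flat g := MorphismProperty.of_postcomp (W := @Flat) g W.ι hWι (by rwa [hg])
  have i2 : LocallyOfFinitePresentation g :=
    MorphismProperty.of_postcomp (W := @LocallyOfFinitePresentation) g W.ι hWι (by rwa [hg])
  have i3 : Surjective g := by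
    refine ⟨fun w => ?_⟩
    obtain ⟨t', ht'⟩ := w.2
    refine ⟨t', ?_⟩
    apply W.ι.injective
    rw [← Scheme.Hom.comp_apply, hg]
    exact ht'
  obtain ⟨S', V, e, π, h1, ⟨s', hs'⟩, h3, h4, h5, h6, H⟩ := Groth.Agent.S1379.result g (g t)
  have hV : RepOn F (π ≫ e ≫ W.ι ≫ y) := by
    apply repOn_of_cover hZ
    intro v
    obtain ⟨W', r, hv, hr⟩ := H v
    refine ⟨W', hv, h.comp r ?_⟩
    rw [← hg, Category.assoc, reassoc_of% hr]
  have hS' : RepOn F (e ≫ W.ι ≫ y) := repOn_of_finite hF hL _ π rfl hV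
  have h7 : Etale (e ≫ W.ι) := inferInstance
  obtain ⟨W₂, hW₂, hr⟩ := exists_open_of_etale hZ hF hL y (e ≫ W.ι) s' (by rwa [Category.assoc])
  refine ⟨W₂, ?_, hr⟩
  rw [← hg, Scheme.Hom.comp_apply, ← hs', ← Scheme.Hom.comp_apply]
  exact hW₂

/-- fppf local representability. -/
theorem exists_rep_of_fppf_local (hZ : IsZarSheaf F) (hF : FppfDesc F) (hL : AmpleOn F)
    (H : ∀ s : S, ∃ (T : Scheme.{u}) (q : T ⟶ S) (_ : Flat q) (_ : LocallyOfFinitePresentation q) (t : T),
      q t = s ∧ RepOn F q) : ∃ E : Over S, Nonempty (F.RepresentableBy E) := by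
  have key : RepOn F (𝟙 S) := by
    apply repOn_of_cover hZ
    intro s
    obtain ⟨T, q, h1, h2, t, rfl, h3⟩ := H s
    exact exists_open_of_fppf hZ hF hL (𝟙 S) q t (by rwa [Category.comp_id])
  obtain ⟨E, ⟨e⟩⟩ := key
  exact ⟨E, ⟨e.ofIso (NatIso.ofComponents (fun Y => F.mapIso (Over.isoMk (Iso.refl _) (by simp) :
    Y.unop ≅ (Over.map (𝟙 S)).obj Y.unop).op) (by
      intro Y Y' f
      simp only [Functor.comp_map, Functor.op_map, Functor.mapIso_hom, Iso.op_hom, ← F.map_comp,
        ← op_comp]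
      congr 2))⟩⟩

/-! ### maps of fppf sheaves -/

section sheaves

open AlgSp K594.Elem K594.Cover K594.FibSh

variable {G' G : Sp S} {f : G' ⟶ G} {U : Over S} {y : G.obj.obj (op U)}

/-- A family of fppf test objects over which the pullback of `f` along `y` is represented, jointly surjective. -/
def LocRep (f : G' ⟶ G) (y : G.obj.obj (op U)) : Prop :=
  ∀ s : U.left, ∃ (T : Over S) (r : T ⟶ U) (_ : Flat r.left) (_ : LocallyOfFinitePresentation r.left) (t : T.left),
    r.left t = s ∧ ∃ (V : Over S) (v : V ⟶ T) (ξ : G'.obj.obj (op V)), IsRep f (G.obj.map r.op y) v ξ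

theorem small_fib (H : LocRep f y) : FunctorToTypes.Small.{u} (fib f y) := by
  choose T r h1 h2 t ht V v ξ hξ using H
  have hfam : Fam r := ⟨h1, h2, fun s => ⟨s, t s, ht s⟩⟩
  rintro ⟨A⟩
  obtain ⟨A', g', h', sq, hg'⟩ := hfam.cov.exists_baseChange (str A)
  -- pull back to each member
  have hp : ∀ s, ∃ (B : Over S) (b : B ⟶ push A) (c : B ⟶ T s), IsPullback b c (str A) (r s) := fun s =>
    ⟨_, _, _, IsPullback.of_hasPullback (str A) (r s)⟩
  choose B b c hB using hp
  have key : ∀ (x : (fib f y).obj (op A)) (s), ∃ k : B s ⟶ V s, k ≫ v s = c s ∧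
      G'.obj.map k.op (ξ s) = G'.obj.map (b s).op x.1 := by
    intro x s
    exact (hξ s).lift (c s) (G'.obj.map (b s).op x.1) (by
      rw [app_map, x.2, ← K594.Elem.map_comp_apply, ← K594.Elem.map_comp_apply, (hB s).w])
  choose φ hφ1 hφ2 using key
  refine small_of_injective (f := fun x => (φ x : ∀ s, B s ⟶ V s)) ?_
  intro a a' hab
  apply Subtype.ext
  have hfam' : Fam b := by
    refine ⟨fun s => ?_, fun s => ?_, fun z => ?_⟩
    · exact MorphismProperty.of_isPullback (P := @Flat) ((hB s).flip.map (Over.forget S)) (h1 s)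
    · exact MorphismProperty.of_isPullback (P := @LocallyOfFinitePresentation) ((hB s).flip.map (Over.forget S)) (h2 s)
    · let s : U.left := (str A).left z
      have sq' := (hB s).map (Over.forget S)
      obtain ⟨w, hw, -⟩ := Scheme.exists_preimage_of_isPullback sq' z (t s) (ht s).symm
      exact ⟨s, w, hw⟩
  apply hfam'.ext
  intro s
  have h3 := congrFun hab s
  dsimp only at h3
  rw [← hφ2, ← hφ2, h3]

variable [FunctorToTypes.Small.{u} (fib f y)]

theorem repOn_sfib {U' V' : Over S} (t : U' ⟶ U) {v : V' ⟶ U'} {ξ : G'.obj.obj (op V')}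
    (h : IsRep f (G.obj.map t.op y) v ξ) : RepOn (sfib f y) t.left :=
  ⟨_, rep_restr t h⟩

/-- a representation of a restriction of `sfib` gives a representing object -/
theorem isRep_of_rep_restr {T : Scheme.{u}} (t : T ⟶ U.left) {E : Over T}
    (r : (restr t (sfib f y)).RepresentableBy E) :
    ∃ ξ : G'.obj.obj (op (Over.mk (E.hom ≫ t ≫ U.hom))),
      IsRep f (G.obj.map (Over.homMk t rfl : Over.mk (t ≫ U.hom) ⟶ U).op y)
        (Over.homMk E.hom rfl : Over.mk (E.hom ≫ t ≫ U.hom) ⟶ Over.mk (t ≫ U.hom)) ξ := by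
  let z := r.homEquiv (𝟙 E)
  have hz : ∀ {T : Over T} (k : T ⟶ E), r.homEquiv k = (restr t (sfib f y)).map k.op z := by
    intro T k
    rw [← r.homEquiv_comp, Category.comp_id]
  have eE : push ((Over.map t).obj E) = Over.mk ((E.hom ≫ t) ≫ U.hom) := rfl
  let i : Over.mk (E.hom ≫ t ≫ U.hom) ⟶ push ((Over.map t).obj E) := Over.homMk (𝟙 E.left) (by
    change 𝟙 E.left ≫ (E.hom ≫ t) ≫ U.hom = E.hom ≫ t ≫ U.hom
    rw [Category.id_comp, Category.assoc])
  let i' : push ((Over.map t).obj E) ⟶ Over.mk (E.hom ≫ t ≫ U.hom) := Over.homMk (𝟙 E.left) (by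
    change 𝟙 E.left ≫ E.hom ≫ t ≫ U.hom = (E.hom ≫ t) ≫ U.hom
    rw [Category.id_comp, Category.assoc])
  have hi' : i' ≫ i = 𝟙 _ := by ext; exact Category.id_comp _
  have hii : i ≫ str ((Over.map t).obj E) =
      (Over.homMk E.hom rfl : Over.mk (E.hom ≫ t ≫ U.hom) ⟶ Over.mk (t ≫ U.hom)) ≫
        (Over.homMk t rfl : Over.mk (t ≫ U.hom) ⟶ U) := by
    ext
    change 𝟙 _ ≫ E.hom ≫ t = E.hom ≫ t
    rw [Category.id_comp]
  refine ⟨G'.obj.map i.op (val f y (T := (Over.map t).obj E) z), ?_, fun {A} a b hab h => ?_, fun {A} a x hx => ?_⟩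
  · rw [app_map, val_prop, ← K594.Elem.map_comp_apply, hii, K594.Elem.map_comp_apply]
  · -- view `A` over `T`
    let A' : Over T := Over.mk (a.left ≫ E.hom)
    have hab' : b.left ≫ E.hom = a.left ≫ E.hom := (congrArg (fun k => k.left) hab).symm
    let a' : A' ⟶ E := Over.homMk a.left rfl
    let b' : A' ⟶ E := Over.homMk b.left hab'
    let e : push ((Over.map t).obj A') ⟶ A := Over.homMk (𝟙 _) (by
      change 𝟙 _ ≫ A.hom = ((a.left ≫ E.hom) ≫ t) ≫ U.hom
      rw [Category.id_comp]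
      simp only [Category.assoc]
      exact (Over.w a).symm)
    have ha : pushMap ((Over.map t).map a') = e ≫ a ≫ i := by
      ext
      change a.left = 𝟙 _ ≫ a.left ≫ 𝟙 _
      rw [Category.comp_id, Category.id_comp]
    have hb : pushMap ((Over.map t).map b') = e ≫ b ≫ i := by
      ext
      change b.left = 𝟙 _ ≫ b.left ≫ 𝟙 _
      rw [Category.comp_id, Category.id_comp]
    have : a' = b' := by
      apply r.homEquiv.injective
      rw [hz, hz]
      change (sfib f y).map ((Over.map t).map a').op z = (sfib f y).map ((Over.map t).map b').op z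
      apply val_inj
      rw [val_map, val_map, ha, hb]
      simp only [K594.Elem.map_comp_apply]
      rw [h]
    ext
    exact congrArg (fun k => k.left) this
  · let A' : Over T := Over.mk a.left
    let e : push ((Over.map t).obj A') ⟶ A := Over.homMk (𝟙 _) (by
      change 𝟙 _ ≫ A.hom = (a.left ≫ t) ≫ U.hom
      rw [Category.id_comp, Category.assoc]
      exact (Over.w a).symm)
    let e' : A ⟶ push ((Over.map t).obj A') := Over.homMk (𝟙 _) (by
      change 𝟙 _ ≫ (a.left ≫ t) ≫ U.hom = A.hom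
      rw [Category.id_comp, Category.assoc]
      exact Over.w a)
    have he : e' ≫ e = 𝟙 _ := by ext; exact Category.id_comp _
    obtain ⟨x', hx'⟩ := exists_val f y (T := (Over.map t).obj A') (G'.obj.map e.op x) (by
      rw [app_map, hx, ← K594.Elem.map_comp_apply, ← K594.Elem.map_comp_apply]
      apply K594.Elem.map_eq_of_eq
      ext
      change 𝟙 _ ≫ a.left ≫ t = a.left ≫ t
      rw [Category.id_comp])
    let k : A' ⟶ E := r.homEquiv.symm x'
    have hk : (sfib f y).map ((Over.map t).map k).op z = x' := by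
      refine (hz k).symm.trans ?_
      rw [Equiv.apply_symm_apply]
    refine ⟨e' ≫ pushMap ((Over.map t).map k) ≫ i', ?_, ?_⟩
    · ext
      change (𝟙 _ ≫ k.left ≫ 𝟙 _) ≫ E.hom = a.left
      rw [Category.comp_id, Category.id_comp]
      exact Over.w k
    · rw [← K594.Elem.map_comp_apply, Category.assoc, Category.assoc, hi', Category.comp_id, K594.Elem.map_comp_apply, ← val_map,
        hk, hx', ← K594.Elem.map_comp_apply, he, map_id_apply]

omit [FunctorToTypes.Small.{u} (fib f y)] in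
/-- fppf descent of representability for a map of fppf sheaves all of whose representable base changes carry
relatively ample invertible modules. -/
theorem exists_isRep_of_locRep (H : LocRep f y)
    (hL : ∀ {T V : Over S} (r : T ⟶ U) (v : V ⟶ T) (ξ : G'.obj.obj (op V)), IsRep f (G.obj.map r.op y) v ξ →
      ∃ L : V.left.Modules, RelAmple.IsRelAmple v.left L) :
    ∃ (V : Over S) (v : V ⟶ U) (ξ : G'.obj.obj (op V)), IsRep f y v ξ := by
  have := small_fib H
  have h1 : AmpleOn (sfib f y) := by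
    rintro T t E ⟨e⟩
    obtain ⟨ξ, hξ⟩ := isRep_of_rep_restr t e
    exact hL _ _ ξ hξ
  obtain ⟨E, ⟨hE⟩⟩ := exists_rep_of_fppf_local (isZarSheaf_sfib f y)
    (fun {T' T} g g1 g2 g3 => isDesc_sfib f y g ⟨g1, g2, g3⟩) h1 (by
      intro s
      obtain ⟨T, r, g1, g2, t, ht, V, v, ξ, hξ⟩ := H s
      exact ⟨T.left, r.left, g1, g2, t, ht, repOn_sfib r hξ⟩)
  obtain ⟨ξ', hξ'⟩ := isRep_of_rep hE
  exact ⟨_, _, ξ', hξ'⟩

omit [FunctorToTypes.Small.{u} (fib f y)] in
/-- The same in terms of cartesian squares over a representable base. -/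
theorem exists_iso_yon_of_local {X : Sp S} {T : Over S} (f : X ⟶ (yon S).obj T)
    (H : ∀ s : T.left, ∃ (T' : Over S) (r : T' ⟶ T) (_ : Flat r.left) (_ : LocallyOfFinitePresentation r.left) (t : T'.left),
      r.left t = s ∧ ∃ (V : Over S) (v : V ⟶ T') (j : (yon S).obj V ⟶ X), IsPullback j ((yon S).map v) f ((yon S).map r))
    (hL : ∀ {T' V : Over S} (r : T' ⟶ T) (v : V ⟶ T') (j : (yon S).obj V ⟶ X),
      IsPullback j ((yon S).map v) f ((yon S).map r) → ∃ L : V.left.Modules, RelAmple.IsRelAmple v.left L) :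
    ∃ (V : Over S) (v : V ⟶ T) (e : (yon S).obj V ≅ X), e.hom ≫ f = (yon S).map v := by
  let y : ((yon S).obj T).obj.obj (op T) := secEquiv (𝟙 _)
  have hy : ∀ {T' : Over S} (r : T' ⟶ T), secEquiv.symm (((yon S).obj T).obj.map r.op y) = (yon S).map r := by
    intro T' r
    apply secEquiv.injective
    rw [Equiv.apply_symm_apply]
    have h1 := yonEquiv_apply (𝟙 ((yon S).obj T)) r
    rw [← h1]
    have h2 := yonEquiv_apply ((yon S).map r) (𝟙 T')
    rw [op_id, ((yon S).obj T).obj.map_id] at h2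
    refine Eq.trans ?_ h2
    change (⟨r⟩ : ULift (T' ⟶ T)) = ⟨𝟙 T' ≫ r⟩
    rw [Category.id_comp]
  have hy0 : secEquiv.symm y = 𝟙 _ := Equiv.symm_apply_apply _ _
  obtain ⟨V, v, ξ, hξ⟩ := exists_isRep_of_locRep (f := f) (y := y) (by
      intro s
      obtain ⟨T', r, h1, h2, t, ht, V, v, j, hj⟩ := H s
      refine ⟨T', r, h1, h2, t, ht, V, v, secEquiv j, ?_⟩
      rw [← isRep_iff_isPullback, hy, Equiv.symm_apply_apply]
      exact hj) (by
      intro T' V r v ξ hξ
      rw [← isRep_iff_isPullback, hy] at hξ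
      exact hL r v _ hξ)
  rw [← isRep_iff_isPullback, hy0] at hξ
  have : IsIso (secEquiv.symm ξ) := hξ.isIso_fst_of_isIso
  refine ⟨V, v, asIso (secEquiv.symm ξ), ?_⟩
  rw [asIso_hom, hξ.w, Category.comp_id]

end sheaves

end K898.RelDesc
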