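import Groth.Agent.CurvSt.K903.QCObj
import Groth.Agent.AlgSt.K738.SecRep2
import Groth.Agent.AlgSp.K634.FiniteMor
import Groth.Agent.S10540

/-!
# Representability of the diagonal by schemes in terms of objects

* `Univ w a b`: the isomorphisms of the restrictions of `ξ` and `η` are represented by `w : W ⟶ Z`, the universal one being given
  by the arrows `a : ρ ⟶ ξ`, `b : ρ ⟶ η`.
* `secRep`: the base change of the diagonal is represented by `W`.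
* `exists_univ`: the converse.
* `repByAlgSpWith_finite`: if étale locally the isomorphisms are represented by finite schemes, the diagonal is finite.
-/

set_option autoImplicit false
set_option backward.isDefEq.respectTransparency false
set_option backward.isDefEq.respectTransparency.types false

universe v₂ u₂ v u

open CategoryTheory CategoryTheory.Limits AlgebraicGeometry Opposite K734.Fib

namespace K898.RepI

open K738 K747.Sc K903.QCObj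

variable {S : Scheme.{u}} {𝒳 : BasedCategory.{v₂, u₂} (Over S)}

/-- The isomorphisms of the restrictions of `ξ` and `η` are represented by `w : W ⟶ Z`, with universal isomorphism given
by the two arrows `a`, `b`. -/
structure Univ {Z W : Over S} (w : W ⟶ Z) {ξ η ρ : 𝒳.obj} (a : ρ ⟶ ξ) (b : ρ ⟶ η) : Prop where
  lift_a : 𝒳.p.IsHomLift w a
  lift_b : 𝒳.p.IsHomLift w b
  exists_hom : ∀ (W' : Over S) (l : W' ⟶ Z) (ρ' : 𝒳.obj) (a' : ρ' ⟶ ξ) (b' : ρ' ⟶ η), 𝒳.p.IsHomLift l a' →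
      𝒳.p.IsHomLift l b' → ∃ v : ρ' ⟶ ρ, v ≫ a = a' ∧ v ≫ b = b'
  hom_ext : ∀ {ρ' : 𝒳.obj} (v v' : ρ' ⟶ ρ), v ≫ a = v' ≫ a → v ≫ b = v' ≫ b → v = v'

theorem lift_unique {a b : 𝒳.obj} {R T : Over S} {f f' : R ⟶ T} {φ : a ⟶ b} (h : 𝒳.p.IsHomLift f φ)
    (h' : 𝒳.p.IsHomLift f' φ) : f = f' :=
  (IsHomLift.fac 𝒳.p f φ).trans (IsHomLift.fac 𝒳.p f' φ).symm

theorem lift_cast {a b : 𝒳.obj} {R T : Over S} (hR : 𝒳.p.obj a = R) (hT : 𝒳.p.obj b = T) (φ : a ⟶ b) :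
    𝒳.p.IsHomLift (eqToHom hR.symm ≫ 𝒳.p.map φ ≫ eqToHom hT) φ := by
  subst hR hT
  simp only [eqToHom_refl, Category.id_comp, Category.comp_id]
  infer_instance

theorem lift_of_eqToHom {a b : 𝒳.obj} {R T T' : Over S} {f : R ⟶ T} (h : T = T') {φ : a ⟶ b}
    (h1 : 𝒳.p.IsHomLift (f ≫ eqToHom h) φ) : 𝒳.p.IsHomLift f φ := by
  subst h
  simpa using h1

section Fp

variable {T : Over S} (y : FibCat.overCat T ⥤ᵇ FibCat.fp (FibCat.toSelf 𝒳) (FibCat.toSelf 𝒳))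

theorem conj_eq {𝒞 : Type*} [Category 𝒞] {a b c d : 𝒞} {i : a ⟶ b} {i' : b ⟶ a} {j : c ⟶ d} {j' : d ⟶ c}
    {f : a ⟶ c} {v : b ⟶ d} (hi : i' ≫ i = 𝟙 b) (hj : j ≫ j' = 𝟙 c) (h : f ≫ j = i ≫ v) : v ≫ j' = i' ≫ f := by
  have h2 : i' ≫ (f ≫ j) ≫ j' = i' ≫ (i ≫ v) ≫ j' := by rw [h]
  rw [Category.assoc, hj, Category.comp_id, Category.assoc, reassoc_of% hi] at h2
  exact h2.symm

/-- The objects of the base change of the diagonal. -/
abbrev FD : BasedCategory (Over S) := FibCat.fp y (FibCat.diag (FibCat.toSelf 𝒳))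

variable {y}

/-- The first arrow. -/
noncomputable def A1 (z : (FD y).obj) : z.obj.snd ⟶ (y1 y).obj (Over.mk (𝟙 T)) :=
  z.obj.iso.inv.hom.fst ≫ (y1 y).map (om z.obj.fst.hom (𝟙 T) z.obj.fst.hom (Category.comp_id _))

/-- The second arrow. -/
noncomputable def A2 (z : (FD y).obj) : z.obj.snd ⟶ (y2 y).obj (Over.mk (𝟙 T)) :=
  z.obj.iso.inv.hom.snd ≫ (y2 y).map (om z.obj.fst.hom (𝟙 T) z.obj.fst.hom (Category.comp_id _))

theorem iso_vert' (z : (FD y).obj) : IsVert (FibCat.fp (FibCat.toSelf 𝒳) (FibCat.toSelf 𝒳)) z.obj.iso.hom :=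
  iso_vert z

theorem lift_A1 (z : (FD y).obj) : 𝒳.p.IsHomLift z.obj.fst.hom (A1 z) :=
  vert_comp_lift ((iso_vert' z).inv.map (FibCat.fpFst _ _))
    (om_lift (y1 y) z.obj.fst.hom (𝟙 T) z.obj.fst.hom (Category.comp_id _))

theorem lift_A2 (z : (FD y).obj) : 𝒳.p.IsHomLift z.obj.fst.hom (A2 z) :=
  vert_comp_lift ((iso_vert' z).inv.map (FibCat.fpSnd _ _))
    (om_lift (y2 y) z.obj.fst.hom (𝟙 T) z.obj.fst.hom (Category.comp_id _))

theorem p_snd (z : (FD y).obj) : 𝒳.p.obj z.obj.snd = (FD y).p.obj z := by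
  have := lift_A1 z
  exact IsHomLift.domain_eq 𝒳.p z.obj.fst.hom (A1 z)

theorem iso_fst_comp (z : (FD y).obj) : z.obj.iso.hom.hom.fst ≫ z.obj.iso.inv.hom.fst = 𝟙 _ :=
  congrArg (fun k => k.hom.fst) z.obj.iso.hom_inv_id

theorem iso_snd_comp (z : (FD y).obj) : z.obj.iso.hom.hom.snd ≫ z.obj.iso.inv.hom.snd = 𝟙 _ :=
  congrArg (fun k => k.hom.snd) z.obj.iso.hom_inv_id

theorem iso_fst_comp' (z : (FD y).obj) : z.obj.iso.inv.hom.fst ≫ z.obj.iso.hom.hom.fst = 𝟙 _ :=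
  congrArg (fun k => k.hom.fst) z.obj.iso.inv_hom_id

theorem iso_snd_comp' (z : (FD y).obj) : z.obj.iso.inv.hom.snd ≫ z.obj.iso.hom.hom.snd = 𝟙 _ :=
  congrArg (fun k => k.hom.snd) z.obj.iso.inv_hom_id

theorem om_comp {z z' : (FD y).obj} (m : z ⟶ z') :
    m.hom.fst ≫ om z'.obj.fst.hom (𝟙 T) z'.obj.fst.hom (Category.comp_id _) =
      om z.obj.fst.hom (𝟙 T) z.obj.fst.hom (Category.comp_id _) :=
  Over.OverMorphism.ext (Over.w m.hom.fst)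

theorem comp_A1 {z z' : (FD y).obj} (m : z ⟶ z') : m.hom.snd ≫ A1 z' = A1 z := by
  have h := (homDiag_snd m).1
  have h1 : m.hom.snd ≫ z'.obj.iso.inv.hom.fst = z.obj.iso.inv.hom.fst ≫ (y1 y).map m.hom.fst :=
    conj_eq (iso_fst_comp' z) (iso_fst_comp z') h
  unfold A1
  rw [reassoc_of% h1, ← (y1 y).map_comp, om_comp]

theorem comp_A2 {z z' : (FD y).obj} (m : z ⟶ z') : m.hom.snd ≫ A2 z' = A2 z := by
  have h := (homDiag_snd m).2
  have h1 : m.hom.snd ≫ z'.obj.iso.inv.hom.snd = z.obj.iso.inv.hom.snd ≫ (y2 y).map m.hom.fst :=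
    conj_eq (iso_snd_comp' z) (iso_snd_comp z') h
  unfold A2
  rw [reassoc_of% h1, ← (y2 y).map_comp, om_comp]

theorem lift_snd {z z' : (FD y).obj} (m : z ⟶ z') : 𝒳.p.IsHomLift ((FD y).p.map m) m.hom.snd := by
  have h : (FD y).p.IsHomLift ((FD y).p.map m) m := inferInstance
  exact (inferInstance : 𝒳.p.IsHomLift ((FD y).p.map m) ((FibCat.fpSnd y (FibCat.diag (FibCat.toSelf 𝒳))).map m))

/-- A morphism of the base change of the diagonal from a morphism of the second components. -/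
theorem exists_hom_of (h𝒳 : FibCat.IsFibGrpd 𝒳.p) {z z' : (FD y).obj} (v : z.obj.snd ⟶ z'.obj.snd)
    (h1 : v ≫ A1 z' = A1 z) (h2 : v ≫ A2 z' = A2 z) :
    ∃ m : z ⟶ z', m.hom.snd = v := by
  obtain ⟨r, hr⟩ : ∃ r : z.obj.fst.left ⟶ z'.obj.fst.left, 𝒳.p.IsHomLift r v := ⟨_, lift_cast (p_snd z) (p_snd z') v⟩
  have hrw : r ≫ z'.obj.fst.hom = z.obj.fst.hom := by
    have h3 : 𝒳.p.IsHomLift (r ≫ z'.obj.fst.hom) (v ≫ A1 z') := by
      have := lift_A1 z'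
      exact IsHomLift.comp 𝒳.p r z'.obj.fst.hom v (A1 z')
    rw [h1] at h3
    exact lift_unique h3 (lift_A1 z)
  have e1 : om r z'.obj.fst.hom z.obj.fst.hom hrw ≫ om z'.obj.fst.hom (𝟙 T) z'.obj.fst.hom (Category.comp_id _) =
      om z.obj.fst.hom (𝟙 T) z.obj.fst.hom (Category.comp_id _) := Over.OverMorphism.ext hrw
  have hv1 : IsVert 𝒳 z.obj.iso.hom.hom.fst := (iso_vert' z).map (FibCat.fpFst _ _)
  have hv2 : IsVert 𝒳 z.obj.iso.hom.hom.snd := (iso_vert' z).map (FibCat.fpSnd _ _)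
  have hv1' : IsVert 𝒳 z'.obj.iso.hom.hom.fst := (iso_vert' z').map (FibCat.fpFst _ _)
  have hv2' : IsVert 𝒳 z'.obj.iso.hom.hom.snd := (iso_vert' z').map (FibCat.fpSnd _ _)
  refine ⟨mkHomFp (om r z'.obj.fst.hom z.obj.fst.hom hrw) v ?_, rfl⟩
  refine homFp_ext ?_ ?_
  · change (y1 y).map (om r z'.obj.fst.hom z.obj.fst.hom hrw) ≫ z'.obj.iso.hom.hom.fst = z.obj.iso.hom.hom.fst ≫ v
    refine fac_unique' h𝒳 (g := r) (A1 z') (lift_comp_vert (om_lift (y1 y) r _ _ hrw) hv1')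
      (vert_comp_lift hv1 hr) ?_
    rw [Category.assoc, Category.assoc, h1]
    unfold A1
    rw [reassoc_of% (iso_fst_comp z'), reassoc_of% (iso_fst_comp z), ← (y1 y).map_comp]
    exact congrArg (fun k => (y1 y).map k) e1
  · change (y2 y).map (om r z'.obj.fst.hom z.obj.fst.hom hrw) ≫ z'.obj.iso.hom.hom.snd = z.obj.iso.hom.hom.snd ≫ v
    refine fac_unique' h𝒳 (g := r) (A2 z') (lift_comp_vert (om_lift (y2 y) r _ _ hrw) hv2')
      (vert_comp_lift hv2 hr) ?_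
    rw [Category.assoc, Category.assoc, h2]
    unfold A2
    rw [reassoc_of% (iso_snd_comp z'), reassoc_of% (iso_snd_comp z), ← (y2 y).map_comp]
    exact congrArg (fun k => (y2 y).map k) e1

theorem hom_fst_left {z z' : (FD y).obj} (m : z ⟶ z') : (FD y).p.map m = m.hom.fst.left := rfl

theorem hom_ext_of {z z' : (FD y).obj} {m m' : z ⟶ z'} (h : (FD y).p.map m = (FD y).p.map m') : m = m' := by
  have h1 : m.hom.fst = m'.hom.fst := Over.OverMorphism.ext h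
  have h2 := (homDiag_snd m).1
  have h3 := (homDiag_snd m').1
  rw [← h1, h2] at h3
  refine homFp_ext h1 ?_
  have h4 : z.obj.iso.inv.hom.fst ≫ z.obj.iso.hom.hom.fst ≫ m.hom.snd =
    z.obj.iso.inv.hom.fst ≫ z.obj.iso.hom.hom.fst ≫ m'.hom.snd := by rw [h3]
  rwa [reassoc_of% (iso_fst_comp' z), reassoc_of% (iso_fst_comp' z)] at h4

/-- An object of the base change of the diagonal from two arrows. -/
theorem exists_fd (h𝒳 : FibCat.IsFibGrpd 𝒳.p) {W : Over S} (l : W ⟶ T) {ρ : 𝒳.obj}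
    {a : ρ ⟶ (y1 y).obj (Over.mk (𝟙 T))} {b : ρ ⟶ (y2 y).obj (Over.mk (𝟙 T))} (ha : 𝒳.p.IsHomLift l a)
    (hb : 𝒳.p.IsHomLift l b) :
    ∃ (i : y.obj (Over.mk l) ≅ (FibCat.diag (FibCat.toSelf 𝒳)).obj ρ)
      (hi : IsVert (FibCat.fp (FibCat.toSelf 𝒳) (FibCat.toSelf 𝒳)) i.hom),
      A1 (mkObj (Over.mk l) ρ i hi : (FD y).obj) = a ∧ A2 (mkObj (Over.mk l) ρ i hi : (FD y).obj) = b := by
  obtain ⟨i, hi, hia, hib⟩ := exists_obj h𝒳 y l a b ha hb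
  refine ⟨i, hi, ?_, ?_⟩
  · change i.inv.hom.fst ≫ (y1 y).map (om l (𝟙 T) l (Category.comp_id _)) = a
    rw [← hia]
    have h : i.inv.hom.fst ≫ i.hom.hom.fst = 𝟙 _ := congrArg (fun k => k.hom.fst) i.inv_hom_id
    rw [reassoc_of% h]
  · change i.inv.hom.snd ≫ (y2 y).map (om l (𝟙 T) l (Category.comp_id _)) = b
    rw [← hib]
    have h : i.inv.hom.snd ≫ i.hom.hom.snd = 𝟙 _ := congrArg (fun k => k.hom.snd) i.inv_hom_id
    rw [reassoc_of% h]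

end Fp

/-- Factorization through a cartesian arrow. -/
theorem exists_fac (h𝒳 : FibCat.IsFibGrpd 𝒳.p) {a b c : 𝒳.obj} {R R' R'' : Over S} {g : R'' ⟶ R'} {f : R' ⟶ R}
    {φ : b ⟶ a} {ψ : c ⟶ a} (hφ : 𝒳.p.IsHomLift f φ) (hψ : 𝒳.p.IsHomLift (g ≫ f) ψ) :
    ∃ χ : c ⟶ b, 𝒳.p.IsHomLift g χ ∧ χ ≫ φ = ψ := by
  obtain rfl := IsHomLift.codomain_eq 𝒳.p f φ
  obtain rfl := IsHomLift.domain_eq 𝒳.p f φ
  obtain rfl := IsHomLift.domain_eq 𝒳.p (g ≫ f) ψ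
  have e1 : f = 𝒳.p.map φ := by simpa using IsHomLift.fac 𝒳.p f φ
  have e2 : g ≫ f = 𝒳.p.map ψ := by simpa using IsHomLift.fac 𝒳.p (g ≫ f) ψ
  obtain ⟨χ, h1, h2⟩ := K735.Fib.exists_hom h𝒳 φ ψ g (by rw [← e1, e2])
  refine ⟨χ, ?_, h2⟩
  rw [← h1]
  infer_instance

section Rep

variable {T : Over S} {y : FibCat.overCat T ⥤ᵇ FibCat.fp (FibCat.toSelf 𝒳) (FibCat.toSelf 𝒳)} {W : Over S}
  {w : W ⟶ T} {ρ : 𝒳.obj} {a : ρ ⟶ (y1 y).obj (Over.mk (𝟙 T))} {b : ρ ⟶ (y2 y).obj (Over.mk (𝟙 T))}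

theorem exists_v (U : Univ w a b) (z : (FD y).obj) : ∃ v : z.obj.snd ⟶ ρ, v ≫ a = A1 z ∧ v ≫ b = A2 z :=
  U.exists_hom _ z.obj.fst.hom _ _ _ (lift_A1 z) (lift_A2 z)

/-- The classifying arrow. -/
noncomputable def vv (U : Univ w a b) (z : (FD y).obj) : z.obj.snd ⟶ ρ := (exists_v U z).choose

theorem vv_a (U : Univ w a b) (z : (FD y).obj) : vv U z ≫ a = A1 z := (exists_v U z).choose_spec.1

theorem vv_b (U : Univ w a b) (z : (FD y).obj) : vv U z ≫ b = A2 z := (exists_v U z).choose_spec.2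

theorem p_ρ (U : Univ w a b) : 𝒳.p.obj ρ = W := by
  have := U.lift_a
  exact IsHomLift.domain_eq 𝒳.p w a

/-- The classifying morphism. -/
noncomputable def rr (U : Univ w a b) (z : (FD y).obj) : (FD y).p.obj z ⟶ W :=
  eqToHom (p_snd z).symm ≫ 𝒳.p.map (vv U z) ≫ eqToHom (p_ρ U)

theorem lift_rr (U : Univ w a b) (z : (FD y).obj) : 𝒳.p.IsHomLift (rr U z) (vv U z) :=
  lift_cast (p_snd z) (p_ρ U) (vv U z)

theorem rr_w (U : Univ w a b) (z : (FD y).obj) : rr U z ≫ w = z.obj.fst.hom := by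
  have h1 := lift_rr U z
  have h2 := U.lift_a
  have h3 : 𝒳.p.IsHomLift (rr U z ≫ w) (vv U z ≫ a) := IsHomLift.comp 𝒳.p _ _ _ _
  rw [vv_a] at h3
  exact lift_unique h3 (lift_A1 z)

theorem map_rr (U : Univ w a b) {z z' : (FD y).obj} (m : z ⟶ z') : (FD y).p.map m ≫ rr U z' = rr U z := by
  have h0 : m.hom.snd ≫ vv U z' = vv U z := by
    apply U.hom_ext
    · rw [Category.assoc, vv_a, vv_a, comp_A1]
    · rw [Category.assoc, vv_b, vv_b, comp_A2]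
  have h1 := lift_snd m
  have h2 := lift_rr U z'
  have h3 : 𝒳.p.IsHomLift ((FD y).p.map m ≫ rr U z') (m.hom.snd ≫ vv U z') := IsHomLift.comp 𝒳.p _ _ _ _
  rw [h0] at h3
  exact lift_unique h3 (lift_rr U z)

theorem rr_eq_of (U : Univ w a b) {W' : Over S} {l : W' ⟶ T} {ρ' : 𝒳.obj}
    {i : y.obj (Over.mk l) ≅ (FibCat.diag (FibCat.toSelf 𝒳)).obj ρ'}
    {hi : IsVert (FibCat.fp (FibCat.toSelf 𝒳) (FibCat.toSelf 𝒳)) i.hom} {χ : ρ' ⟶ ρ} {r : W' ⟶ W}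
    (hχ : 𝒳.p.IsHomLift r χ) (h1 : χ ≫ a = A1 (mkObj (Over.mk l) ρ' i hi : (FD y).obj))
    (h2 : χ ≫ b = A2 (mkObj (Over.mk l) ρ' i hi : (FD y).obj)) :
    rr U (mkObj (Over.mk l) ρ' i hi : (FD y).obj) = r := by
  have h0 : vv U (mkObj (Over.mk l) ρ' i hi : (FD y).obj) = χ := by
    apply U.hom_ext
    · rw [vv_a]; exact h1.symm
    · rw [vv_b]; exact h2.symm
  have h3 := lift_rr U (mkObj (Over.mk l) ρ' i hi : (FD y).obj)
  rw [h0] at h3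
  exact lift_unique h3 hχ

/-- The base change of the diagonal is represented by `W`. -/
noncomputable def secRep (h𝒳 : FibCat.IsFibGrpd 𝒳.p) (U : Univ w a b) :
    SecRep (FibCat.fpFst y (FibCat.diag (FibCat.toSelf 𝒳))) ((AlgSp.yon S).obj W) ((AlgSp.yon S).map w) where
  sec z := ⟨rr U z⟩
  map {z z'} m := by
    change (⟨(FD y).p.map m ≫ rr U z'⟩ : ULift _) = ⟨rr U z⟩
    rw [map_rr]
  full {z z'} g hg := by
    have hg' : g ≫ rr U z' = rr U z := congrArg ULift.down hg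
    obtain ⟨χ, hχ, hχ'⟩ := exists_fac h𝒳 (g := g) (lift_rr U z') (ψ := vv U z) (by
      rw [hg']
      exact lift_rr U z)
    obtain ⟨m, hm⟩ := exists_hom_of h𝒳 (z := z) (z' := z') χ (by rw [← vv_a U, ← vv_a U, reassoc_of% hχ'])
      (by rw [← vv_b U, ← vv_b U, reassoc_of% hχ'])
    refine ⟨m, ?_⟩
    have h1 := lift_snd m
    rw [hm] at h1
    exact lift_unique h1 hχ
  faithful {z z'} m m' h := hom_ext_of h
  surj {T'} s := by
    obtain ⟨r⟩ := s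
    obtain ⟨ρ', χ, hχ⟩ := h𝒳.exists_lift (x := ρ) (r ≫ eqToHom (p_ρ U).symm)
    have hχ' : 𝒳.p.IsHomLift r χ := lift_of_eqToHom (p_ρ U).symm hχ
    have h2 := U.lift_a
    have h3 := U.lift_b
    obtain ⟨i, hi, e1, e2⟩ := exists_fd h𝒳 (y := y) (r ≫ w) (IsHomLift.comp 𝒳.p r w χ a) (IsHomLift.comp 𝒳.p r w χ b)
    refine ⟨mkObj (Over.mk (r ≫ w)) ρ' i hi, rfl, ?_⟩
    have h4 := rr_eq_of U (i := i) (hi := hi) hχ' e1.symm e2.symm
    change (⟨eqToHom rfl ≫ rr U (mkObj (Over.mk (r ≫ w)) ρ' i hi : (FD y).obj)⟩ : ULift _) = ⟨r⟩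
    rw [eqToHom_refl, Category.id_comp, h4]
  proj z := by
    change (⟨rr U z ≫ w⟩ : ULift _) = ⟨_⟩
    rw [rr_w]
    congr 1

/-- The converse of `secRep`. -/
theorem exists_univ (h𝒳 : FibCat.IsFibGrpd 𝒳.p)
    (R : SecRep (FibCat.fpFst y (FibCat.diag (FibCat.toSelf 𝒳))) ((AlgSp.yon S).obj W) ((AlgSp.yon S).map w)) :
    ∃ (ρ : 𝒳.obj) (a : ρ ⟶ (y1 y).obj (Over.mk (𝟙 T))) (b : ρ ⟶ (y2 y).obj (Over.mk (𝟙 T))), Univ w a b := by
  obtain ⟨z₀, h, hs⟩ := R.surj (T := W) ⟨𝟙 W⟩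
  subst h
  have hs' : R.sec z₀ = ⟨𝟙 _⟩ := by
    rw [← hs]
    simp
  have hw : w = z₀.obj.fst.hom := by
    have h1 := R.proj z₀
    rw [hs'] at h1
    have h2 : 𝟙 _ ≫ w = str (FibCat.fpFst y (FibCat.diag (FibCat.toSelf 𝒳))) z₀ := congrArg ULift.down h1
    rw [Category.id_comp] at h2
    rw [h2]
    exact Category.id_comp _
  subst hw
  refine ⟨z₀.obj.snd, A1 z₀, A2 z₀, lift_A1 z₀, lift_A2 z₀, ?_, ?_⟩
  · intro W' l ρ' a' b' ha' hb'
    obtain ⟨i, hi, e1, e2⟩ := exists_fd h𝒳 (y := y) l ha' hb'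
    obtain ⟨m, hm⟩ := R.full (z := mkObj (Over.mk l) ρ' i hi) (z' := z₀) (R.sec (mkObj (Over.mk l) ρ' i hi)).down (by
      rw [hs']
      change (⟨(R.sec (mkObj (Over.mk l) ρ' i hi)).down ≫ 𝟙 _⟩ : ULift _) = _
      rw [Category.comp_id]
      rfl)
    exact ⟨m.hom.snd, (comp_A1 m).trans e1, (comp_A2 m).trans e2⟩
  · intro ρ' v v' h1 h2
    obtain ⟨r, hv⟩ : ∃ r : 𝒳.p.obj ρ' ⟶ z₀.obj.fst.left, 𝒳.p.IsHomLift r v := ⟨_, lift_cast rfl (p_snd z₀) v⟩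
    have l1 := lift_A1 z₀
    have l2 := lift_A2 z₀
    obtain ⟨i, hi, e1, e2⟩ := exists_fd h𝒳 (y := y) (r ≫ z₀.obj.fst.hom)
      (IsHomLift.comp 𝒳.p r z₀.obj.fst.hom v (A1 z₀)) (IsHomLift.comp 𝒳.p r z₀.obj.fst.hom v (A2 z₀))
    obtain ⟨m, hm⟩ := exists_hom_of h𝒳 (z := mkObj (Over.mk (r ≫ z₀.obj.fst.hom)) ρ' i hi) (z' := z₀) v e1.symm e2.symm
    obtain ⟨m', hm'⟩ := exists_hom_of h𝒳 (z := mkObj (Over.mk (r ≫ z₀.obj.fst.hom)) ρ' i hi) (z' := z₀) v'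
      (h1.symm.trans e1.symm) (h2.symm.trans e2.symm)
    have k1 := R.map m
    have k2 := R.map m'
    rw [hs'] at k1 k2
    have k3 : (FD y).p.map m ≫ 𝟙 _ = (FD y).p.map m' ≫ 𝟙 _ := congrArg ULift.down (k1.trans k2.symm)
    rw [Category.comp_id, Category.comp_id] at k3
    exact hm.symm.trans ((congrArg (fun k => k.hom.snd) (hom_ext_of k3)).trans hm')

end Rep

/-- Transport of a representation along an isomorphism of sheaves. -/
noncomputable def ofIso {𝒵 : BasedCategory.{v, u₂} (Over S)} {U : Over S} {q : 𝒵 ⥤ᵇ FibCat.overCat U} {F F' : AlgSp.Sp S}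
    {π : F ⟶ (AlgSp.yon S).obj U} {π' : F' ⟶ (AlgSp.yon S).obj U} (R : SecRep q F π) (i : F ≅ F') (hi : i.hom ≫ π' = π) :
    SecRep q F' π' where
  sec z := i.hom.hom.app _ (R.sec z)
  map {z z'} m := by
    rw [← R.map m]
    exact (NatTrans.naturality_apply i.hom.hom (𝒵.p.map m).op (R.sec z')).symm
  full {z z'} g hg := by
    refine R.full g ?_
    have h1 : i.hom.hom.app _ (F.obj.map g.op (R.sec z')) = i.hom.hom.app _ (R.sec z) :=
      (NatTrans.naturality_apply i.hom.hom g.op (R.sec z')).trans hg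
    have h2 : ∀ (V : (Over S)ᵒᵖ) (x : F.obj.obj V), i.inv.hom.app V (i.hom.hom.app V x) = x := fun V x =>
      congrArg (fun k : F ⟶ F => k.hom.app V x) i.hom_inv_id
    rw [← h2 _ (F.obj.map g.op (R.sec z')), h1, h2]
  faithful m m' h := R.faithful m m' h
  surj {T} s := by
    obtain ⟨z, h, hz⟩ := R.surj (i.inv.hom.app _ s)
    refine ⟨z, h, ?_⟩
    have h1 := NatTrans.naturality_apply i.hom.hom (eqToHom h).op (R.sec z)
    have h2 : ∀ (V : (Over S)ᵒᵖ) (x : F'.obj.obj V), i.hom.hom.app V (i.inv.hom.app V x) = x := fun V x =>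
      congrArg (fun k : F' ⟶ F' => k.hom.app V x) i.inv_hom_id
    rw [← h1, hz, h2]
  proj z := (congrArg (fun k : F ⟶ (AlgSp.yon S).obj U => k.hom.app _ (R.sec z)) hi).trans (R.proj z)

/-- The property of the base change of the diagonal is read off from the representing scheme. -/
theorem prop_iff (h𝒳 : FibCat.IsFibGrpd 𝒳.p) {T : Over S}
    (y : FibCat.overCat T ⥤ᵇ FibCat.fp (FibCat.toSelf 𝒳) (FibCat.toSelf 𝒳)) {F : AlgSp.Sp S}
    (e : AlgSt.ofSp F ⥤ᵇ FibCat.fp y (FibCat.diag (FibCat.toSelf 𝒳))) (he : FibCat.IsEquivOver e) {W : Over S} {w : W ⟶ T}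
    {ρ : 𝒳.obj} {a : ρ ⟶ (y1 y).obj (Over.mk (𝟙 T))} {b : ρ ⟶ (y2 y).obj (Over.mk (𝟙 T))} (U : Univ w a b)
    (P : MorphismProperty (AlgSp.Sp S)) [P.RespectsIso] :
    P (K745.Lift.q e) ↔ P ((AlgSp.yon S).map w) := by
  obtain ⟨R⟩ := SecRep.nonempty_of_equiv (FibCat.fpFst y (FibCat.diag (FibCat.toSelf 𝒳))) e he
  exact SecRep.prop_iff R (secRep h𝒳 U) P

/-- **Criterion for the diagonal to be finite.** -/
theorem repByAlgSpWith_finite (h𝒳 : FibCat.IsFibGrpd 𝒳.p) {Q : MorphismProperty (AlgSp.Sp S)}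
    (hd : AlgSt.RepByAlgSpWith Q (FibCat.diag (FibCat.toSelf 𝒳)))
    (H : ∀ (T : Over S) (ξ η : 𝒳.obj), 𝒳.p.obj ξ = T → 𝒳.p.obj η = T → ∀ t : T.left,
      ∃ (V : Over S) (g : V ⟶ T) (v : V.left), Etale g.left ∧ g.left v = t ∧
        ∀ (ξ' η' : 𝒳.obj) (a : ξ' ⟶ ξ) (b : η' ⟶ η), 𝒳.p.IsHomLift g a → 𝒳.p.IsHomLift g b →
          ∃ (W : Over S) (w : W ⟶ V) (ρ : 𝒳.obj) (a : ρ ⟶ ξ') (b : ρ ⟶ η'), IsFinite w.left ∧ Univ w a b) :
    AlgSt.RepByAlgSpWith (AlgSp.IsFiniteMor ⊓ Q) (FibCat.diag (FibCat.toSelf 𝒳)) := by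
  intro T y
  obtain ⟨F, e, he, hQ⟩ := hd T y
  refine ⟨F, e, he, ?_, hQ⟩
  choose V g v h1 h2 h3 using H T ((y1 y).obj (Over.mk (𝟙 T))) ((y2 y).obj (Over.mk (𝟙 T)))
    ((y1 y).w_obj _) ((y2 y).w_obj _)
  have hcov := K745.Refine.isFpqcCover_yon V g (fun i => (inferInstance : Flat (g i).left))
    (fun i => (inferInstance : LocallyOfFinitePresentation (g i).left)) (fun t => ⟨t, v t, h2 t⟩)
  have sq : ∀ t, IsPullback (pullback.fst (K745.Lift.q e) ((AlgSp.yon S).map (g t)))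
      (pullback.snd (K745.Lift.q e) ((AlgSp.yon S).map (g t))) (K745.Lift.q e) ((AlgSp.yon S).map (g t)) :=
    fun t => IsPullback.of_hasPullback _ _
  have hA : ∀ t, AlgSp.IsAlgSpace (pullback (K745.Lift.q e) ((AlgSp.yon S).map (g t))) :=
    fun t => K613.Chart.isAlgSpace_pullback F.property (AlgSp.IsAlgSpace.yon_obj _) (AlgSp.IsAlgSpace.yon_obj _) _ _
  refine (Groth.Agent.S10540.result S _ _ (AlgSp.IsAlgSpace.yon_obj T) (fun t => AlgSp.IsAlgSpace.yon_obj _) hcov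
    (K745.Lift.q e) F.property _ _ _ hA sq).2 fun t => ?_
  obtain ⟨k, hk, hq, -⟩ := K745.Lift.exists_rep_overMap e he (g t) (sq t)
  rw [← hq]
  have l1 := om_lift (y1 y) (𝟙 (V t) ≫ g t) (𝟙 T) (𝟙 (V t) ≫ g t) (Category.comp_id _)
  have l2 := om_lift (y2 y) (𝟙 (V t) ≫ g t) (𝟙 T) (𝟙 (V t) ≫ g t) (Category.comp_id _)
  obtain ⟨W, w, ρ, a, b, hw, U⟩ := h3 t _ _ ((y1 y).map (om (𝟙 (V t) ≫ g t) (𝟙 T) (𝟙 (V t) ≫ g t) (Category.comp_id _)))
    ((y2 y).map (om (𝟙 (V t) ≫ g t) (𝟙 T) (𝟙 (V t) ≫ g t) (Category.comp_id _)))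
    (by rw [Category.id_comp] at l1; exact l1) (by rw [Category.id_comp] at l2; exact l2)
  have hR : (AlgSp.RepWith (S := S) @IsFinite).RespectsIso :=
    (inferInstance : (AlgSp.RepWith (S := S) @IsFinite).IsStableUnderBaseChange).respectsIso
  rw [K634.FiniteMor.isFiniteMor_iff]
  exact (prop_iff h𝒳 (BasedFunctor.comp (AlgSt.overMap (g t)) y) k hk (w := w) (a := a) (b := b) U _).2
    ((AlgSp.repWith_yon_map_iff _ _).2 hw)

/-- If the diagonal is finite then isomorphisms are represented by finite schemes. -/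
theorem exists_univ_of_finite (h𝒳 : FibCat.IsFibGrpd 𝒳.p)
    (hd : AlgSt.RepByAlgSpWith AlgSp.IsFiniteMor (FibCat.diag (FibCat.toSelf 𝒳))) {T : Over S}
    (y : FibCat.overCat T ⥤ᵇ FibCat.fp (FibCat.toSelf 𝒳) (FibCat.toSelf 𝒳)) :
    ∃ (W : Over S) (w : W ⟶ T) (ρ : 𝒳.obj) (a : ρ ⟶ (y1 y).obj (Over.mk (𝟙 T))) (b : ρ ⟶ (y2 y).obj (Over.mk (𝟙 T))),
      IsFinite w.left ∧ Univ w a b := by
  obtain ⟨F, e, he, hQ⟩ := hd T y
  change AlgSp.IsFiniteMor (K745.Lift.q e) at hQ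
  rw [K634.FiniteMor.isFiniteMor_iff] at hQ
  obtain ⟨W, w, fst, sq⟩ := hQ.1 (𝟙 ((AlgSp.yon S).obj T))
  have hw : IsFinite w.left := hQ.2 _ _ _ sq
  have hi : IsIso fst := sq.isIso_fst_of_isIso
  obtain ⟨R⟩ := SecRep.nonempty_of_equiv (FibCat.fpFst y (FibCat.diag (FibCat.toSelf 𝒳))) e he
  have hc : (asIso fst).symm.hom ≫ (AlgSp.yon S).map w = K745.Lift.q e := by
    rw [Iso.symm_hom, asIso_inv, IsIso.inv_comp_eq, sq.w, Category.comp_id]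
  obtain ⟨ρ, a, b, U⟩ := exists_univ h𝒳 (ofIso R (asIso fst).symm hc)
  exact ⟨W, w, ρ, a, b, hw, U⟩

end K898.RepI
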