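import Groth.Agent.CurvSt.K898.IsomMain
import Groth.Agent.AlgSp.K597.Proper
import Groth.Agent.AlgSp.K597.EtLoc
import Groth.Agent.AlgSt.K738.RespIso
import Groth.Agent.AlgSt.K738.SecRep2
import Groth.Agent.S10260

/-!
# Separatedness: reduction to locally Noetherian bases

* `isFinite_of` : separated and DM implies finite diagonal.
* `main` : if `MM P S` is DM over `S` for all `S` and separated over `S` for `S` locally Noetherian, then the diagonal
  is finite and `MM P S` is separated over `S` for all `S`.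
-/

set_option autoImplicit false
set_option backward.isDefEq.respectTransparency false
set_option backward.isDefEq.respectTransparency.types false

universe v₂ u₂ u

open CategoryTheory CategoryTheory.Limits AlgebraicGeometry Opposite K734.Fib CurvSt

namespace K898.SepAll

open K898.IsomFin K898.QCParam K898.IsomMain K738

variable {n : ℕ} {S : Scheme.{u}}

/-- A proper and locally quasi-finite morphism to a scheme is finite. -/
theorem isFiniteMor_of {F : AlgSp.Space S} {T : Over S} {f : F.obj ⟶ (AlgSp.yon S).obj T} (hp : AlgSp.IsProperMor f)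
    (hq : AlgSp.LocP (@LocallyQuasiFinite ⊓ @LocallyOfFiniteType) f) : AlgSp.IsFiniteMor f := by
  let Y : AlgSp.Space S := ⟨(AlgSp.yon S).obj T, AlgSp.IsAlgSpace.yon_obj T⟩
  let g : F ⟶ Y := ObjectProperty.homMk f
  have hr : AlgSp.Representable f := Groth.Agent.S10260.result g hq hp.1
  have e1 := (K597.Proper.isProperMor_iff_repWith Y.property hr).1 hp
  have := K597.stableBC_inf @LocallyQuasiFinite.{u} @LocallyOfFiniteType.{u}
  have e3 := K597.repWith_of_locP K597.etLoc_lqf Y.property.hasAtlas hr hq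
  refine K634.FiniteMor.isFiniteMor_iff.2 ⟨hr, fun U V g fst snd sq => ?_⟩
  have i1 : IsProper snd.left := e1.2 _ _ _ sq
  have i2 : (@LocallyQuasiFinite ⊓ @LocallyOfFiniteType : MorphismProperty Scheme.{u}) snd.left := e3.2 _ _ _ sq
  have i3 : LocallyQuasiFinite snd.left := i2.1
  change IsFinite snd.left
  exact IsFinite.iff_isProper_and_locallyQuasiFinite _ |>.2 ⟨i1, i3⟩

theorem isProperMor_of {F : AlgSp.Sp S} {T : Over S} {f : F ⟶ (AlgSp.yon S).obj T} (h : AlgSp.IsFiniteMor f) :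
    AlgSp.IsProperMor f := by
  have h1 := K634.FiniteMor.isFiniteMor_iff.1 h
  exact (K597.Proper.isProperMor_iff_repWith (AlgSp.IsAlgSpace.yon_obj T) h1.1).2
    (K597.repWith_mono (fun _ _ f (_ : IsFinite f) => (inferInstance : IsProper f)) h1)

/-- Separated and DM implies finite diagonal. -/
theorem isFinite_of {𝒳 : BasedCategory.{v₂, u₂} (Over S)}
    (hs : AlgSt.RepByAlgSpWith AlgSp.IsProperMor (FibCat.diag (FibCat.toSelf 𝒳)))
    (hu : AlgSt.RepByAlgSpWith (AlgSp.LocP (@LocallyOfFiniteType ⊓ @FormallyUnramified))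
      (FibCat.diag (FibCat.toSelf 𝒳))) :
    AlgSt.RepByAlgSpWith AlgSp.IsFiniteMor (FibCat.diag (FibCat.toSelf 𝒳)) := by
  intro T y
  obtain ⟨F, e, he, hp⟩ := hs T y
  obtain ⟨F', e', he', hq⟩ := hu T y
  refine ⟨F, e, he, ?_⟩
  obtain ⟨R⟩ := SecRep.nonempty_of_equiv (FibCat.fpFst y (FibCat.diag (FibCat.toSelf 𝒳))) e he
  obtain ⟨R'⟩ := SecRep.nonempty_of_equiv (FibCat.fpFst y (FibCat.diag (FibCat.toSelf 𝒳))) e' he'
  have h1 : AlgSp.LocP (@LocallyOfFiniteType ⊓ @FormallyUnramified)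
      (AlgSt.spMapOfOver (BasedFunctor.comp e (FibCat.fpFst y (FibCat.diag (FibCat.toSelf 𝒳))))) :=
    (SecRep.prop_iff R R' _).2 hq
  refine isFiniteMor_of hp (K597.locP_mono (fun _ _ f hf => ?_) h1)
  have i1 : LocallyOfFiniteType f := hf.1
  have i2 : FormallyUnramified f := hf.2
  exact ⟨K597.locallyQuasiFinite_of_unramified f, i1⟩

theorem mono {𝒳 : BasedCategory.{v₂, u₂} (Over S)} {Q Q' : MorphismProperty (AlgSp.Sp S)}
    (h : AlgSt.RepByAlgSpWith Q (FibCat.diag (FibCat.toSelf 𝒳)))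
    (H : ∀ {F : AlgSp.Sp S} {T : Over S} (f : F ⟶ (AlgSp.yon S).obj T), Q f → Q' f) :
    AlgSt.RepByAlgSpWith Q' (FibCat.diag (FibCat.toSelf 𝒳)) := fun T y => by
  obtain ⟨F, e, he, hp⟩ := h T y
  exact ⟨F, e, he, H _ hp⟩

/-- **Separatedness over locally Noetherian bases implies separatedness over all bases**, the diagonal being finite. -/
theorem main {P : FamProp.{u} n} (hBC : BC P) (hOpen : OpenCond P) (hP : Good P)
    (hD : ∀ S : Scheme.{u}, AlgSt.IsDMOver (MM P S))
    (hN : ∀ (T : Scheme.{u}) [IsLocallyNoetherian T], AlgSt.IsSeparatedOver (MM P T)) (S : Scheme.{u}) :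
    AlgSt.RepByAlgSpWith AlgSp.IsFiniteMor (FibCat.diag (FibCat.toSelf (MM P S))) :=
  mono (K898.IsomMain.main hBC hOpen hP (fun T _ => isFinite_of (hN T) (hD T)) S (hD S)) fun _ h => h.1

theorem isSeparatedOver {P : FamProp.{u} n} (hBC : BC P) (hOpen : OpenCond P) (hP : Good P)
    (hD : ∀ S : Scheme.{u}, AlgSt.IsDMOver (MM P S))
    (hN : ∀ (T : Scheme.{u}) [IsLocallyNoetherian T], AlgSt.IsSeparatedOver (MM P T)) (S : Scheme.{u}) :
    AlgSt.IsSeparatedOver (MM P S) :=
  mono (main hBC hOpen hP hD hN S) fun _ h => isProperMor_of h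

theorem isAffine_diag {P : FamProp.{u} n} (hBC : BC P) (hOpen : OpenCond P) (hP : Good P)
    (hD : ∀ S : Scheme.{u}, AlgSt.IsDMOver (MM P S))
    (hN : ∀ (T : Scheme.{u}) [IsLocallyNoetherian T], AlgSt.IsSeparatedOver (MM P T)) (S : Scheme.{u}) :
    AlgSt.RepByAlgSpWith AlgSp.IsAffineMor (FibCat.diag (FibCat.toSelf (MM P S))) :=
  mono (main hBC hOpen hP hD hN S) fun _ h => K634.FiniteMor.isAffineMor_of_isFiniteMor h

end K898.SepAll
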