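import Groth.Agent.Deform.K680.AutRig
import Groth.Agent.AlgSt.K750.InfAut
import Groth.Agent.CurvSt.K898.StabFam
import Groth.Agent.S1613
import Groth.Agent.S16731
import Groth.Agent.S12938
import Groth.Agent.Fga.DualPushout
import Groth.Agent.CurvSt.K901.FibTools

/-!
# Families of curves without infinitesimal automorphisms form a stack with unramified diagonal

* `hom_eq_id` : `f : C ⟶ Spec κ[ε]` flat, whose geometric fibre has no derivations: an automorphism of `C` over `κ[ε]` which is
  the identity on the closed fibre is the identity.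
* `isDMOver_fullSub` : a full subcategory of `PtFam S n`, algebraic for the fppf topology, whose families are flat and have
  geometric fibres without derivations, is DM over `S`.
-/

set_option autoImplicit false
set_option backward.isDefEq.respectTransparency false
set_option backward.isDefEq.respectTransparency.types false
universe u
open CategoryTheory CategoryTheory.Limits AlgebraicGeometry Opposite CurvSt

namespace K898.Unr

open K750.Unram (incl)

/-- An automorphism of a flat scheme over the dual numbers which is trivial on the closed fibre, when the closed fibre has no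
derivations. -/
theorem hom_eq_id_of_noDer {κ : Type u} [Field κ] {C : Scheme.{u}} (f : C ⟶ Spec (CommRingCat.of (DualNumber κ))) [Flat f]
    {X : Scheme.{u}} {i : X ⟶ C} {x : X ⟶ Spec (CommRingCat.of κ)} (sq : IsPullback i x f (incl κ))
    (hx : K680.AutGeo.NoDer (k := κ) x) (θ : C ≅ C) (h1 : θ.hom ≫ f = f) (h2 : i ≫ θ.hom = i) : θ.hom = 𝟙 C := by
  let ξ : ArtFun.DefSch X x (ArtFun.Art.dual κ κ) :=
    { total := C
      f := f
      flat := inferInstance
      i := i
      isPullback := sq }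
  let e : ξ.Iso ξ := { iso := θ, hom_f := h1, i_hom := h2 }
  exact K680.AutGeo.hom_eq_id_of_noDer e hx

section ext

variable (κ Ω : Type u) [Field κ] [Field Ω] [Algebra κ Ω]

open Groth.Agent.Fga.DualPushout in
/-- Extension of scalars on dual numbers. -/
noncomputable def mp : DualNumber κ →+* DualNumber Ω :=
  dualLift ((TrivSqZeroExt.inlHom Ω Ω).comp (algebraMap κ Ω)) DualNumber.eps (DualNumber.eps_mul_eps)

open Groth.Agent.Fga.DualPushout in
theorem mp_eps : mp κ Ω DualNumber.eps = DualNumber.eps := by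
  simp [mp, dualLift_apply]

open Groth.Agent.Fga.DualPushout in
theorem mp_inl (a : κ) : mp κ Ω (algebraMap κ _ a) = TrivSqZeroExt.inl (algebraMap κ Ω a) := by
  simp [mp, dualLift_apply, TrivSqZeroExt.algebraMap_eq_inl]

open Groth.Agent.Fga.DualPushout in
theorem isPushout_dual : IsPushout (CommRingCat.ofHom (algebraMap κ Ω)) (CommRingCat.ofHom (algebraMap κ (DualNumber κ)))
    (CommRingCat.ofHom (TrivSqZeroExt.inlHom Ω Ω)) (CommRingCat.ofHom (mp κ Ω)) := by
  have w : CommRingCat.ofHom (algebraMap κ Ω) ≫ CommRingCat.ofHom (TrivSqZeroExt.inlHom Ω Ω) =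
      CommRingCat.ofHom (algebraMap κ (DualNumber κ)) ≫ CommRingCat.ofHom (mp κ Ω) := by
    refine CommRingCat.hom_ext (RingHom.ext fun a => ?_)
    exact (mp_inl κ Ω a).symm
  refine ⟨⟨w⟩, ⟨PushoutCocone.IsColimit.mk _
    (fun s => CommRingCat.ofHom (dualLift s.inl.hom (s.inr.hom DualNumber.eps) (by
      rw [← map_mul, DualNumber.eps_mul_eps, map_zero]))) ?_ ?_ ?_⟩⟩
  · intro s
    refine CommRingCat.hom_ext (RingHom.ext fun a => ?_)
    change s.inl.hom (TrivSqZeroExt.inl a : DualNumber Ω).fst + s.inl.hom (TrivSqZeroExt.inl a : DualNumber Ω).snd * _ = _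
    simp
  · intro s
    refine CommRingCat.hom_ext (RingHom.ext fun x => ?_)
    have h1 := eps_ringHom s.inr.hom x
    have h2 : ∀ a, s.inr.hom (algebraMap κ _ a) = s.inl.hom (algebraMap κ Ω a) := fun a =>
      (congrArg (fun k => k.hom a) s.condition).symm
    change s.inl.hom (mp κ Ω x).fst + s.inl.hom (mp κ Ω x).snd * s.inr.hom DualNumber.eps = s.inr.hom x
    rw [h1, h2, h2]
    simp [mp, dualLift_apply]
  · intro s m h1 h2
    refine CommRingCat.hom_ext (RingHom.ext fun x => ?_)
    have h3 := eps_ringHom m.hom x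
    have h4 : ∀ a, m.hom (TrivSqZeroExt.inl a) = s.inl.hom a := fun a => congrArg (fun k => k.hom a) h1
    have h5 : m.hom DualNumber.eps = s.inr.hom DualNumber.eps := by
      rw [← h2]
      exact congrArg m.hom (mp_eps κ Ω).symm
    change m.hom x = s.inl.hom x.fst + s.inl.hom x.snd * s.inr.hom DualNumber.eps
    rw [h3, h5]
    have h6 : ∀ a : Ω, (algebraMap Ω (DualNumber Ω)) a = TrivSqZeroExt.inl a := fun a => rfl
    rw [h6, h6, h4, h4]

/-- `Spec Ω[ε] ⟶ Spec κ[ε]`. -/
noncomputable abbrev ext : Spec (CommRingCat.of (DualNumber Ω)) ⟶ Spec (CommRingCat.of (DualNumber κ)) :=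
  Spec.map (CommRingCat.ofHom (mp κ Ω))

theorem isPullback_ext : IsPullback (Spec.map (CommRingCat.ofHom (TrivSqZeroExt.inlHom Ω Ω))) (ext κ Ω)
    (Spec.map (CommRingCat.ofHom (algebraMap κ Ω))) (Spec.map (CommRingCat.ofHom (algebraMap κ (DualNumber κ)))) :=
  isPullback_SpecMap_of_isPushout _ _ _ _ (isPushout_dual κ Ω)

theorem flat_specMap_field : Flat (Spec.map (CommRingCat.ofHom (algebraMap κ Ω))) := by
  rw [Flat.SpecMap_iff]
  change (algebraMap κ Ω).Flat
  rw [RingHom.flat_algebraMap_iff]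
  infer_instance

theorem surjective_specMap_field : Surjective (Spec.map (CommRingCat.ofHom (algebraMap κ Ω))) := by
  refine ⟨fun x => ⟨IsLocalRing.closedPoint Ω, ?_⟩⟩
  have : Subsingleton (Spec (CommRingCat.of κ)) := inferInstanceAs (Subsingleton (PrimeSpectrum κ))
  exact Subsingleton.elim _ _

instance : Flat (ext κ Ω) := MorphismProperty.of_isPullback (P := @Flat) (isPullback_ext κ Ω) (flat_specMap_field κ Ω)

instance : Surjective (ext κ Ω) :=
  MorphismProperty.of_isPullback (P := @Surjective) (isPullback_ext κ Ω) (surjective_specMap_field κ Ω)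

theorem incl_ext : incl Ω ≫ ext κ Ω = Spec.map (CommRingCat.ofHom (algebraMap κ Ω)) ≫ incl κ := by
  rw [← Spec.map_comp, ← Spec.map_comp]
  congr 1
  refine CommRingCat.hom_ext (RingHom.ext fun x => ?_)
  change (mp κ Ω x).fst = algebraMap κ Ω x.fst
  simp [mp, Groth.Agent.Fga.DualPushout.dualLift_apply]

end ext

/-- The same, the condition being tested on geometric fibres. -/
theorem hom_eq_id {κ : Type u} [Field κ] {C : Scheme.{u}} (f : C ⟶ Spec (CommRingCat.of (DualNumber κ))) [Flat f]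
    {X : Scheme.{u}} {i : X ⟶ C} {x : X ⟶ Spec (CommRingCat.of κ)} (sq : IsPullback i x f (incl κ))
    (hx : ∀ (Ω : Type u) [Field Ω] [IsAlgClosed Ω] (t : Spec (CommRingCat.of Ω) ⟶ Spec (CommRingCat.of (DualNumber κ)))
      (Y : Scheme.{u}) (j : Y ⟶ C) (y : Y ⟶ Spec (CommRingCat.of Ω)), IsPullback j y f t → K680.AutGeo.NoDer (k := Ω) y)
    (θ : C ≅ C) (h1 : θ.hom ≫ f = f) (h2 : i ≫ θ.hom = i) : θ.hom = 𝟙 C := by
  let Ω := AlgebraicClosure κ
  let g := ext κ Ω
  let C' := pullback f g
  let p : C' ⟶ C := pullback.fst f g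
  let f' : C' ⟶ Spec (CommRingCat.of (DualNumber Ω)) := pullback.snd f g
  have sqC : IsPullback p f' f g := IsPullback.of_hasPullback f g
  have h1' : θ.inv ≫ f = f := by rw [Iso.inv_comp_eq, h1]
  let θ' : C' ≅ C' :=
    { hom := sqC.lift (p ≫ θ.hom) f' (by rw [Category.assoc, h1, sqC.w])
      inv := sqC.lift (p ≫ θ.inv) f' (by rw [Category.assoc, h1', sqC.w])
      hom_inv_id := by
        apply sqC.hom_ext
        · rw [Category.assoc, sqC.lift_fst, sqC.lift_fst_assoc, Category.assoc, Iso.hom_inv_id, Category.comp_id,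
            Category.id_comp]
        · rw [Category.assoc, sqC.lift_snd, sqC.lift_snd, Category.id_comp]
      inv_hom_id := by
        apply sqC.hom_ext
        · rw [Category.assoc, sqC.lift_fst, sqC.lift_fst_assoc, Category.assoc, Iso.inv_hom_id, Category.comp_id,
            Category.id_comp]
        · rw [Category.assoc, sqC.lift_snd, sqC.lift_snd, Category.id_comp] }
  have hθ1 : θ'.hom ≫ p = p ≫ θ.hom := sqC.lift_fst _ _ _
  have hθ2 : θ'.hom ≫ f' = f' := sqC.lift_snd _ _ _
  let X' := pullback f' (incl Ω)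
  let j : X' ⟶ C' := pullback.fst f' (incl Ω)
  let x' : X' ⟶ Spec (CommRingCat.of Ω) := pullback.snd f' (incl Ω)
  have sqX : IsPullback j x' f' (incl Ω) := IsPullback.of_hasPullback _ _
  have hno : K680.AutGeo.NoDer (k := Ω) x' := hx Ω (incl Ω ≫ g) X' (j ≫ p) x' (sqX.paste_horiz sqC)
  -- `X' ⟶ C` factors through `X`
  have hw : (j ≫ p) ≫ f = (x' ≫ Spec.map (CommRingCat.ofHom (algebraMap κ Ω))) ≫ incl κ := by
    rw [Category.assoc, sqC.w, ← Category.assoc, sqX.w, Category.assoc, Category.assoc, incl_ext]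
  have hfac : sq.lift (j ≫ p) _ hw ≫ i = j ≫ p := sq.lift_fst _ _ _
  have hj : j ≫ θ'.hom = j := by
    apply sqC.hom_ext
    · rw [Category.assoc, hθ1, ← Category.assoc, ← hfac, Category.assoc, h2]
    · rw [Category.assoc, hθ2]
  have hf' : Flat f' := inferInstance
  have hid := hom_eq_id_of_noDer f' sqX hno θ' hθ2 hj
  have hp1 : Flat p := inferInstanceAs (Flat (pullback.fst f g))
  have hp2 : Surjective p := inferInstanceAs (Surjective (pullback.fst f g))
  have hepi : Epi p := Flat.epi_of_flat_of_surjective p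
  rw [← cancel_epi p, ← hθ1, hid, Category.id_comp, Category.comp_id]

section stack

variable {S : Scheme.{u}} {n : ℕ} {𝒬 : PtFamObj S n → Prop}

/-- A full subcategory of the category of pointed families, algebraic for the fppf topology, whose members are flat and have
geometric fibres without derivations, is DM over `S`. -/
theorem isDMOver_fullSub (h : AlgSt.IsAlgStack Scheme.fppfPrecoverage (AlgSt.fullSub (PtFam S n) 𝒬))
    (hflat : ∀ B, 𝒬 B → Flat B.f)
    (hder : ∀ B, 𝒬 B → ∀ (Ω : Type u) [Field Ω] [IsAlgClosed Ω] (t : Spec (CommRingCat.of Ω) ⟶ B.base.left)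
      (Y : Scheme.{u}) (j : Y ⟶ B.C) (y : Y ⟶ Spec (CommRingCat.of Ω)), IsPullback j y B.f t →
        K680.AutGeo.NoDer (k := Ω) y) :
    AlgSt.IsDMOver (AlgSt.fullSub (PtFam S n) 𝒬) := by
  have hX := h.isStack.1
  refine K750.InfAut.dm_of_aut_trivial hX K735.Fp.isFibGrpd_selfOver (Groth.Agent.S12938.result S _ h) ?_
  intro κ _ s xt Θ hΘ _
  apply K734.Fib.hom_ext_one hX
  let T : Over S := Over.mk s
  let T₀ : Over S := Over.mk (incl κ ≫ s)
  let i₀ : T₀ ⟶ T := Over.homMk (incl κ) rfl
  let B := xt.obj (K734.Fib.one T)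
  let z : (FibCat.overCat T).obj := (AlgSt.overMap i₀).obj (Over.mk (𝟙 T₀))
  let B₀ := xt.obj z
  let m : z ⟶ K734.Fib.one T := K734.Fib.toOne _
  let μ : B₀ ⟶ B := xt.map m
  let θ : B ⟶ B := Θ.hom.toNatTrans.app (K734.Fib.one T)
  let θ' : B ⟶ B := Θ.inv.toNatTrans.app (K734.Fib.one T)
  have hμ : μ ≫ θ = μ := by
    have h1 := Θ.hom.toNatTrans.naturality m
    have h2 : Θ.hom.toNatTrans.app z = 𝟙 _ :=
      congrArg (fun w : (BasedFunctor.comp (AlgSt.overMap i₀) xt) ⟶ (BasedFunctor.comp (AlgSt.overMap i₀) xt) =>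
        w.toNatTrans.app (Over.mk (𝟙 T₀))) hΘ
    rw [h2] at h1
    exact h1.trans (Category.id_comp _)
  -- identifications of the bases
  have eB : B.obj.base = T := xt.w_obj (K734.Fib.one T)
  have eB₀ : B₀.obj.base = T₀ := xt.w_obj z
  have hμb : μ.hom.base = eqToHom eB₀ ≫ i₀ ≫ eqToHom eB.symm := by
    have h1 := K735.Fib.map_map xt m
    have h2 : (FibCat.overCat T).p.map m = i₀ := by
      change (Over.mk (𝟙 T₀)).hom ≫ i₀ = i₀
      exact Category.id_comp _
    rw [h2] at h1
    exact h1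
  have hθb : θ.hom.base = 𝟙 _ := (K734.Fib.hom_vert Θ.hom (K734.Fib.one T)).map_eq
  have hθ'b : θ'.hom.base = 𝟙 _ := (K734.Fib.hom_vert Θ.inv (K734.Fib.one T)).map_eq
  have hc1 : θ ≫ θ' = 𝟙 _ := K901.FibTools.hom_inv_app Θ _
  have hc2 : θ' ≫ θ = 𝟙 _ := K901.FibTools.inv_hom_app Θ _
  let φ : B.obj.C ≅ B.obj.C :=
    { hom := θ.hom.top
      inv := θ'.hom.top
      hom_inv_id := congrArg (fun w : B ⟶ B => w.hom.top) hc1
      inv_hom_id := congrArg (fun w : B ⟶ B => w.hom.top) hc2 }
  let f' : B.obj.C ⟶ T.left := B.obj.f ≫ (eqToHom eB).left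
  let x' : B₀.obj.C ⟶ T₀.left := B₀.obj.f ≫ (eqToHom eB₀).left
  have sq : IsPullback μ.hom.top x' f' (incl κ) := by
    refine IsPullback.of_iso μ.hom.cart (Iso.refl _) (Iso.refl _) ((Over.forget S).mapIso (eqToIso eB₀))
      ((Over.forget S).mapIso (eqToIso eB)) ?_ ?_ ?_ ?_
    · simp
    · simp [x']
    · simp [f']
    · rw [hμb]
      change (eqToHom eB₀ ≫ i₀ ≫ eqToHom eB.symm).left ≫ (eqToHom eB).left = (eqToHom eB₀).left ≫ i₀.left
      rw [← Over.comp_left, ← Over.comp_left]
      simp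
  have hfl : Flat B.obj.f := hflat _ B.property
  have hfl' : Flat f' := inferInstance
  have h3 : φ.hom = 𝟙 _ := by
    refine hom_eq_id f' sq ?_ φ ?_ ?_
    · intro Ω _ _ t Y j y hY
      refine hder B.obj B.property Ω (t ≫ (eqToHom eB.symm).left) Y j y ?_
      refine IsPullback.of_iso hY (Iso.refl _) (Iso.refl _) (Iso.refl _)
        ((Over.forget S).mapIso (eqToIso eB.symm)) ?_ ?_ ?_ ?_
      · simp
      · simp
      · change (B.obj.f ≫ (eqToHom eB).left) ≫ (eqToHom eB.symm).left = 𝟙 _ ≫ B.obj.f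
        rw [Category.assoc, ← Over.comp_left]
        simp
      · change t ≫ (eqToHom eB.symm).left = 𝟙 _ ≫ t ≫ (eqToHom eB.symm).left
        rw [Category.id_comp]
    · have h5 : θ.hom.top ≫ B.obj.f = B.obj.f := by
        rw [θ.hom.cart.w, hθb]
        exact Category.comp_id _
      change θ.hom.top ≫ B.obj.f ≫ _ = B.obj.f ≫ _
      rw [reassoc_of% h5]
    · exact congrArg (fun w : B₀ ⟶ B => w.hom.top) hμ
  apply ObjectProperty.hom_ext
  exact PtFamObj.hom_ext hθb h3

end stack

end K898.Unr
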